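import Cfsg.Agent.H74.Glau.CoreLemmas

/-!
The constrained case of the fusion theorem for a relation.
-/

set_option autoImplicit false
set_option maxHeartbeats 1000000

namespace H74.Glau

open Subgroup

universe u

variable {p : ℕ} [Fact p.Prime]

/-- Elements fixing `z` modulo `Z₀`. -/
def centMod {G : Type*} [Group G] (Z₀ : Subgroup G) [Z₀.Normal] (z : G) : Subgroup G :=
  (centralizer {QuotientGroup.mk' Z₀ z}).comap (QuotientGroup.mk' Z₀)

theorem mem_centMod {G : Type*} [Group G] {Z₀ : Subgroup G} [Z₀.Normal] {z g : G} :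
    g ∈ centMod Z₀ z ↔ g * z * g⁻¹ * z⁻¹ ∈ Z₀ := by
  rw [centMod, mem_comap, mem_centralizer_singleton_iff, ← mul_inv_eq_one, mul_inv_rev, ← mul_assoc,
    ← map_inv, ← map_inv, ← map_mul, ← map_mul, ← map_mul]
  exact QuotientGroup.eq_one_iff _

/-- Hypotheses of the constrained case. -/
structure Ctx {G : Type u} [Group G] [Finite G] (p : ℕ) [Fact p.Prime] (S : Sylow p G)
    (E : Subgroup G → G → Prop) (Z₀ : Subgroup G) [Z₀.Normal] (z : G) : Prop where
  rel : IsRel E
  z_mem : z ∈ Cfsg.pCore p G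
  Z_le : Z₀ ≤ Cfsg.pCore p G
  z_fix : (S : Subgroup G) ≤ centMod Z₀ z
  z_pow : z ^ p ∈ Z₀
  z_W : z ∈ Cfsg.centerThompsonAOf (S : Subgroup G)
  Z_W : Z₀ ≤ Cfsg.centerThompsonAOf (S : Subgroup G)
  cons : (S : Subgroup G) ⊓ centralizer (Cfsg.pCore p G : Set G) ≤ Cfsg.pCore p G
  hH : NMoves E (S : Subgroup G) (normalizer (Cfsg.centerThompsonAOf (S : Subgroup G) : Set G))
  hC : NMoves E (S : Subgroup G) (centMod Z₀ z)

theorem centerThompsonAOf_subgroupOf {G : Type*} [Group G] [Finite G] {R M : Subgroup G} (hR : R ≤ M) :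
    (Cfsg.centerThompsonAOf (R.subgroupOf M)).map M.subtype = Cfsg.centerThompsonAOf R := by
  rw [H11.map_centerThompsonAOf M.subtype _ (fun x _ hx => M.subtype_injective (hx.trans (map_one _).symm)),
    map_subgroupOf_eq_of_le hR]

/-- The hypotheses descend to a subgroup containing the core. -/
theorem Ctx.descend {G : Type u} [Group G] [Finite G] {S : Sylow p G}
    {E : Subgroup G → G → Prop} {Z₀ : Subgroup G} [Z₀.Normal] {z : G} (c : Ctx p S E Z₀ z)
    {M R : Subgroup G} (hQM : Cfsg.pCore p G ≤ M) (SR : Sylow p M)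
    (hSR : (SR : Subgroup M) = R.subgroupOf M) (hRM : R ≤ M) (hRS : R ≤ (S : Subgroup G))
    (hQR : Cfsg.pCore p G ≤ R) {A : Subgroup G}
    (hA : A ∈ H11.maxFam (fun A : Subgroup G => IsMulCommutative A) (S : Subgroup G)) (hAR : A ≤ R)
    (hH : NMoves E R (M ⊓ normalizer (Cfsg.centerThompsonAOf R : Set G))) :
    Ctx p SR (pullRel M.subtype E) (Z₀.subgroupOf M) ⟨z, hQM c.z_mem⟩ := by
  haveI := H1.pCore_normal' p G
  have hQn : ((Cfsg.pCore p G).subgroupOf M).Normal := inferInstance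
  have hQ' : (Cfsg.pCore p G).subgroupOf M ≤ Cfsg.pCore p M :=
    H1.le_pCore ((H1.isPGroup_pCore p G).comap_of_injective M.subtype M.subtype_injective)
  have hW : Cfsg.centerThompsonAOf (S : Subgroup G) ≤ Cfsg.centerThompsonAOf R :=
    centerThompsonAOf_le_of_le hRS hA hAR
  have hWmem : ∀ x : M, (x : G) ∈ Cfsg.centerThompsonAOf R →
      x ∈ Cfsg.centerThompsonAOf (SR : Subgroup M) := by
    intro x hx
    rw [hSR]
    rw [← centerThompsonAOf_subgroupOf hRM] at hx
    exact (mem_map_iff_mem M.subtype_injective).mp hx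
  have hmapR : (SR : Subgroup M).map M.subtype = R := by rw [hSR, map_subgroupOf_eq_of_le hRM]
  refine ⟨c.rel.pull _, hQ' c.z_mem, fun x hx => hQ' (c.Z_le hx), ?_, ?_, hWmem _ (hW c.z_W),
    fun x hx => hWmem x (hW (c.Z_W hx)), ?_, ?_, ?_⟩
  · intro s hs
    have hs' : (s : G) ∈ R := hmapR ▸ ⟨s, hs, rfl⟩
    rw [mem_centMod, mem_subgroupOf]
    simpa using mem_centMod.mp (c.z_fix (hRS hs'))
  · rw [mem_subgroupOf]; simpa using c.z_pow
  · rintro x ⟨hx, hxc⟩
    have hx' : (x : G) ∈ R := hmapR ▸ ⟨x, hx, rfl⟩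
    refine hQ' (c.cons ⟨hRS hx', mem_centralizer_iff.mpr fun q hq => ?_⟩)
    exact congrArg Subtype.val (mem_centralizer_iff.mp hxc ⟨q, hQM hq⟩ (hQ' hq))
  · refine nmoves_pull M.subtype hH hmapR.le (le_inf (map_subtype_le _) ?_)
    rw [hSR]
    refine (le_normalizer_map M.subtype).trans ?_
    rw [centerThompsonAOf_subgroupOf hRM]
  · refine nmoves_pull M.subtype c.hC (hmapR.le.trans hRS) ?_
    rintro _ ⟨x, hx, rfl⟩
    have hx' := mem_centMod.mp hx
    rw [mem_subgroupOf] at hx'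
    rw [mem_centMod]
    simpa using hx'

theorem core (hp : p ≠ 2) {a : (ZMod p)ˣ} (ha : orderOf a = p - 1) :
    ∀ (n : ℕ) (G : Type u) [Group G] [Finite G], Nat.card G ≤ n → ∀ (S : Sylow p G)
      (E : Subgroup G → G → Prop) (Z₀ : Subgroup G) [Z₀.Normal] (z : G), Ctx p S E Z₀ z →
      NMoves E (S : Subgroup G) ⊤ ∨
        (GoodC p (a : ZMod p).val E S z ∧ GoodF p E S) := by
  intro n
  induction n with
  | zero => intro G _ _ h; exact absurd (Nat.card_pos (α := G)) (by omega)
  | succ n ih =>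
  intro G _ _ hn S E Z₀ _ z c
  classical
  have hpp : p.Prime := Fact.out
  haveI : NeZero p := ⟨hpp.ne_zero⟩
  set b := (a : ZMod p).val with hbdef
  have hba : (b : ZMod p) = a := ZMod.natCast_zmod_val _
  have ha1 : (a : ZMod p) ≠ 1 := by
    intro e
    rw [Units.val_eq_one] at e
    rw [e, orderOf_one] at ha
    have := hpp.two_le
    omega
  haveI hQn : (Cfsg.pCore p G).Normal := H1.pCore_normal' p G
  set Q := Cfsg.pCore p G with hQdef
  have hQp : IsPGroup p Q := H1.isPGroup_pCore p G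
  have hQS : Q ≤ (S : Subgroup G) := H1.pCore_le_sylow S
  have hE := c.rel
  by_cases hCz : centMod Z₀ z = ⊤
  · exact Or.inl (hCz ▸ c.hC)
  -- the section
  set B := normalClosure {z} ⊔ Z₀ with hB
  have hBQ : B ≤ Q := sup_le (normalClosure_le_normal (Set.singleton_subset_iff.mpr c.z_mem)) c.Z_le
  haveI hBn : B.Normal := inferInstance
  have hzB : z ∈ B := mem_sup_left (subset_normalClosure rfl)
  have hZB : Z₀ ≤ B := le_sup_right
  -- commutators with `Q` lie in `Z₀`
  have hQB : ∀ q ∈ Q, ∀ x ∈ B, q * x * q⁻¹ * x⁻¹ ∈ Z₀ := by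
    let Bc : Subgroup G := (centralizer ((Q.map (QuotientGroup.mk' Z₀) : Subgroup _) : Set (G ⧸ Z₀))).comap
      (QuotientGroup.mk' Z₀)
    haveI : (Q.map (QuotientGroup.mk' Z₀)).Normal := hQn.map _ (QuotientGroup.mk'_surjective Z₀)
    haveI : Bc.Normal := Subgroup.Normal.comap inferInstance _
    have hle : B ≤ Bc := by
      refine sup_le (normalClosure_le_normal (Set.singleton_subset_iff.mpr ?_)) fun x hx => ?_
      · refine mem_centralizer_iff.mpr ?_
        rintro _ ⟨q, hq, rfl⟩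
        exact mem_centralizer_singleton_iff.mp (c.z_fix (hQS hq))
      · refine mem_centralizer_iff.mpr ?_
        rintro _ ⟨q, _, rfl⟩
        rw [show QuotientGroup.mk' Z₀ x = 1 from (QuotientGroup.eq_one_iff x).mpr hx, mul_one, one_mul]
    intro q hq x hx
    have h := mem_centralizer_iff.mp (hle hx) _ ⟨q, hq, rfl⟩
    refine (QuotientGroup.eq_one_iff _).mp ?_
    show QuotientGroup.mk' Z₀ (q * x * q⁻¹ * x⁻¹) = 1
    rw [map_mul, map_mul, map_mul, map_inv, map_inv, h]
    group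
  have hcomm : ∀ x ∈ B, ∀ y ∈ B, x * y * x⁻¹ * y⁻¹ ∈ Z₀ := fun x hx y hy => hQB x (hBQ hx) y hy
  have hpow : ∀ x ∈ B, x ^ p ∈ Z₀ := by
    let π := QuotientGroup.mk' Z₀
    let T : Subgroup G :=
      { carrier := {x | x ∈ B ∧ π x ^ p = 1}
        one_mem' := ⟨one_mem _, by rw [map_one, one_pow]⟩
        mul_mem' := fun {x y} ⟨hx, hx'⟩ ⟨hy, hy'⟩ => ⟨mul_mem hx hy, by
          have hc : Commute (π x) (π y) := by
            rw [commute_iff_eq, ← mul_inv_eq_one, ← map_mul, ← map_mul, ← map_inv, ← map_mul,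
              mul_inv_rev, ← mul_assoc]
            exact (QuotientGroup.eq_one_iff _).mpr (hcomm x hx y hy)
          rw [map_mul, hc.mul_pow, hx', hy', one_mul]⟩
        inv_mem' := fun {x} ⟨hx, hx'⟩ => ⟨inv_mem hx, by rw [map_inv, inv_pow, hx', inv_one]⟩ }
    haveI : T.Normal := Subgroup.Normal.mk fun x ⟨hx, hx'⟩ g => ⟨hBn.conj_mem x hx g, by
      rw [map_mul, map_mul, map_inv, conj_pow, hx', mul_one, mul_inv_cancel]⟩
    have hle : B ≤ T := sup_le
      (normalClosure_le_normal (Set.singleton_subset_iff.mpr ⟨hzB, by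
        rw [← map_pow]; exact (QuotientGroup.eq_one_iff _).mpr c.z_pow⟩))
      fun x hx => ⟨hZB hx, by
        rw [show π x = 1 from (QuotientGroup.eq_one_iff x).mpr hx, one_pow]⟩
    intro x hx
    refine (QuotientGroup.eq_one_iff _).mp ?_
    rw [← QuotientGroup.mk'_apply, map_pow]
    exact (hle hx).2
  obtain ⟨V, _, _, ρ, σ, hpV, hσs, hσ1, hσ⟩ := exists_section_module (p := p) hcomm hpow
  set K := ρ.ker with hK
  have hρ : ∀ g, (∀ x ∈ B, g * x * g⁻¹ * x⁻¹ ∈ Z₀) → ρ g = 1 := by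
    intro g hg
    refine AddMonoidHom.ext fun v => ?_
    obtain ⟨x, hx⟩ := hσs (Multiplicative.ofAdd v)
    obtain ⟨hc, hc'⟩ := hσ g x
    have h1 : σ (⟨g * x * g⁻¹, hc⟩ * x⁻¹) = 1 := (hσ1 _).mpr (by simpa using hg x x.2)
    rw [map_mul, map_inv, mul_inv_eq_one] at h1
    rw [h1, hx] at hc'
    exact hc'.symm
  have hQK : Q ≤ K := fun q hq => hρ q (hQB q hq)
  have hBK : B ≤ K := hBQ.trans hQK
  set zv := (σ ⟨z, hzB⟩).toAdd with hzv
  have hfix : ∀ g, g ∈ centMod Z₀ z ↔ ρ g zv = zv := by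
    intro g
    obtain ⟨hc, hc'⟩ := hσ g ⟨z, hzB⟩
    rw [mem_centMod, hzv, ← hc', Multiplicative.toAdd.injective.eq_iff]
    rw [← mul_inv_eq_one (a := σ ⟨g * z * g⁻¹, hc⟩), ← map_inv, ← map_mul, hσ1]
    simp
  have hKz : K ≤ centMod Z₀ z := fun k hk => (hfix k).mpr (by rw [MonoidHom.mem_ker.mp hk]; rfl)
  -- the vectors of the orbit generate
  have hgenV : AddSubgroup.closure (Set.range fun g : G => ρ g zv) = ⊤ := by
    rw [eq_top_iff]
    intro v _
    obtain ⟨⟨x, hx⟩, hx'⟩ := hσs (Multiplicative.ofAdd v)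
    let L : Subgroup G :=
      { carrier := {y | ∃ hy : y ∈ B, (σ ⟨y, hy⟩).toAdd ∈ AddSubgroup.closure (Set.range fun g : G => ρ g zv)}
        one_mem' := ⟨one_mem _, by
          show (σ 1).toAdd ∈ _
          rw [map_one, toAdd_one]; exact zero_mem _⟩
        mul_mem' := by
          rintro x y ⟨hx, hx'⟩ ⟨hy, hy'⟩
          refine ⟨mul_mem hx hy, ?_⟩
          rw [show (⟨x * y, mul_mem hx hy⟩ : B) = ⟨x, hx⟩ * ⟨y, hy⟩ from rfl, map_mul, toAdd_mul]
          exact add_mem hx' hy'
        inv_mem' := by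
          rintro x ⟨hx, hx'⟩
          refine ⟨inv_mem hx, ?_⟩
          rw [show (⟨x⁻¹, inv_mem hx⟩ : B) = ⟨x, hx⟩⁻¹ from rfl, map_inv, toAdd_inv]
          exact neg_mem hx' }
    have hle : B ≤ L := by
      refine sup_le ((Subgroup.closure_le _).mpr fun y hy => ?_) fun y hy => ⟨hZB hy, ?_⟩
      · obtain ⟨w, hw, hyc⟩ := Group.mem_conjugatesOfSet_iff.mp hy
        rw [Set.mem_singleton_iff.mp hw] at hyc
        obtain ⟨g, rfl⟩ := isConj_iff.mp hyc
        obtain ⟨hc, hc'⟩ := hσ g ⟨_, hzB⟩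
        exact ⟨hc, hc' ▸ AddSubgroup.subset_closure ⟨g, rfl⟩⟩
      · rw [(hσ1 ⟨y, hZB hy⟩).mpr hy, toAdd_one]; exact zero_mem _
    obtain ⟨hy, hy'⟩ := hle hx
    rwa [hx'] at hy'
  set fam := H11.maxFam (fun A : Subgroup G => IsMulCommutative A) (S : Subgroup G) with hfam
  have hWeq : Cfsg.centerThompsonAOf (S : Subgroup G) = sInf fam := H11.centerThompsonAOf_eq _
  have hmemK : ∀ U ∈ fam, B ≤ U → U ≤ K := fun U hU hBU x hx => hρ x fun y hy => by
    rw [show x * y * x⁻¹ * y⁻¹ = 1 by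
      rw [(H11.comm_of_mulCommutative hU.2.1 hx (hBU hy)).eq]; group]
    exact one_mem _
  by_cases hall : ∀ U ∈ fam, B ≤ U
  · left
    refine nmoves_split hE S K (c.hC.mono_group (sup_le hKz c.z_fix)) (c.hH.mono_group ?_)
    rw [← centerThompsonAOf_eq_of_maxFam_le (inf_le_left : (S : Subgroup G) ⊓ K ≤ S)
      (fun U hU => le_inf hU.1 (hmemK U hU (hall U hU)))]
    exact H11.normalizer_le_normalizer_centerThompsonAOf _
  push Not at hall
  obtain ⟨U₀, hU₀, hU₀B⟩ := hall
  right
  have hZfam : ∀ U ∈ fam, Z₀ ≤ U := fun U hU => c.Z_W.trans (hWeq.le.trans (sInf_le hU))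
  obtain ⟨A, hA, -, hAB, hAn⟩ := H11.exists_normalized_of_not_le H11.replProp_comm hp (S : Subgroup G)
    S.isPGroup' (S : Subgroup G) B le_rfl (hBQ.trans hQS) le_normalizer le_normalizer_of_normal
    ⟨U₀, hU₀, (commutator_le.mpr fun x hx y hy => hZfam U₀ hU₀ (by
      rw [commutatorElement_def]; exact hcomm x hx y hy)), hU₀B⟩
  -- `A` acts nontrivially
  have hAK : ¬ A ≤ K := by
    intro hAK
    apply hAB
    set W₁ := Cfsg.centerThompsonAOf ((S : Subgroup G) ⊓ K)
    have hWW₁ : Cfsg.centerThompsonAOf (S : Subgroup G) ≤ W₁ :=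
      centerThompsonAOf_le_of_le inf_le_left hA (le_inf hA.1 hAK)
    have hBW : B ≤ W₁ := by
      refine sup_le ((Subgroup.closure_le _).mpr fun y hy => ?_) (c.Z_W.trans hWW₁)
      obtain ⟨w, hw, hyc⟩ := Group.mem_conjugatesOfSet_iff.mp hy
      rw [Set.mem_singleton_iff.mp hw] at hyc
      obtain ⟨g, rfl⟩ := isConj_iff.mp hyc
      have hg : g ∈ normalizer (((S : Subgroup G) ⊓ K : Subgroup G) : Set G) ⊔ K := by
        rw [H11.normalizer_inf_sup_eq_top S K]; exact mem_top g
      rw [mem_sup_of_normal_right] at hg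
      obtain ⟨m, hm, k, hk, rfl⟩ := hg
      have h1 := mem_centMod.mp (hKz hk)
      have h2 : k * z * k⁻¹ ∈ W₁ := by
        have := W₁.mul_mem (hWW₁ (c.Z_W h1)) (hWW₁ c.z_W)
        rwa [inv_mul_cancel_right] at this
      have h3 := (mem_normalizer_iff.mp
        (H11.normalizer_le_normalizer_centerThompsonAOf _ hm) (k * z * k⁻¹)).mp h2
      show m * k * z * (m * k)⁻¹ ∈ W₁
      rwa [show m * k * z * (m * k)⁻¹ = m * (k * z * k⁻¹) * m⁻¹ by group]
    refine hBW.trans ?_
    show Cfsg.centerThompsonAOf _ ≤ A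
    rw [H11.centerThompsonAOf_eq]
    exact sInf_le (H11.mem_maxFam_of_mem inf_le_left hA (le_inf hA.1 hAK))
  set A' := A ⊔ Q with hA'
  have hA'S : A' ≤ (S : Subgroup G) := sup_le hA.1 hQS
  have hA'p : IsPGroup p A' := S.isPGroup'.to_le hA'S
  have hquad : QuadSub ρ A' := by
    have key : ∀ g ∈ A', ∃ g₀ ∈ A, ρ g = ρ g₀ := by
      intro g hg
      rw [hA', mem_sup_of_normal_right] at hg
      obtain ⟨g₀, hg₀, q, hq, rfl⟩ := hg
      exact ⟨g₀, hg₀, by rw [map_mul, MonoidHom.mem_ker.mp (hQK hq), mul_one]⟩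
    intro s hs t ht v
    obtain ⟨s₀, hs₀, es⟩ := key s hs
    obtain ⟨t₀, ht₀, et⟩ := key t ht
    rw [es, et]
    obtain ⟨x, hx⟩ := hσs (Multiplicative.ofAdd v)
    obtain ⟨hc, hc'⟩ := hσ t₀ x
    have he : ρ t₀ v - v = (σ (⟨t₀ * x * t₀⁻¹, hc⟩ * x⁻¹)).toAdd := by
      rw [map_mul, map_inv, toAdd_mul, toAdd_inv, hc', hx, toAdd_ofAdd, sub_eq_add_neg]
    rw [he]
    set d : B := ⟨t₀ * x * t₀⁻¹, hc⟩ * x⁻¹ with hd
    have hdA : (d : G) ∈ A := by
      have h1 := (mem_normalizer_iff.mp (hAn x.2) t₀⁻¹).mp (inv_mem ht₀)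
      have h2 : t₀ * ((x : G) * t₀⁻¹ * (x : G)⁻¹) ∈ A := mul_mem ht₀ h1
      simpa [hd, mul_assoc] using h2
    obtain ⟨hc2, hc2'⟩ := hσ s₀ d
    rw [← hc2']
    congr 2
    apply Subtype.ext
    show s₀ * (d : G) * s₀⁻¹ = d
    rw [(H11.comm_of_mulCommutative hA.2.1 hs₀ hdA).eq, mul_inv_cancel_right]
  by_contra hno
  -- big subgroups
  let Big : Subgroup G → Prop := fun U => Q ≤ U ∧ ∃ M ∈ fam, M ≤ U ∧ ¬ M ≤ K
  let Tok : Subgroup G → Prop := fun T => normalizer (T : Set G) ≠ ⊤ ∧ Q ≤ normalizer (T : Set G)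
  have hQcj : ∀ g, cj Q g = Q := fun g => cj_normalizer (by rw [normalizer_eq_top]; exact mem_top g)
  have hbigA : Big A' := ⟨le_sup_right, A, hA, le_sup_left, hAK⟩
  have hconj : ∀ (U : Subgroup G) (g : G), U ≤ (S : Subgroup G) → cj U g ≤ (S : Subgroup G) →
      Big U → Big (cj U g) := by
    rintro U g _ hgU ⟨hQU, M, hM, hMU, hMK⟩
    refine ⟨(hQcj g).ge.trans (map_mono hQU), cj M g, ⟨(map_mono hMU).trans hgU,
      H11.isMulCommutative_map hM.2.1 _, fun C hC hC' => ?_⟩, map_mono hMU, fun hle => hMK fun m hm => ?_⟩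
    · rw [cj, card_map_of_injective (MulAut.conj g).injective]
      exact hM.2.2 C hC hC'
    · have h1 := hle (mem_cj hm)
      have := Subgroup.Normal.conj_mem (H := K) inferInstance _ h1 g⁻¹
      simpa [mul_assoc] using this
  have hbm : (∀ U ≤ (S : Subgroup G), Big U → ∀ g, cj U g ≤ (S : Subgroup G) → E U g) ∧
      ∀ R ≤ (S : Subgroup G), Big R →
        NMoves E R (normalizer (Cfsg.centerThompsonAOf R : Set G)) := by
    refine big_moves hE S Big Tok (fun R => Cfsg.centerThompsonAOf R)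
      (fun R _ => H11.centerThompsonAOf_le R) (fun R _ => H11.normalizer_le_normalizer_centerThompsonAOf R)
      (fun U U' hUU' _ ⟨h1, M, hM, h2, h3⟩ => ⟨h1.trans hUU', M, hM, h2.trans hUU', h3⟩) hconj ?_ ?_ ?_
      c.hH ?_
    · -- `Tok` of a big subgroup
      rintro U hU ⟨hQU, M, hM, hMU, hMK⟩ _
      refine ⟨fun e => hMK ?_, hQU.trans le_normalizer⟩
      haveI : U.Normal := normalizer_eq_top_iff.mp e
      exact (hMU.trans (H1.le_pCore (S.isPGroup'.to_le hU))).trans hQK
    · rintro T g ⟨hT1, hT2⟩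
      refine ⟨fun e => hT1 ?_, (hQcj g).ge.trans (H79.conj_map_le_normalizer g hT2)⟩
      haveI : (cj T g).Normal := normalizer_eq_top_iff.mp e
      have hTe : T = cj T g := by
        conv_lhs => rw [← cj_one T, ← inv_mul_cancel g, ← cj_mul]
        exact cj_normalizer (by rw [normalizer_eq_top]; exact mem_top _)
      rw [hTe]; exact normalizer_eq_top_iff.mpr inferInstance
    · rintro R hR ⟨hQR, M, hM, hMR, hMK⟩ _
      refine ⟨fun e => hMK ?_,
        hQR.trans (le_normalizer.trans (H11.normalizer_le_normalizer_centerThompsonAOf R))⟩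
      haveI : (Cfsg.centerThompsonAOf R).Normal := normalizer_eq_top_iff.mp e
      have hW : Cfsg.centerThompsonAOf (S : Subgroup G) ≤ Cfsg.centerThompsonAOf R :=
        centerThompsonAOf_le_of_le hR hM hMR
      refine hmemK M hM ((sup_le (normalClosure_le_normal
        (Set.singleton_subset_iff.mpr (hW c.z_W))) (c.Z_W.trans hW)).trans ?_)
      rw [H11.centerThompsonAOf_eq]
      exact sInf_le (H11.mem_maxFam_of_mem hR hM hMR)
    · rintro T hT ⟨hT1, hT2⟩ hfull ⟨hQR, M, hM, hMR, -⟩ hclimb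
      set N := normalizer (T : Set G) with hN
      set R := (S : Subgroup G) ⊓ N with hRdef
      have hR0 : IsPGroup p (R.subgroupOf N) :=
        (S.isPGroup'.to_inf_left).comap_of_injective N.subtype N.subtype_injective
      obtain ⟨SR, hSR⟩ := hR0.exists_le_sylow
      have hSeq : (SR : Subgroup N) = R.subgroupOf N := by
        refine (eq_of_le_of_card_ge hSR ?_).symm
        rw [Nat.card_congr (subgroupOfEquivOfLe (inf_le_right : R ≤ N)).toEquiv,
          ← card_map_of_injective N.subtype_injective]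
        exact hfull _ (SR.isPGroup'.map _) (map_subtype_le _)
      have hlt : Nat.card N < Nat.card G :=
        lt_of_le_of_ne (card_le_card_group N) fun e => hT1 (eq_top_of_card_eq N e)
      have c' := c.descend hT2 SR hSeq inf_le_right inf_le_left hQR hM hMR hclimb
      rcases ih N (by omega) SR _ _ _ c' with h | ⟨h1, h2⟩
      · exact nmoves_of_subgroup inf_le_right (hSeq ▸ h)
      · have hmap : (SR : Subgroup N).map N.subtype ≤ (S : Subgroup G) := by
          rw [hSeq, map_subgroupOf_eq_of_le inf_le_right]; exact inf_le_left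
        exact absurd ⟨h1.of_pull N.subtype_injective hmap, h2.of_pull N.subtype_injective hmap⟩ hno
  obtain ⟨hBigA, hBigB⟩ := hbm
  -- the second configuration
  have hnu : ¬ InUnipotent p ρ A' := by
    rintro ⟨D, hD, hAD, hDp⟩
    haveI := hD
    apply hAK
    have hDz : D ≤ centMod Z₀ z := by
      haveI : (D.map (QuotientGroup.mk' K)).Normal := hD.map _ (QuotientGroup.mk'_surjective K)
      have hDm : IsPGroup p (D.map (QuotientGroup.mk' K)) := by
        rintro ⟨_, d, hd, rfl⟩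
        obtain ⟨k, hk⟩ := hDp d hd
        exact ⟨k, Subtype.ext (by
          show (QuotientGroup.mk' K d) ^ p ^ k = 1
          rw [← map_pow]; exact (QuotientGroup.eq_one_iff _).mpr hk)⟩
      have hle := hDm.le_sylow_of_normal (S.mapSurjective (QuotientGroup.mk'_surjective K))
      rw [Sylow.coe_mapSurjective] at hle
      intro d hd
      obtain ⟨s, hs, hse⟩ := hle ⟨d, hd, rfl⟩
      have h1 : s⁻¹ * d ∈ K := QuotientGroup.eq.mp hse
      rw [← mul_inv_cancel_left s d]
      exact mul_mem (c.z_fix hs) (hKz h1)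
    intro x hx
    refine MonoidHom.mem_ker.mpr (AddMonoidHom.ext fun v => ?_)
    have hv : v ∈ AddSubgroup.closure (Set.range fun g : G => ρ g zv) := hgenV ▸ AddSubgroup.mem_top v
    induction hv using AddSubgroup.closure_induction with
    | mem w hw =>
      obtain ⟨g, rfl⟩ := hw
      show ρ x (ρ g zv) = ρ g zv
      have hx' : g⁻¹ * x * g ∈ D := by
        simpa using hD.conj_mem x (hAD (mem_sup_left hx)) g⁻¹
      rw [← coe_mul_apply, show x * g = g * (g⁻¹ * x * g) by group, coe_mul_apply,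
        (hfix _).mp (hDz hx')]
    | zero => show ρ x 0 = 0; rw [map_zero]
    | add s t _ _ hs ht =>
      show ρ x (s + t) = s + t
      rw [map_add]; exact congrArg₂ (· + ·) hs ht
    | neg s _ hs =>
      show ρ x (-s) = -s
      rw [map_neg]; exact congrArg Neg.neg hs
  obtain ⟨T, hTp, ⟨g₁, hg₁⟩, hTQ, x, hxT, h, hh, hhc, y, v, F, _, _, _, ⟨P⟩⟩ :=
    config hp ρ hpV hA'p hquad hnu a ha1
  have hQT : Q ≤ T := hTQ Q hQp inferInstance fun q hq => MonoidHom.mem_ker.mp (hQK hq)
  obtain ⟨k, hk⟩ : ∃ k, cj T k ≤ (S : Subgroup G) := by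
    obtain ⟨S', hS'⟩ := hTp.exists_le_sylow
    obtain ⟨k, hk⟩ := MulAction.exists_smul_eq G S' S
    exact ⟨k, fun t ht => by rw [← hk]; exact map_mono hS' ht⟩
  have hcjh : k * h * k⁻¹ ∈ normalizer (cj T k : Set G) := le_normalizer_map _ ⟨h, hh, rfl⟩
  have hbigT : Big (cj T k) := by
    have h1 : cj A' (k * g₁) ≤ cj T k := by rw [← cj_mul]; exact map_mono hg₁
    obtain ⟨hq, M, hM, hMU, hMK⟩ := hconj A' (k * g₁) hA'S (h1.trans hk) hbigA
    exact ⟨hq.trans h1, M, hM, hMU.trans h1, hMK⟩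
  have hEh : E (cj T k) (k * h * k⁻¹) :=
    hBigA _ hk hbigT _ (by rw [cj_normalizer hcjh]; exact hk)
  have hcop : (orderOf (k * h * k⁻¹)).Coprime p := by
    rw [show k * h * k⁻¹ = MulAut.conj k h from rfl, MulEquiv.orderOf_eq]
    exact hhc
  obtain ⟨P'⟩ := plane_conj P k
  have hGF : GoodF p E S := goodF_of_plane hp ha ρ σ hσs hσ (fun x hx => MonoidHom.mem_ker.mp (hBK hx))
    hk (hTp.map _) (hBQ.trans ((hQcj k).ge.trans (map_mono hQT))) hcjh hcop hEh
    (show k * x * k⁻¹ ∈ cj T k from mem_cj hxT) P'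
  -- the first configuration
  let X : Subgroup G :=
    { carrier := {g | E Q g}
      one_mem' := c.hH Q hQS 1 (one_mem _) (by rw [cj_one]; exact hQS)
      mul_mem' := fun {g g'} h1 h2 => hE.trans h2 (by rw [hQcj]; exact h1)
      inv_mem' := fun {g} h1 => by
        have := hE.symm h1
        rwa [hQcj] at this }
  have hXE : ∀ g, g ∈ X ↔ E Q g := fun _ => Iff.rfl
  have hXS : (S : Subgroup G) ≤ X := fun s hs => c.hH Q hQS s
    (H11.normalizer_le_normalizer_centerThompsonAOf _ (le_normalizer hs)) (by rw [hQcj]; exact hQS)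
  have hbig_mem : ∀ U ≤ (S : Subgroup G), Big U → ∀ g, cj U g ≤ (S : Subgroup G) → g ∈ X :=
    fun U hU hb g hg => hE.mono hb.1 (hBigA U hU hb g hg)
  have hzvmem : ∀ {T' : Subgroup G}, Q ≤ T' → z ∈ T' ∧ Z₀ ≤ T' :=
    fun hle => ⟨hle c.z_mem, c.Z_le.trans hle⟩
  have hbF : ∀ (F : Type) [Field F] [CharP F p], (b : F) ≠ 1 := by
    intro F _ _ e
    rw [← Nat.cast_one, CharP.natCast_eq_natCast F p, ← ZMod.natCast_eq_natCast_iff, hba,
      Nat.cast_one] at e
    exact ha1 e
  have hGC : GoodC p b E S z := by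
    by_cases hX : X = ⊤
    · -- some conjugate of `h` moves the orbit vector
      let ρh : V →+ V := ρ h
      let f : V →+ V := ρh - b • AddMonoidHom.id V
      have hf : ∀ w, f w = ρ h w - b • w := fun w => rfl
      obtain ⟨g, hg⟩ : ∃ g, ρ g zv ∉ f.range := by
        by_contra hall
        push Not at hall
        have hsurj : Function.Surjective f := fun w => by
          have hle : (⊤ : AddSubgroup V) ≤ f.range := hgenV ▸ (AddSubgroup.closure_le _).mpr (by
            rintro _ ⟨g, rfl⟩; exact hall g)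
          exact hle (AddSubgroup.mem_top w)
        have hinj := Finite.injective_iff_surjective.mpr hsurj
        obtain ⟨k₀, hk₀⟩ : ∃ k₀, ∀ w : V, p ^ k₀ • w = 0 := ⟨1, fun w => by rw [pow_one]; exact hpV w⟩
        -- an eigenvector
        have hit : ∀ (i : ℕ) (w : V), ((ρ h : V →+ V))^[i] w = ρ (h ^ i) w := by
          intro i
          induction i with
          | zero => intro w; rw [pow_zero, map_one]; rfl
          | succ i ih => intro w; rw [Function.iterate_succ_apply', ih, pow_succ', coe_mul_apply]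
        let K₁ : AddSubgroup V := P.π.ker.map P.Y.subtype
        obtain ⟨b', hb', e, -, hfe, heK⟩ := exists_eigen (k := k₀) hk₀ (ρ h : V →+ V)
          (n := (p - 1) * orderOf h) (Nat.Coprime.mul_left (by
            refine (hpp.coprime_iff_not_dvd.mpr fun hd => ?_).symm
            have h2 := hpp.two_le
            have := Nat.le_of_dvd (by omega) hd
            omega) hhc) (fun w => by
            refine (hit _ w).trans ?_
            rw [mul_comm, pow_mul, pow_orderOf_eq_one, one_pow, map_one]; rfl)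
          (a := b) (by
            rw [← ZMod.natCast_eq_natCast_iff, Nat.cast_pow, hba, Nat.cast_one, pow_mul,
              ← Units.val_pow_eq_pow_val, ← ha, pow_orderOf_eq_one]
            simp) (x := v) (K := K₁) (by
            rintro _ ⟨w, hw, rfl⟩
            refine ⟨⟨_, P.h_mem _ w.2⟩, ?_, rfl⟩
            rw [SetLike.mem_coe, AddMonoidHom.mem_ker] at hw ⊢
            rw [P.π_h, hw]
            funext i; fin_cases i <;> simp)
          (by
            rintro ⟨w, hw, hwv⟩
            have : w = ⟨v, P.mem_v⟩ := Subtype.ext hwv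
            rw [this, SetLike.mem_coe, AddMonoidHom.mem_ker, P.π_v] at hw
            have := congrFun hw 0
            simp at this)
          (by rw [hpV]; exact zero_mem _)
          (by
            refine ⟨⟨_, P.h_mem v P.mem_v⟩ - b • ⟨v, P.mem_v⟩, ?_, by simp; rfl⟩
            rw [SetLike.mem_coe, AddMonoidHom.mem_ker, map_sub, map_nsmul, P.π_h ⟨v, P.mem_v⟩, P.π_v]
            funext i; fin_cases i <;> simp [hbdef])
        refine heK ?_
        have : e = 0 := hinj (by
          have hfe' : ρ h e = b' • e := hfe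
          rw [map_zero, hf, hfe']
          obtain ⟨q, hq⟩ := (Nat.modEq_iff_dvd.mp hb')
          have h1 : ((b : ℤ)) • e = ((b' : ℤ) + (p : ℤ) * q) • e := by rw [← hq, add_sub_cancel]
          rw [add_zsmul, mul_comm, mul_zsmul', natCast_zsmul, natCast_zsmul, natCast_zsmul, hpV,
            add_zero] at h1
          rw [h1, sub_self])
        rw [this]; exact zero_mem _
      refine goodC_of_eigen hpV ρ σ hσ1 hσ hzB (hzvmem le_rfl).1 (hzvmem le_rfl).2 hQS
        (h := g⁻¹ * h * g) (by rw [normalizer_eq_top]; exact mem_top _) ((hXE _).mp (hX ▸ mem_top _))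
        (by rw [show g⁻¹ * h * g = MulAut.conj g⁻¹ h by simp, MulEquiv.orderOf_eq]; exact hhc) ha
        (K := ((show V →+ V from ρ (g⁻¹ * h * g)) - b • AddMonoidHom.id V).range) ?_ ?_ ?_
      · rintro _ ⟨w, rfl⟩
        exact ⟨ρ (g⁻¹ * h * g) w, by
          show ρ (g⁻¹ * h * g) (ρ (g⁻¹ * h * g) w) - b • ρ (g⁻¹ * h * g) w =
            ρ (g⁻¹ * h * g) (ρ (g⁻¹ * h * g) w - b • w)
          rw [map_sub, map_nsmul]⟩
      · rintro ⟨w, hw⟩
        refine hg ⟨ρ g w, ?_⟩
        rw [show zv = ρ (g⁻¹ * h * g) w - b • w from hw.symm, hf, map_sub, map_nsmul,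
          ← coe_mul_apply, ← coe_mul_apply, show g * (g⁻¹ * h * g) = h * g by group]
      · exact ⟨zv, rfl⟩
    -- the stabilizer is proper
    have hA'X : A' ≤ X := hA'S.trans hXS
    have hXQ : Q ≤ X := hQS.trans hXS
    have huniq : ∀ M : Subgroup G, M ≠ ⊤ → A' ≤ M → M ≤ X := by
      intro M hM hAM
      obtain ⟨R₀, hR₀⟩ := ((hA'p.comap_of_injective (M ⊓ X).subtype (M ⊓ X).subtype_injective :
        IsPGroup p (A'.subgroupOf (M ⊓ X)))).exists_le_sylow
      set R := (R₀ : Subgroup ↥(M ⊓ X)).map (M ⊓ X).subtype with hR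
      have hRle : R ≤ M ⊓ X := map_subtype_le _
      have hA'R : A' ≤ R := fun x hx => ⟨⟨x, hAM hx, hA'X hx⟩, hR₀ hx, rfl⟩
      obtain ⟨k, hkX, hk⟩ := H76.exists_conj_mem_sylow (S.subtype hXS)
        (hRle.trans inf_le_right) (R₀.isPGroup'.map _)
      rw [Sylow.coe_subtype, map_subgroupOf_eq_of_le hXS] at hk
      set M' := cj M k with hM'
      set R' := cj R k with hR'
      have hR'S : R' ≤ (S : Subgroup G) := cj_le_iff.mpr hk
      have hR'M : R' ≤ M' := map_mono (hRle.trans inf_le_left)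
      have hbigR : Big R' := by
        obtain ⟨hq, M₀, hM₀, hMU, hMK⟩ := hconj A' k hA'S ((map_mono hA'R).trans hR'S) hbigA
        exact ⟨hq.trans (map_mono hA'R), M₀, hM₀, hMU.trans (map_mono hA'R), hMK⟩
      obtain ⟨SR, hSR⟩ := ((S.isPGroup'.to_le hR'S).comap_of_injective M'.subtype
        M'.subtype_injective : IsPGroup p (R'.subgroupOf M')).exists_le_sylow
      set P₁ := (SR : Subgroup M').map M'.subtype with hP₁
      have hRP : R' ≤ P₁ := fun x hx => ⟨⟨x, hR'M hx⟩, hSR hx, rfl⟩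
      have hP₁eq : P₁ = R' := by
        by_contra hne
        obtain ⟨m, hm, hmR⟩ := SetLike.exists_of_lt
          (H79.lt_inf_normalizer_of_lt (SR.isPGroup'.map _) (lt_of_le_of_ne hRP (Ne.symm hne)))
        have hmX : m ∈ X := hbig_mem R' hR'S hbigR m (by rw [cj_normalizer hm.2]; exact hR'S)
        -- a larger `p`-subgroup of `M ⊓ X`
        let R₂ : Subgroup G := cj (P₁ ⊓ X) k⁻¹
        have hR₂ : R₂ ≤ M ⊓ X := by
          rw [cj_le_iff]
          rintro u ⟨hu1, hu2⟩
          obtain ⟨u', hu', rfl⟩ := (map_subtype_le _ : P₁ ≤ M') hu1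
          refine ⟨?_, X.mul_mem (X.mul_mem (X.inv_mem hkX) hu2) (X.inv_mem (X.inv_mem hkX))⟩
          simpa [mul_assoc] using hu'
        have hRR₂ : R ≤ R₂ := by
          intro u hu
          refine ⟨k * u * k⁻¹, ⟨hRP (mem_cj hu), hXS (hR'S (mem_cj hu))⟩, ?_⟩
          simp [mul_assoc]
        have hcard : Nat.card R₂ ≤ Nat.card R := by
          obtain ⟨R₃, hR₃⟩ := ((((SR.isPGroup'.map M'.subtype).to_inf_left).map _).comap_of_injective
            (M ⊓ X).subtype (M ⊓ X).subtype_injective : IsPGroup p (R₂.subgroupOf (M ⊓ X))).exists_le_sylow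
          rw [← Nat.card_congr (subgroupOfEquivOfLe hR₂).toEquiv,
            card_map_of_injective (M ⊓ X).subtype_injective]
          exact (card_le_of_le hR₃).trans (R₃.card_eq_multiplicity.trans R₀.card_eq_multiplicity.symm).le
        have heq := eq_of_le_of_card_ge hRR₂ hcard
        apply hmR
        have hm' : k⁻¹ * m * k ∈ R := heq ▸ ⟨m, ⟨hm.1, hmX⟩, by simp⟩
        exact ⟨_, hm', by simp [mul_assoc]⟩
      have hSeq : (SR : Subgroup M') = R'.subgroupOf M' := by
        rw [← hP₁eq, hP₁, subgroupOf, comap_map_eq_self_of_injective M'.subtype_injective]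
      have hM'top : M' ≠ ⊤ := fun e => hM (map_injective (MulAut.conj k).injective
        (e.trans (map_top_of_surjective _ (MulAut.conj k).surjective).symm))
      have hlt : Nat.card M' < Nat.card G :=
        lt_of_le_of_ne (card_le_card_group M') fun e => hM'top (eq_top_of_card_eq M' e)
      obtain ⟨hQR, M₀, hM₀, hMR, hM₀K⟩ := hbigR
      have c' := c.descend (hQR.trans hR'M) SR hSeq hR'M hR'S hQR hM₀ hMR
        ((hBigB R' hR'S ⟨hQR, M₀, hM₀, hMR, hM₀K⟩).mono_group inf_le_right)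
      intro m hm
      rcases ih M' (by omega) SR _ _ _ c' with h | ⟨h1, h2⟩
      · have h' := nmoves_of_subgroup hR'M (hSeq ▸ h)
        have h2 : E Q (k * m * k⁻¹) := h' Q hQR _ (mem_cj hm) (by rw [hQcj]; exact hQR)
        have := X.mul_mem (X.mul_mem (X.inv_mem hkX) ((hXE _).mpr h2)) hkX
        simpa [mul_assoc] using this
      · have hmap : (SR : Subgroup M').map M'.subtype ≤ (S : Subgroup G) := by
          rw [hSeq, map_subgroupOf_eq_of_le hR'M]; exact hR'S
        exact absurd ⟨h1.of_pull M'.subtype_injective hmap, h2.of_pull M'.subtype_injective hmap⟩ hno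
    obtain ⟨g, hg⟩ : ∃ g, ¬ A'.map (MulAut.conj g).toMonoidHom ≤ X := by
      by_contra hall
      push Not at hall
      apply hX
      set N := normalClosure (A' : Set G) with hNdef
      have hNX : N ≤ X := (Subgroup.closure_le _).mpr fun y hy => by
        obtain ⟨w, hw, hy⟩ := Group.mem_conjugatesOfSet_iff.mp hy
        obtain ⟨g, rfl⟩ := isConj_iff.mp hy
        exact hall g ⟨w, hw, rfl⟩
      rw [eq_top_iff, ← H11.normalizer_inf_sup_eq_top S N]
      refine sup_le (fun g hg => ?_) hNX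
      have hA'N : A' ≤ (S : Subgroup G) ⊓ N := le_inf hA'S subset_normalClosure
      refine hbig_mem _ inf_le_left ⟨le_sup_right.trans hA'N, A, hA, le_sup_left.trans hA'N, hAK⟩ g ?_
      rw [cj_normalizer hg]; exact inf_le_left
    -- the top of `[V, G]`
    let V₁ : AddSubgroup V := AddSubgroup.closure {w | ∃ g u, w = ρ g u - u}
    have hV₁inv : ∀ g, ∀ w ∈ V₁, ρ g w ∈ V₁ := by
      intro g w hw
      rw [show ρ g w = (ρ g w - w) + w by abel]
      exact add_mem (AddSubgroup.subset_closure ⟨g, w, rfl⟩) hw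
    obtain ⟨V₂, ⟨hV₂le, hV₂ne, hV₂inv⟩, hV₂max⟩ := Set.exists_max_image
      {L : AddSubgroup V | L ≤ V₁ ∧ L ≠ V₁ ∧ ∀ g, ∀ w ∈ L, ρ g w ∈ L} (fun L => Nat.card L)
      (Set.toFinite _) ⟨⊥, bot_le, fun e => hCz (eq_top_iff.mpr fun g _ => (hfix g).mpr (by
        have : ρ g zv - zv ∈ (⊥ : AddSubgroup V) := e ▸ AddSubgroup.subset_closure ⟨g, zv, rfl⟩
        exact sub_eq_zero.mp (AddSubgroup.mem_bot.mp this))),
        fun g w hw => by rw [AddSubgroup.mem_bot] at hw ⊢; rw [hw, map_zero]⟩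
    let q := QuotientAddGroup.mk' V₂
    let σq : G →* AddMonoid.End (V ⧸ V₂) :=
      { toFun := fun g => QuotientAddGroup.map V₂ V₂ (ρ g) (fun w hw => hV₂inv g w hw)
        map_one' := AddMonoidHom.ext fun w => by
          induction w using QuotientAddGroup.induction_on with | _ v =>
          show ((ρ 1 v : V) : V ⧸ V₂) = (v : V ⧸ V₂)
          rw [map_one]; rfl
        map_mul' := fun g h => AddMonoidHom.ext fun w => by
          induction w using QuotientAddGroup.induction_on with | _ v =>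
          show ((ρ (g * h) v : V) : V ⧸ V₂) = ((ρ g (ρ h v) : V) : V ⧸ V₂)
          rw [coe_mul_apply] }
    have hσq : ∀ g u, σq g (q u) = q (ρ g u) := fun _ _ => rfl
    let W := V₁.map q
    have hWinv : ∀ g, ∀ w ∈ W, σq g w ∈ W := by
      rintro g _ ⟨u, hu, rfl⟩; exact ⟨_, hV₁inv g u hu, rfl⟩
    let τ : G →* AddMonoid.End W :=
      { toFun := fun g => ((σq g : (V ⧸ V₂) →+ (V ⧸ V₂)).comp W.subtype).codRestrict W
          fun w => hWinv g w w.2
        map_one' := AddMonoidHom.ext fun w => Subtype.ext (by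
          show σq 1 (w : V ⧸ V₂) = w
          rw [map_one]; rfl)
        map_mul' := fun g h => AddMonoidHom.ext fun w => Subtype.ext (coe_mul_apply σq g h w) }
    have hτ : ∀ g (w : W), ((τ g w : W) : V ⧸ V₂) = σq g w := fun _ _ => rfl
    have hsimple : ∀ L : AddSubgroup W, (∀ g, ∀ w ∈ L, τ g w ∈ L) → L = ⊥ ∨ L = ⊤ := by
      intro L hL
      set L' := (L.map W.subtype).comap q ⊓ V₁ with hL'
      by_cases htop : L' = V₁
      · refine Or.inr (eq_top_iff.mpr ?_)
        rintro ⟨_, u, hu, rfl⟩ -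
        obtain ⟨⟨w, hw, hwe⟩, -⟩ := (htop.ge hu : u ∈ L')
        rwa [show (⟨q u, u, hu, rfl⟩ : W) = w from Subtype.ext hwe.symm]
      refine Or.inl ((AddSubgroup.eq_bot_iff_forall L).mpr ?_)
      rintro ⟨_, u, hu, rfl⟩ hw
      have hle : V₂ ≤ L' := fun x hx => ⟨⟨0, zero_mem L, by
        show (0 : V ⧸ V₂) = q x
        exact ((QuotientAddGroup.eq_zero_iff x).mpr hx).symm⟩, hV₂le hx⟩
      have heq : V₂ = L' := AddSubgroup.eq_of_le_of_card_ge hle (hV₂max _ ⟨inf_le_right, htop, by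
        rintro g x ⟨⟨w, hw, hwe⟩, hx⟩
        exact ⟨⟨τ g w, hL g w hw, by rw [AddSubgroup.subtype_apply, hτ]; exact (congrArg (σq g) hwe)⟩,
          hV₁inv g x hx⟩⟩)
      exact Subtype.ext ((QuotientAddGroup.eq_zero_iff u).mpr (heq ▸ ⟨⟨_, hw, rfl⟩, hu⟩))
    have hgenG : A' ⊔ cj A' g = ⊤ := by
      by_contra hne
      exact hg (le_sup_right.trans (huniq _ hne le_sup_left))
    -- some element moves `zv` modulo `V₂`
    let X₀ : Subgroup G := fixVec σq (q zv)
    have hX₀ : X₀ ≠ ⊤ := by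
      intro e
      apply hV₂ne
      refine le_antisymm hV₂le ((AddSubgroup.closure_le _).mpr ?_)
      have hall : ∀ k, ρ k zv - zv ∈ V₂ := fun k => by
        rw [← QuotientAddGroup.eq_zero_iff]
        show q (ρ k zv - zv) = 0
        rw [map_sub, ← hσq, (show σq k (q zv) = q zv from (e ▸ mem_top k : k ∈ X₀)), sub_self]
      rintro _ ⟨k, u, rfl⟩
      have hu : u ∈ AddSubgroup.closure (Set.range fun g : G => ρ g zv) := hgenV ▸ AddSubgroup.mem_top u
      show ρ k u - u ∈ V₂
      induction hu using AddSubgroup.closure_induction with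
      | mem w hw =>
        obtain ⟨j, rfl⟩ := hw
        have := sub_mem (hall (k * j)) (hall j)
        rwa [coe_mul_apply, sub_sub_sub_cancel_right] at this
      | zero => simp
      | add s t _ _ hs ht => rw [map_add, add_sub_add_comm]; exact add_mem hs ht
      | neg s _ hs => rw [map_neg, neg_sub_neg, ← neg_sub]; exact neg_mem hs
    have hA'X₀ : A' ≤ X₀ := fun x hx => by
      show σq x (q zv) = q zv
      rw [hσq, (hfix x).mp (c.z_fix (hA'S hx))]
    obtain ⟨y₀, hy₀, hy₀X⟩ : ∃ y ∈ cj A' g, y ∉ X ∧ y ∉ X₀ := by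
      obtain ⟨y₁, hy₁, hy₁X⟩ := SetLike.not_le_iff_exists.mp hg
      by_contra hno'
      push Not at hno'
      refine hX₀ (eq_top_iff.mpr (hgenG ▸ sup_le hA'X₀ fun w hw => ?_))
      by_cases hwX : w ∈ X
      · have h1 : w * y₁ ∈ X₀ := hno' _ (mul_mem hw hy₁) fun h => hy₁X ((X.mul_mem_cancel_left hwX).mp h)
        have h2 := X₀.mul_mem h1 (X₀.inv_mem (hno' y₁ hy₁ hy₁X))
        rwa [mul_inv_cancel_right] at h2
      · exact hno' w hw hwX
    have hquadW : QuadSub τ A' := by
      rintro s hs t ht ⟨_, u, hu, rfl⟩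
      apply Subtype.ext
      show σq s (σq t (q u) - q u) = σq t (q u) - q u
      rw [hσq, ← map_sub, hσq, hquad s hs t ht]
    have hpW : ∀ w : W, p • w = 0 := by
      rintro ⟨_, u, hu, rfl⟩
      exact Subtype.ext (by rw [AddSubmonoidClass.coe_nsmul, ← map_nsmul, hpV, map_zero]; rfl)
    have hd₀mem : ρ y₀ zv - zv ∈ V₁ := AddSubgroup.subset_closure ⟨y₀, zv, rfl⟩
    set d : W := ⟨q (ρ y₀ zv - zv), _, hd₀mem, rfl⟩ with hd
    have hd0 : d ≠ 0 := fun e => hy₀X.2 (by
      show σq y₀ (q zv) = q zv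
      have h1 := congrArg Subtype.val e
      rw [hd] at h1
      simp only [map_sub, ZeroMemClass.coe_zero, sub_eq_zero] at h1
      rw [hσq]; exact h1)
    have hnt : ∃ k, τ k ≠ 1 := by
      by_contra hall
      push Not at hall
      have hY : ∀ k, τ k d = d := fun k => by rw [hall k]; rfl
      let L : AddSubgroup W :=
        { carrier := {w | ∀ k, τ k w = w}
          zero_mem' := fun k => map_zero _
          add_mem' := fun {s t} hs ht k => by rw [map_add, hs k, ht k]
          neg_mem' := fun {s} hs k => by rw [map_neg, hs k] }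
      -- a trivial top would force `d = 0`
      have hhom : ∀ i j, q (ρ (i * j) zv - zv) = q (ρ i zv - zv) + q (ρ j zv - zv) := fun i j => by
        have h1 := congrArg Subtype.val
          (DFunLike.congr_fun (hall i : τ i = 1) (⟨q (ρ j zv - zv), _, AddSubgroup.subset_closure ⟨j, zv, rfl⟩, rfl⟩ : W))
        rw [hτ, hσq] at h1
        have h2 : q (ρ i (ρ j zv - zv)) = q (ρ j zv - zv) := h1
        rw [coe_mul_apply, show ρ i (ρ j zv) - zv = ρ i (ρ j zv - zv) + (ρ i zv - zv) by
          rw [map_sub]; abel, map_add, h2, add_comm]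
      let X₁ : Subgroup G :=
        { carrier := {i | q (ρ i zv - zv) = 0}
          one_mem' := by show q (ρ 1 zv - zv) = 0; rw [map_one]; simp
          mul_mem' := fun {i j} hi hj => by
            show q _ = 0
            rw [hhom, show q (ρ i zv - zv) = 0 from hi, show q (ρ j zv - zv) = 0 from hj, add_zero]
          inv_mem' := fun {i} hi => by
            have h1 := hhom i⁻¹ i
            rw [inv_mul_cancel, map_one, show q (ρ i zv - zv) = 0 from hi, add_zero] at h1
            show q _ = 0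
            rw [← h1]
            show q (zv - zv) = 0
            rw [sub_self, map_zero] }
      have hX₁ : ∀ i ∈ A', i ∈ X₁ := fun i hi => by
        show q _ = 0
        rw [(hfix i).mp (c.z_fix (hA'S hi)), sub_self, map_zero]
      have hX₁n : ∀ i ∈ X₁, ∀ j, j * i * j⁻¹ ∈ X₁ := fun i hi j => by
        show q _ = 0
        rw [hhom, hhom, show q (ρ i zv - zv) = 0 from hi, add_zero, ← hhom, mul_inv_cancel, map_one]
        show q (zv - zv) = 0
        rw [sub_self, map_zero]
      obtain ⟨w, hw, hwe⟩ := hy₀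
      refine hd0 (Subtype.ext ?_)
      show q (ρ y₀ zv - zv) = 0
      rw [← hwe]
      exact hX₁n w (hX₁ w hw) g
    have hfixW : ∀ w : W, (∀ k, τ k w = w) → w = 0 := by
      let L : AddSubgroup W :=
        { carrier := {w | ∀ k, τ k w = w}
          zero_mem' := fun k => map_zero _
          add_mem' := fun {s t} hs ht k => by rw [map_add, hs k, ht k]
          neg_mem' := fun {s} hs k => by rw [map_neg, hs k] }
      intro w hw
      rcases hsimple L (fun g w hw k => by rw [hw g]; exact hw k) with h | h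
      · exact (AddSubgroup.eq_bot_iff_forall L).mp h w hw
      · obtain ⟨k, hk⟩ := hnt
        exact absurd (AddMonoidHom.ext fun w => (h ▸ AddSubgroup.mem_top w : w ∈ L) k) hk
    have hperfW : AddSubgroup.closure {w : W | ∃ k u, w = τ k u - u} = ⊤ := by
      refine (hsimple _ fun g w hw => ?_).resolve_left fun h => ?_
      · rw [show τ g w = (τ g w - w) + w by abel]
        exact add_mem (AddSubgroup.subset_closure ⟨g, w, rfl⟩) hw
      · obtain ⟨k, hk⟩ := hnt
        refine hk (AddMonoidHom.ext fun u => ?_)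
        exact sub_eq_zero.mp
          ((AddSubgroup.eq_bot_iff_forall _).mp h _ (AddSubgroup.subset_closure ⟨k, u, rfl⟩))
    obtain ⟨x₁, hx₁A, hCx, hdec, hpair⟩ :=
      geometry hp τ hpW hA'p hquadW hX hA'X huniq hg hfixW hperfW a ha1
    have hyq : ∀ u : V, ρ y₀ (ρ y₀ u - u) = ρ y₀ u - u := fun u => by
      obtain ⟨w, hw, rfl⟩ := hy₀
      have h1 := hquad w hw w hw (ρ g⁻¹ u)
      show ρ (g * w * g⁻¹) (ρ (g * w * g⁻¹) u - u) = ρ (g * w * g⁻¹) u - u
      have hgg : ρ g (ρ g⁻¹ u) = u := by rw [← coe_mul_apply, mul_inv_cancel, map_one]; rfl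
      simp only [coe_mul_apply, map_sub, coe_inv_apply]
      rw [map_sub] at h1
      rw [← map_sub, h1, map_sub, hgg]
    have hy₀q : Quad τ y₀ := by
      rintro ⟨_, u, hu, rfl⟩
      apply Subtype.ext
      show σq y₀ (σq y₀ (q u) - q u) = σq y₀ (q u) - q u
      rw [hσq, ← map_sub, hσq, hyq u]
    -- solve `y v - v = d`
    let FA : AddSubgroup W :=
      { carrier := {w | ∀ c ∈ A', τ c w = w}
        zero_mem' := fun c _ => map_zero _
        add_mem' := fun {s t} hs ht c hc => by rw [map_add, hs c hc, ht c hc]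
        neg_mem' := fun {s} hs c hc => by rw [map_neg, hs c hc] }
    let FB : AddSubgroup W :=
      { carrier := {w | ∀ c ∈ cj A' g, τ c w = w}
        zero_mem' := fun c _ => map_zero _
        add_mem' := fun {s t} hs ht c hc => by rw [map_add, hs c hc, ht c hc]
        neg_mem' := fun {s} hs c hc => by rw [map_neg, hs c hc] }
    have hdisjA : ∀ w ∈ FA, τ y₀ w = w → w = 0 := by
      intro w hw hwy
      refine hfixW w fun k => ?_
      have htop : fixVec τ w = ⊤ := by
        by_contra hne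
        exact hy₀X.1 (huniq _ hne (fun c hc => hw c hc) hwy)
      exact (htop ▸ mem_top k : k ∈ fixVec τ w)
    have hyB : ∀ w : W, τ y₀ (τ y₀ w - w) = τ y₀ w - w := hy₀q
    have hinB : ∀ w, τ y₀ w = w → w ∈ FB := by
      intro w hw
      obtain ⟨s, t, rfl, hs, ht⟩ := hdec w
      rw [map_add, ht y₀ hy₀] at hw
      rw [hdisjA s hs (add_right_cancel hw), zero_add]
      exact ht
    obtain ⟨v₀, hv₀A, hv₀⟩ : ∃ v₀ ∈ FA, τ y₀ v₀ - v₀ = d := by
      let φ : FA → FB := fun w => ⟨τ y₀ (w : W) - w, hinB _ (hyB _)⟩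
      have hinj : Function.Injective φ := by
        intro s t hst
        have h1 : τ y₀ (s : W) - s = τ y₀ (t : W) - t := congrArg Subtype.val hst
        refine Subtype.ext (sub_eq_zero.mp (hdisjA _ (FA.sub_mem s.2 t.2) ?_))
        rw [map_sub]
        exact (sub_eq_sub_iff_sub_eq_sub.mp h1)
      have hcard : Nat.card FB ≤ Nat.card FA := by
        refine Nat.card_le_card_of_injective (fun w => (⟨τ g⁻¹ (w : W), fun c hc => ?_⟩ : FA)) ?_
        · have := w.2 (g * c * g⁻¹) (mem_cj hc)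
          rw [coe_mul_apply, coe_mul_apply] at this
          conv_rhs => rw [← this]
          exact (coe_inv_apply τ g _).symm
        · intro s t hst
          have := congrArg (fun w : FA => τ g (w : W)) hst
          simp only [← coe_mul_apply, mul_inv_cancel, map_one] at this
          exact Subtype.ext this
      haveI := Fintype.ofFinite FA
      haveI := Fintype.ofFinite FB
      have hsurj : Function.Surjective φ :=
        ((Fintype.bijective_iff_injective_and_card φ).mpr ⟨hinj, by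
          rw [← Nat.card_eq_fintype_card, ← Nat.card_eq_fintype_card]
          exact le_antisymm (Nat.card_le_card_of_injective φ hinj) hcard⟩).2
      obtain ⟨w, hw⟩ := hsurj ⟨d, hinB _ (Subtype.ext (by
        show σq y₀ (q (ρ y₀ zv - zv)) = q (ρ y₀ zv - zv)
        rw [hσq, hyq]))⟩
      exact ⟨w, w.2, congrArg Subtype.val hw⟩
    have hv₀0 : v₀ ≠ 0 := fun e => hd0 (by rw [← hv₀, e, map_zero, sub_zero])
    obtain ⟨h₁, hh₁M, hh₁X, hh₁c, F₁, _, _, _, ⟨P₁⟩⟩ :=
      hpair y₀ hy₀q hy₀X.1 v₀ hv₀0 (hv₀A x₁ hx₁A)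
    let z₀ := q zv - (v₀ : V ⧸ V₂)
    have hz₀ : σq h₁ z₀ = z₀ := by
      have hle : Subgroup.closure ({x₁, y₀} : Set G) ≤ fixVec σq z₀ := by
        rw [Subgroup.closure_le]
        rintro i (rfl | rfl)
        · show σq i (q zv - v₀) = q zv - v₀
          rw [map_sub, (show σq i (q zv) = q zv from hA'X₀ hx₁A),
            show σq i (v₀ : V ⧸ V₂) = v₀ from congrArg Subtype.val (hv₀A i hx₁A)]
        · show σq i (q zv - v₀) = q zv - v₀
          have h1 : σq i (v₀ : V ⧸ V₂) - v₀ = q (ρ i zv - zv) := congrArg Subtype.val hv₀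
          rw [sub_eq_iff_eq_add] at h1
          rw [map_sub (σq i), h1, hσq, map_sub]
          abel
      exact hle hh₁M
    let Y₁ : AddSubgroup (V ⧸ V₂) :=
      (P₁.π.ker.map P₁.Y.subtype).map W.subtype ⊔ AddSubgroup.closure {z₀}
    refine goodC_of_eigen hpV ρ σ hσ1 hσ hzB (hzvmem le_rfl).1 (hzvmem le_rfl).2 hQS
      (h := h₁) (by rw [normalizer_eq_top]; exact mem_top _) ((hXE _).mp hh₁X) hh₁c ha
      (K := Y₁.comap q) ?_ ?_ ?_
    · intro w hw
      show q (ρ h₁ w) ∈ Y₁
      rw [← hσq]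
      obtain ⟨s, hs, t, ht, hst⟩ := AddSubgroup.mem_sup.mp hw
      rw [← hst, map_add]
      refine AddSubgroup.add_mem _ (AddSubgroup.mem_sup_left ?_) (AddSubgroup.mem_sup_right ?_)
      · obtain ⟨_, ⟨u, hu, rfl⟩, rfl⟩ := hs
        refine ⟨_, ⟨⟨_, P₁.h_mem _ u.2⟩, ?_, rfl⟩, rfl⟩
        rw [SetLike.mem_coe, AddMonoidHom.mem_ker] at hu ⊢
        rw [P₁.π_h, hu]
        funext i; fin_cases i <;> simp
      · clear hst
        induction ht using AddSubgroup.closure_induction with
        | mem w hw => rw [Set.mem_singleton_iff.mp hw, hz₀]; exact AddSubgroup.subset_closure rfl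
        | zero => rw [map_zero]; exact zero_mem _
        | add s t _ _ hs ht => rw [map_add]; exact add_mem hs ht
        | neg s _ hs => rw [map_neg]; exact neg_mem hs
    · intro hmem
      obtain ⟨_, ⟨_, ⟨u, hu, rfl⟩, rfl⟩, t, ht, hst⟩ := AddSubgroup.mem_sup.mp hmem
      obtain ⟨m, rfl⟩ := AddSubgroup.mem_closure_singleton.mp ht
      -- compare in the plane
      have e1 : (v₀ : V ⧸ V₂) - ((u : W) : V ⧸ V₂) = (m - 1) • z₀ := by
        rw [sub_smul, one_smul]
        rw [show q zv = (v₀ : V ⧸ V₂) + z₀ by show q zv = _ + (q zv - _); abel] at hst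
        rw [sub_eq_sub_iff_add_eq_add, add_comm (m • z₀)]
        exact hst.symm
      set w : P₁.Y := ⟨v₀, P₁.mem_v⟩ - u with hw
      have hwv : ((w : W) : V ⧸ V₂) = (m - 1) • z₀ := e1
      have hwfix : (⟨τ h₁ w, P₁.h_mem _ w.2⟩ : P₁.Y) = w := by
        apply Subtype.ext; apply Subtype.ext
        show σq h₁ ((w : W) : V ⧸ V₂) = _
        rw [hwv, map_zsmul, hz₀]
      have h2 := congrFun ((P₁.π_h w).symm.trans (congrArg P₁.π hwfix)) 0
      rw [hw, map_sub, P₁.π_v, AddMonoidHom.mem_ker.mp hu, sub_zero] at h2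
      simp [-ZMod.natCast_val] at h2
      exact hbF F₁ h2
    · show q (ρ h₁ zv - b • zv) ∈ Y₁
      have e : q (ρ h₁ zv - b • zv) =
          (((⟨_, P₁.h_mem _ P₁.mem_v⟩ - b • ⟨v₀, P₁.mem_v⟩ : P₁.Y) : W) : V ⧸ V₂) +
            ((1 : ℤ) - b) • z₀ := by
        rw [map_sub, map_nsmul, ← hσq, show q zv = (v₀ : V ⧸ V₂) + z₀ by
          show q zv = _ + (q zv - _); abel, map_add, hz₀, sub_smul, one_smul, natCast_zsmul, nsmul_add, AddSubgroupClass.coe_sub,
          AddSubmonoidClass.coe_nsmul, AddSubgroupClass.coe_sub, AddSubmonoidClass.coe_nsmul]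
        show _ = σq h₁ (v₀ : V ⧸ V₂) - b • (v₀ : V ⧸ V₂) + _
        abel
      rw [e]
      refine AddSubgroup.add_mem _ (AddSubgroup.mem_sup_left ⟨_, ⟨(⟨_, P₁.h_mem _ P₁.mem_v⟩ - b • ⟨v₀, P₁.mem_v⟩ : P₁.Y), ?_, rfl⟩, rfl⟩)
        (AddSubgroup.mem_sup_right (AddSubgroup.mem_closure_singleton.mpr ⟨_, rfl⟩))
      rw [SetLike.mem_coe, AddMonoidHom.mem_ker, map_sub, map_nsmul, P₁.π_h ⟨v₀, P₁.mem_v⟩, P₁.π_v]
      funext i; fin_cases i <;> simp [hbdef]
  exact hno ⟨hGC, hGF⟩

end H74.Glau
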