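import Cfsg.Agent.H74.SL2
import Cfsg.Prelude.Def_LocalEven
import Cfsg.Agent.H74.S4Section

/-!
The group `F(p)` and a criterion for its involvement.
-/

set_option autoImplicit false

namespace H74.Glau

open Matrix

variable {K : Type*} [Field K]

/-- The element `(a c t₀; 0 a⁻¹ t₁; 0 0 1)`. -/
def fEl (a : Kˣ) (c t₀ t₁ : K) : Matrix.SpecialLinearGroup (Fin 3) K :=
  ⟨!![(a : K), c, t₀; 0, (a : K)⁻¹, t₁; 0, 0, 1], by simp [Matrix.det_fin_three]⟩

theorem coe_fEl (a : Kˣ) (c t₀ t₁ : K) : (fEl a c t₀ t₁ : Matrix (Fin 3) (Fin 3) K) =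
    !![(a : K), c, t₀; 0, (a : K)⁻¹, t₁; 0, 0, 1] := rfl

theorem fEl_mem (a : Kˣ) (c t₀ t₁ : K) : fEl a c t₀ t₁ ∈ Cfsg.fOver K :=
  Subgroup.subset_closure (by simp [coe_fEl])

theorem fEl_mul (a a' : Kˣ) (c t₀ t₁ c' s₀ s₁ : K) :
    fEl a c t₀ t₁ * fEl a' c' s₀ s₁ =
      fEl (a * a') ((a : K) * c' + c * (a' : K)⁻¹) ((a : K) * s₀ + c * s₁ + t₀)
        ((a : K)⁻¹ * s₁ + t₁) := by
  apply Subtype.ext
  ext i j
  fin_cases i <;> fin_cases j <;>
    simp [coe_fEl, Matrix.mul_apply, Fin.sum_univ_three, mul_comm]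

theorem fEl_one : fEl (1 : Kˣ) 0 0 0 = (1 : Matrix.SpecialLinearGroup (Fin 3) K) := by
  apply Subtype.ext
  ext i j
  fin_cases i <;> fin_cases j <;> simp [coe_fEl]

/-- The upper triangular matrices of the defining shape. -/
def fShape (K : Type*) [Field K] : Submonoid (Matrix.SpecialLinearGroup (Fin 3) K) where
  carrier := {M | ∃ a c t₀ t₁, M = fEl a c t₀ t₁}
  one_mem' := ⟨1, 0, 0, 0, fEl_one.symm⟩
  mul_mem' := by
    rintro _ _ ⟨a, c, t₀, t₁, rfl⟩ ⟨a', c', s₀, s₁, rfl⟩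
    exact ⟨_, _, _, _, fEl_mul _ _ _ _ _ _ _ _⟩

theorem exists_fEl [Finite K] {M : Matrix.SpecialLinearGroup (Fin 3) K} (h : M ∈ Cfsg.fOver K) :
    ∃ a c t₀ t₁, M = fEl a c t₀ t₁ := by
  have h' : M ∈ (Cfsg.fOver K).toSubmonoid := h
  rw [Cfsg.fOver, Subgroup.closure_toSubmonoid_of_finite] at h'
  refine (Submonoid.closure_le (S := fShape K)).mpr ?_ h'
  rintro N ⟨h10, h20, h21, h22⟩
  have hd := N.2
  rw [Matrix.det_fin_three, h10, h20, h21, h22] at hd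
  simp at hd
  refine ⟨⟨(N : Matrix (Fin 3) (Fin 3) K) 0 0, (N : Matrix (Fin 3) (Fin 3) K) 1 1, hd,
      (mul_comm _ _).trans hd⟩,
    (N : Matrix (Fin 3) (Fin 3) K) 0 1, (N : Matrix (Fin 3) (Fin 3) K) 0 2,
    (N : Matrix (Fin 3) (Fin 3) K) 1 2, Subtype.ext ?_⟩
  ext i j
  fin_cases i <;> fin_cases j <;> simp [coe_fEl, h10, h20, h21, h22, eq_inv_of_mul_eq_one_right hd]

/-- A graph criterion: a `p`-subgroup with a `p'`-element acting on it as the torus. -/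
theorem involves_of_graph {H F : Type*} [Group H] [Group F] [Finite H] [Finite F] {p : ℕ}
    [Fact p.Prime] (R : Subgroup H) (hR : IsPGroup p R) (ψ : R →* F) (h : H)
    (hh : (orderOf h).Coprime p) (hn : ∀ r ∈ R, h * r * h⁻¹ ∈ R) (τ : F)
    (heq : ∀ (r : H) (hr : r ∈ R), ψ ⟨h * r * h⁻¹, hn r hr⟩ = τ * ψ ⟨r, hr⟩ * τ⁻¹)
    (hgen : ψ.range ⊔ Subgroup.zpowers τ = ⊤)
    (hfaith : ∀ j : ℕ, (∀ r, τ ^ j * ψ r * (τ ^ j)⁻¹ = ψ r) → τ ^ j = 1) :
    Cfsg.Involves F H := by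
  classical
  let P : Subgroup (H × F) := (R.subtype.prod ψ).range
  have hpn : (h, τ) ∈ Subgroup.normalizer (P : Set (H × F)) := by
    refine Subgroup.mem_normalizer_fintype ?_
    rintro _ ⟨r, rfl⟩
    exact ⟨⟨h * r * h⁻¹, hn r r.2⟩, Prod.ext rfl (heq r r.2)⟩
  let Γ : Subgroup (H × F) := P ⊔ Subgroup.zpowers (h, τ)
  have hinj : ∀ z ∈ Γ, z.1 = 1 → z = 1 := by
    intro z hz hz1
    rw [← SetLike.mem_coe, Subgroup.coe_mul_of_right_le_normalizer_left P _ (Subgroup.zpowers_le.mpr hpn)] at hz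
    obtain ⟨_, ⟨r, rfl⟩, w, hw, rfl⟩ := hz
    obtain ⟨j, rfl⟩ := (mem_powers_iff_mem_zpowers.mpr hw)
    simp only [Prod.pow_mk, Prod.fst_mul, MonoidHom.prod_apply, Subgroup.coe_subtype] at hz1 ⊢
    have hr : r = 1 := by
      obtain ⟨k, hk⟩ := hR r
      have h1 : h ^ j = (r : H)⁻¹ := eq_inv_of_mul_eq_one_right hz1
      apply Subtype.ext
      have h2 : orderOf (r : H) ∣ orderOf h := by
        rw [← orderOf_inv, ← h1]; exact orderOf_pow_dvd j
      exact orderOf_eq_one_iff.mp (Nat.eq_one_of_dvd_coprimes (hh.pow_right k) h2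
        (orderOf_dvd_of_pow_eq_one (congrArg Subtype.val hk)))
    subst hr
    rw [OneMemClass.coe_one, one_mul] at hz1
    have hconj : ∀ (i : ℕ) (r : H) (hr : r ∈ R), ∃ hri : h ^ i * r * (h ^ i)⁻¹ ∈ R,
        ψ ⟨_, hri⟩ = τ ^ i * ψ ⟨r, hr⟩ * (τ ^ i)⁻¹ := by
      intro i
      induction i with
      | zero =>
        intro r hr
        refine ⟨by simpa using hr, ?_⟩
        simp
      | succ i ih =>
        intro r hr
        obtain ⟨h1, h2⟩ := ih r hr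
        have e : h ^ (i + 1) * r * (h ^ (i + 1))⁻¹ = h * (h ^ i * r * (h ^ i)⁻¹) * h⁻¹ := by
          rw [pow_succ']; group
        refine ⟨e ▸ hn _ h1, ?_⟩
        rw [show (⟨_, e ▸ hn _ h1⟩ : R) = ⟨_, hn _ h1⟩ from Subtype.ext e, heq _ h1, h2, pow_succ']
        group
    have hτ : τ ^ j = 1 := hfaith j fun r => by
      obtain ⟨h1, h2⟩ := hconj j r r.2
      rw [← h2]
      congr 1
      exact Subtype.ext (by simp [hz1])
    simp [hz1, hτ]
  let f1 : Γ →* H := (MonoidHom.fst H F).comp Γ.subtype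
  let f2 : Γ →* F := (MonoidHom.snd H F).comp Γ.subtype
  have hf1 : Function.Injective f1 := (injective_iff_map_eq_one f1).mpr fun z hz =>
    Subtype.ext (hinj _ z.2 hz)
  have hf2 : Function.Surjective f2 := by
    rw [← MonoidHom.range_eq_top, eq_top_iff, ← hgen]
    refine sup_le ?_ (Subgroup.zpowers_le.mpr ⟨⟨(h, τ), Subgroup.mem_sup_right (Subgroup.mem_zpowers _)⟩, rfl⟩)
    rintro _ ⟨r, rfl⟩
    exact ⟨⟨_, Subgroup.mem_sup_left ⟨r, rfl⟩⟩, rfl⟩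
  let e : Γ ≃* f1.range := MonoidHom.ofInjective hf1
  exact H74.S4Section.involves_of_surjective (M := f1.range) (f2.comp e.symm.toMonoidHom)
    (hf2.comp e.symm.surjective)

end H74.Glau
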