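import Cfsg.Agent.H74.Glau.PairSL2

/-!
Two quadratic elements without common fixed points: a plane section with a torus element.
-/

set_option autoImplicit false

namespace H74.Glau

open Matrix Polynomial

variable {G : Type*} [Group G] [Finite G] {V : Type*} [AddCommGroup V] [Finite V]

/-- `g` acts quadratically. -/
def Quad (ρ : G →* AddMonoid.End V) (g : G) : Prop :=
  ∀ v, ρ g (ρ g v - v) = ρ g v - v

/-- A plane section of `V` over a field, on which `x` is a transvection and `h` is diagonal. -/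
structure PlaneData (p : ℕ) (ρ : G →* AddMonoid.End V) (b : ℕ) (x y h : G) (v : V)
    (F : Type) [Field F] where
  Y : AddSubgroup V
  π : Y →+ (Fin 2 → F)
  mem_v : v ∈ Y
  π_v : π ⟨v, mem_v⟩ = ![1, 0]
  surj : Function.Surjective π
  x_mem : ∀ w ∈ Y, ρ x w ∈ Y
  h_mem : ∀ w ∈ Y, ρ h w ∈ Y
  l : F
  l_ne : l ≠ 0
  π_x : ∀ w : Y, π ⟨ρ x w, x_mem w w.2⟩ = ![π w 0 + l * π w 1, π w 1]
  π_h : ∀ w : Y, π ⟨ρ h w, h_mem w w.2⟩ = ![(b : F) * π w 0, (b : F)⁻¹ * π w 1]

variable {p : ℕ} [Fact p.Prime]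

omit [Finite G] [Finite V] in
theorem coe_mul_apply (ρ : G →* AddMonoid.End V) (g h : G) (v : V) :
    ρ (g * h) v = ρ g (ρ h v) := by rw [map_mul]; rfl

omit [Finite G] [Finite V] in
theorem coe_inv_apply (ρ : G →* AddMonoid.End V) (g : G) (v : V) : ρ g⁻¹ (ρ g v) = v := by
  rw [← coe_mul_apply, inv_mul_cancel, map_one]; rfl

/-- A `p`-group has a nonzero fixed vector. -/
theorem exists_fixed_ne_zero (ρ : G →* AddMonoid.End V) (hpV : ∀ v : V, p • v = 0)
    {P : Subgroup G} (hP : IsPGroup p P) {v : V} (hv : v ≠ 0) :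
    ∃ u : V, u ≠ 0 ∧ ∀ g ∈ P, ρ g u = u := by
  let _ : MulAction P V :=
    { smul := fun g u => ρ g u
      one_smul := fun u => by show ρ ((1 : P) : G) u = u; rw [OneMemClass.coe_one, map_one]; rfl
      mul_smul := fun g h u => coe_mul_apply ρ g h u }
  have hdvd : p ∣ Nat.card V := by
    have h := addOrderOf_dvd_natCard v
    rwa [addOrderOf_eq_prime (hpV v) hv] at h
  obtain ⟨u, hu, hu0⟩ := hP.exists_fixed_point_of_prime_dvd_card_of_fixed_point V hdvd
    (a := (0 : V)) (fun g => map_zero (ρ g))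
  exact ⟨u, fun h => hu0 h.symm, fun g hg => hu ⟨g, hg⟩⟩

theorem exists_plane (hp : p ≠ 2) (ρ : G →* AddMonoid.End V) (hpV : ∀ v : V, p • v = 0) {x y : G}
    (hxp : ∃ k, x ^ p ^ k = 1)
    (hx : Quad ρ x) (hy : Quad ρ y) (hCC : ∀ v, ρ x v = v → ρ y v = v → v = 0)
    {v : V} (hv : v ≠ 0) (hxv : ρ x v = v) (a : (ZMod p)ˣ) (ha : (a : ZMod p) ≠ 1) :
    ∃ h ∈ Subgroup.closure ({x, y} : Set G), (orderOf h).Coprime p ∧
      (∃ u : AddSubgroup V, u ≠ ⊥ ∧ (∀ w ∈ u, ρ x w = w) ∧ ∀ w ∈ u, ρ h w ∈ u) ∧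
      ∃ (F : Type) (_ : Field F) (_ : Finite F) (_ : CharP F p),
        Nonempty (PlaneData p ρ (a : ZMod p).val x y h v F) := by
  classical
  have hpp : p.Prime := Fact.out
  haveI : NeZero p := ⟨hpp.ne_zero⟩
  let Dx : AddMonoid.End V := ρ x - 1
  let Dy : AddMonoid.End V := ρ y - 1
  have hDx : ∀ w, Dx w = ρ x w - w := fun w => rfl
  have hDy : ∀ w, Dy w = ρ y w - w := fun w => rfl
  let γ : AddMonoid.End V := Dx * Dy
  have hγ : ∀ w, γ w = Dx (Dy w) := fun w => rfl
  -- fixed points and injectivity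
  have hfy : ∀ u, ρ y (Dy u) = Dy u := fun u => by rw [hDy]; exact hy u
  have hdisj : ∀ u u', ρ x u = u → ρ x u' = u' → u + Dy u' = 0 → u = 0 ∧ u' = 0 := by
    intro u u' hu hu' h
    have huy : ρ y u = u := by
      rw [eq_neg_of_add_eq_zero_left h, map_neg, hfy]
    have h0 := hCC u hu huy
    rw [h0, zero_add, hDy, sub_eq_zero] at h
    exact ⟨h0, hCC u' hu' h⟩
  have hγinj : ∀ u, ρ x u = u → γ u = 0 → u = 0 := by
    intro u hu h
    rw [hγ, hDx, sub_eq_zero] at h
    have h2 := hCC (Dy u) h (hfy u)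
    rw [hDy, sub_eq_zero] at h2
    exact hCC u hu h2
  let ev : ℤ[X] →+ V :=
    { toFun := fun f => (aeval γ f) v
      map_zero' := by rw [map_zero]; rfl
      map_add' := fun f g => by rw [map_add]; rfl }
  have hev : ∀ f, ev f = (aeval γ f) v := fun _ => rfl
  have hevX : ∀ f, ev (X * f) = γ (ev f) := fun f => by rw [hev, map_mul, aeval_X]; rfl
  have hevfix : ∀ f, ρ x (ev f) = ev f := by
    intro f
    induction f using Polynomial.induction_on' with
    | add f g hf hg => rw [map_add, map_add, hf, hg]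
    | monomial n c =>
      have hn : ρ x ((γ ^ n) v) = (γ ^ n) v := by
        induction n with
        | zero => simpa using hxv
        | succ n ih =>
          rw [pow_succ', show (γ * γ ^ n) v = γ ((γ ^ n) v) from rfl, hγ, hDx]
          exact hx _
      rw [hev, aeval_monomial, eq_intCast]
      show ρ x ((c : AddMonoid.End V) ((γ ^ n) v)) = _
      simp only [AddMonoid.End.intCast_apply]
      rw [map_zsmul, hn]
      rfl
  -- the field
  let Ann : Ideal ℤ[X] :=
    { carrier := {f | ev f = 0}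
      zero_mem' := map_zero ev
      add_mem' := fun {f g} hf hg => by show ev (f + g) = 0; rw [map_add, hf, hg, add_zero]
      smul_mem' := fun g f hf => by
        show ev (g * f) = 0
        rw [hev, map_mul]
        show (aeval γ g) (ev f) = 0
        rw [show ev f = 0 from hf, map_zero] }
  have hAnn : Ann ≠ ⊤ := fun e => hv (by
    have h : (1 : ℤ[X]) ∈ Ann := e ▸ Submodule.mem_top
    have : ev 1 = 0 := h
    rwa [hev, map_one] at this)
  obtain ⟨m, hm, hAm⟩ := Ideal.exists_le_maximal Ann hAnn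
  haveI := hm
  haveI : Finite (ℤ[X] ⧸ Ann) := Finite.of_injective
    (Quotient.lift (fun f => ev f) fun f g (hfg : (Submodule.quotientRel Ann) f g) => by
      rw [Submodule.quotientRel_def] at hfg
      have : ev (f - g) = 0 := hfg
      rwa [map_sub, sub_eq_zero] at this : ℤ[X] ⧸ Ann → V) (by
      intro a b
      induction a using Quotient.inductionOn with | _ f => ?_
      induction b using Quotient.inductionOn with | _ g => ?_
      intro h
      refine Quotient.sound ?_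
      show (Submodule.quotientRel Ann) f g
      rw [Submodule.quotientRel_def]
      show ev (f - g) = 0
      rw [map_sub, sub_eq_zero]; exact h)
  let F := ℤ[X] ⧸ m
  letI : Field F := Ideal.Quotient.field m
  let q : ℤ[X] →+* F := Ideal.Quotient.mk m
  have hq0 : ∀ f, ev f = 0 → q f = 0 := fun f hf => Ideal.Quotient.eq_zero_iff_mem.mpr (hAm hf)
  haveI : Finite F := Finite.of_surjective (Ideal.Quotient.factor hAm) (by
    intro z
    obtain ⟨f, rfl⟩ := Ideal.Quotient.mk_surjective z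
    exact ⟨Ideal.Quotient.mk Ann f, rfl⟩)
  letI : Fintype F := Fintype.ofFinite F
  have hpF : (p : F) = 0 := by
    rw [← map_natCast q]
    refine hq0 _ ?_
    rw [hev, map_natCast]
    show ((p : AddMonoid.End V)) v = 0
    simpa using hpV v
  haveI hchar : CharP F p := (CharP.charP_iff_prime_eq_zero hpp).mpr hpF
  have hlne : q X ≠ 0 := by
    intro h0
    have hXm : X ∈ m := Ideal.Quotient.eq_zero_iff_mem.mp h0
    let R := ev.range
    have hinj : Function.Injective (fun u : R => (⟨γ u, by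
        obtain ⟨f, hf⟩ := u.2; exact ⟨X * f, by rw [hevX, hf]⟩⟩ : R)) := by
      rintro ⟨u, f, rfl⟩ ⟨u', g, rfl⟩ h
      have h' : γ (ev f) = γ (ev g) := congrArg Subtype.val h
      apply Subtype.ext
      have := hγinj (ev f - ev g) (by rw [map_sub, hevfix, hevfix]) (by rw [map_sub, h', sub_self])
      exact sub_eq_zero.mp this
    obtain ⟨⟨_, g, rfl⟩, hg⟩ := (Finite.injective_iff_surjective.mp hinj) ⟨ev 1, 1, rfl⟩
    have h1 : X * g - 1 ∈ Ann := by
      show ev _ = 0
      rw [map_sub, hevX, sub_eq_zero]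
      exact congrArg Subtype.val hg
    exact hm.ne_top ((Ideal.eq_top_iff_one _).mpr (by
      simpa using m.sub_mem (m.mul_mem_right g hXm) (hAm h1)))
  -- the plane
  let Y : AddSubgroup V :=
    { carrier := {w | ∃ f g, w = ev f + Dy (ev g)}
      zero_mem' := ⟨0, 0, by simp⟩
      add_mem' := by
        rintro _ _ ⟨f, g, rfl⟩ ⟨f', g', rfl⟩
        exact ⟨f + f', g + g', by simp only [map_add]; abel⟩
      neg_mem' := by
        rintro _ ⟨f, g, rfl⟩
        exact ⟨-f, -g, by simp only [map_neg]; abel⟩ }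
  have huniq : ∀ f g f' g', ev f + Dy (ev g) = ev f' + Dy (ev g') → q f = q f' ∧ q g = q g' := by
    intro f g f' g' h
    obtain ⟨h1, h2⟩ := hdisj (ev (f - f')) (ev (g - g')) (hevfix _) (hevfix _) (by
      simp only [map_sub]
      rw [← sub_eq_zero.mpr h]; abel)
    exact ⟨sub_eq_zero.mp (by rw [← map_sub]; exact hq0 _ h1),
      sub_eq_zero.mp (by rw [← map_sub]; exact hq0 _ h2)⟩
  let cf : Y → ℤ[X] := fun w => Classical.choose w.2
  let cg : Y → ℤ[X] := fun w => Classical.choose (Classical.choose_spec w.2)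
  have hc : ∀ w : Y, (w : V) = ev (cf w) + Dy (ev (cg w)) := fun w =>
    Classical.choose_spec (Classical.choose_spec w.2)
  let π : Y →+ (Fin 2 → F) := AddMonoidHom.mk' (fun w => ![q (cf w), q (cg w)]) fun w w' => by
    obtain ⟨h1, h2⟩ := huniq (cf (w + w')) (cg (w + w')) (cf w + cf w') (cg w + cg w') (by
      rw [← hc, AddSubgroup.coe_add, hc w, hc w']
      simp only [map_add]; abel)
    funext i
    fin_cases i <;> simp [h1, h2]
  have hπ : ∀ (w : V) (hw : w ∈ Y) f g, w = ev f + Dy (ev g) → π ⟨w, hw⟩ = ![q f, q g] := by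
    intro w hw f g h
    obtain ⟨h1, h2⟩ := huniq (cf ⟨w, hw⟩) (cg ⟨w, hw⟩) f g (by rw [← hc]; exact h)
    show ![q (cf ⟨w, hw⟩), q (cg ⟨w, hw⟩)] = _
    rw [h1, h2]
  have hπsurj : Function.Surjective π := by
    intro n
    obtain ⟨f, hf⟩ := Ideal.Quotient.mk_surjective (n 0)
    obtain ⟨g, hg⟩ := Ideal.Quotient.mk_surjective (n 1)
    refine ⟨⟨_, f, g, rfl⟩, (hπ _ _ f g rfl).trans ?_⟩
    funext i
    fin_cases i
    exacts [hf, hg]
  -- the homomorphism
  let Q : G → Matrix.SpecialLinearGroup (Fin 2) F → Prop := fun g N =>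
    ∀ w : Y, ∃ hw : ρ g w ∈ Y, π ⟨ρ g w, hw⟩ = (N : Matrix (Fin 2) (Fin 2) F).mulVec (π w)
  have hQx : Q x (SL2.uT (q X)) := by
    rintro ⟨_, f, g, rfl⟩
    have e : ρ x (ev f + Dy (ev g)) = ev (f + X * g) + Dy (ev g) := by
      rw [map_add, hevfix, map_add, hevX, hγ, hDx]; abel
    refine ⟨⟨_, _, e⟩, ?_⟩
    rw [hπ _ _ _ _ e, hπ _ _ f g rfl]
    funext i
    fin_cases i <;> simp [SL2.coe_uT, Matrix.mulVec, dotProduct, Fin.sum_univ_two]
  have hQy : Q y (SL2.lT 1) := by
    rintro ⟨_, f, g, rfl⟩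
    have e : ρ y (ev f + Dy (ev g)) = ev f + Dy (ev (f + g)) := by
      rw [map_add, hfy, map_add, map_add, hDy (ev f)]; abel
    refine ⟨⟨_, _, e⟩, ?_⟩
    rw [hπ _ _ _ _ e, hπ _ _ f g rfl]
    funext i
    fin_cases i <;> simp [SL2.coe_lT, Matrix.mulVec, dotProduct, Fin.sum_univ_two]
  have hQmul : ∀ g g' N N', Q g N → Q g' N' → Q (g * g') (N * N') := by
    intro g g' N N' h h' w
    obtain ⟨hw', e'⟩ := h' w
    obtain ⟨hw, e⟩ := h ⟨_, hw'⟩
    have hgw : ρ (g * g') w ∈ Y := by rw [coe_mul_apply]; exact hw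
    refine ⟨hgw, ?_⟩
    have : (⟨_, hgw⟩ : Y) = ⟨_, hw⟩ := Subtype.ext (coe_mul_apply ρ g g' w)
    rw [this, e, e', Matrix.SpecialLinearGroup.coe_mul, Matrix.mulVec_mulVec]
  have hQuniq : ∀ g N N', Q g N → Q g N' → N = N' := by
    intro g N N' h h'
    apply Subtype.ext
    refine Matrix.ext_of_mulVec_single fun j => ?_
    obtain ⟨w, hw⟩ := hπsurj (Pi.single j 1)
    obtain ⟨hY, e⟩ := h w
    obtain ⟨hY', e'⟩ := h' w
    rw [← hw, ← e, ← e']
  set M := Subgroup.closure ({x, y} : Set G) with hM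
  have hQM : ∀ g ∈ M, ∃ N, Q g N := by
    intro g hg
    have hg' : g ∈ Submonoid.closure ({x, y} : Set G) := by
      rw [← Subgroup.closure_toSubmonoid_of_finite]; exact hg
    induction hg' using Submonoid.closure_induction with
    | mem g hg' =>
      rcases hg' with rfl | rfl
      exacts [⟨_, hQx⟩, ⟨_, hQy⟩]
    | one =>
      refine ⟨1, fun w => ⟨by rw [map_one]; exact w.2, ?_⟩⟩
      rw [Matrix.SpecialLinearGroup.coe_one, Matrix.one_mulVec]
      congr 1
      refine Subtype.ext ?_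
      show ρ 1 (w : V) = w
      rw [map_one]; rfl
    | mul g g' hg1 hg2 h h' =>
      have e : ∀ k, k ∈ Submonoid.closure ({x, y} : Set G) → k ∈ M := fun k hk => by
        rw [← Subgroup.closure_toSubmonoid_of_finite] at hk; exact hk
      obtain ⟨N, hN⟩ := h (e _ hg1)
      obtain ⟨N', hN'⟩ := h' (e _ hg2)
      exact ⟨_, hQmul _ _ _ _ hN hN'⟩
  choose Nf hNf using fun g : M => hQM g g.2
  let φ : M →* Matrix.SpecialLinearGroup (Fin 2) F := MonoidHom.mk' Nf fun g g' =>
    hQuniq _ _ _ (hNf (g * g')) (hQmul _ _ _ _ (hNf g) (hNf g'))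
  have hxM : x ∈ M := Subgroup.subset_closure (by simp)
  have hyM : y ∈ M := Subgroup.subset_closure (by simp)
  have hφx : φ ⟨x, hxM⟩ = SL2.uT (q X) := hQuniq _ _ _ (hNf _) hQx
  have hφy : φ ⟨y, hyM⟩ = SL2.lT 1 := hQuniq _ _ _ (hNf _) hQy
  obtain ⟨N, ⟨h₀, hh₀⟩, hN10, hN00⟩ :=
    exists_diag hp φ.range hlne ⟨_, hφx⟩ ⟨_, hφy⟩ a
  -- Frattini
  let B : Subgroup M := (Subgroup.normalizer (SL2.upper F : Set (Matrix.SpecialLinearGroup (Fin 2) F))).comap φ
  let U : Subgroup B := ((SL2.upper F).comap φ).subgroupOf B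
  have hUB : (SL2.upper F).comap φ ≤ B := Subgroup.comap_mono Subgroup.le_normalizer
  haveI : U.Normal := Subgroup.Normal.mk fun n hn g => by
    simp only [U, Subgroup.mem_subgroupOf, Subgroup.mem_comap] at hn ⊢
    rw [Subgroup.coe_mul, Subgroup.coe_mul, Subgroup.coe_inv, map_mul, map_mul, map_inv]
    exact (Subgroup.mem_normalizer_iff.mp g.2 _).mp hn
  have hxB : (⟨x, hxM⟩ : M) ∈ B := hUB (by
    show φ _ ∈ SL2.upper F
    rw [hφx]; exact SL2.mem_upper.mpr ⟨_, rfl⟩)
  have hxU : (⟨⟨x, hxM⟩, hxB⟩ : B) ∈ U := by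
    show φ ⟨x, hxM⟩ ∈ SL2.upper F
    rw [hφx]; exact SL2.mem_upper.mpr ⟨_, rfl⟩
  have hxpg : IsPGroup p (Subgroup.zpowers (⟨⟨⟨x, hxM⟩, hxB⟩, hxU⟩ : U)) := by
    obtain ⟨k, hk⟩ := hxp
    refine IsPGroup.of_card_dvd_pow (n := k) ?_
    rw [Nat.card_zpowers]
    exact orderOf_dvd_of_pow_eq_one (Subtype.ext (Subtype.ext (Subtype.ext (by simpa using hk))))
  obtain ⟨P, hP⟩ := hxpg.exists_le_sylow
  have hfr := Sylow.normalizer_sup_eq_top P
  have hh₀B : h₀ ∈ B := by
    show φ h₀ ∈ Subgroup.normalizer (SL2.upper F : Set (Matrix.SpecialLinearGroup (Fin 2) F))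
    rw [hh₀]; exact SL2.mem_normalizer_upper.mpr hN10
  have hmem : (⟨h₀, hh₀B⟩ : B) ∈
      Subgroup.normalizer (((P : Subgroup U).map U.subtype : Subgroup B) : Set B) ⊔ U := by
    rw [hfr]; exact Subgroup.mem_top _
  rw [Subgroup.mem_sup_of_normal_right] at hmem
  obtain ⟨h₁, hh₁, u, hu, hhu⟩ := hmem
  have hφ₁ : (φ (h₁ : M) : Matrix (Fin 2) (Fin 2) F) 1 0 = 0 ∧
      (φ (h₁ : M) : Matrix (Fin 2) (Fin 2) F) 0 0 = ((a : ZMod p).val : F) := by
    obtain ⟨s, hs⟩ := SL2.mem_upper.mp (show φ (u : M) ∈ SL2.upper F from hu)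
    have e : (φ (h₁ : M)) * SL2.uT s = N := by
      rw [hs, ← map_mul, ← hh₀]
      exact congrArg φ (congrArg Subtype.val hhu)
    have e' : φ (h₁ : M) = N * SL2.uT (-s) := by
      rw [← e, mul_assoc, ← SL2.uT_add, add_neg_cancel,
        show SL2.uT (0 : F) = 1 from Subtype.ext (by simp [SL2.coe_uT, Matrix.one_fin_two]), mul_one]
    rw [e']
    constructor
    · simp [Matrix.mul_apply, Fin.sum_univ_two, SL2.coe_uT, hN10]
    · rw [show ((a : ZMod p).val : F) = ZMod.castHom (dvd_refl p) F (a : ZMod p) by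
        conv_rhs => rw [← ZMod.natCast_zmod_val (a : ZMod p), map_natCast]]
      simp [Matrix.mul_apply, Fin.sum_univ_two, SL2.coe_uT, hN00]
  -- the p'-part
  set e := (orderOf (h₁ : B)).factorization p with he
  set h := h₁ ^ p ^ e with hhdef
  have hcop : (orderOf h).Coprime p := by
    rw [hhdef, orderOf_pow' _ (pow_ne_zero _ hpp.ne_zero),
      Nat.gcd_eq_right (Nat.ordProj_dvd _ p)]
    exact (Nat.coprime_ordCompl hpp (orderOf_pos _).ne').symm
  have hhn : h ∈ Subgroup.normalizer (((P : Subgroup U).map U.subtype : Subgroup B) : Set B) :=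
    pow_mem hh₁ _
  refine ⟨((h : M) : G), (h : M).2, ?_, ?_, F, inferInstance, inferInstance, hchar, ?_⟩
  · rwa [Subgroup.orderOf_coe, Subgroup.orderOf_coe]
  · let PG : Subgroup G := (((P : Subgroup U).map U.subtype).map B.subtype).map M.subtype
    have hPG : IsPGroup p PG := ((P.isPGroup'.map _).map _).map _
    obtain ⟨w, hw, hwfix⟩ := exists_fixed_ne_zero ρ hpV hPG hv
    let Fx : AddSubgroup V :=
      { carrier := {u | ∀ g ∈ PG, ρ g u = u}
        zero_mem' := fun g _ => map_zero _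
        add_mem' := fun {s t} hs ht g hg => by rw [map_add, hs g hg, ht g hg]
        neg_mem' := fun {s} hs g hg => by rw [map_neg, hs g hg] }
    refine ⟨Fx, ?_, ?_, ?_⟩
    · intro hbot
      exact hw ((AddSubgroup.mem_bot).mp (hbot ▸ (hwfix : w ∈ Fx)))
    · exact fun w hw => hw x ⟨_, ⟨_, ⟨_, hP (Subgroup.mem_zpowers _), rfl⟩, rfl⟩, rfl⟩
    · intro w hw g hg
      have hg' : ((h : M) : G)⁻¹ * g * ((h : M) : G) ∈ PG := by
        obtain ⟨_, ⟨b, hb, rfl⟩, rfl⟩ := hg
        exact ⟨_, ⟨h⁻¹ * b * h, by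
          have := (Subgroup.mem_normalizer_iff.mp (inv_mem hhn) b).mp hb
          rwa [inv_inv] at this, rfl⟩, by simp⟩
      rw [← coe_mul_apply, show g * ((h : M) : G) = ((h : M) : G) * (((h : M) : G)⁻¹ * g * ((h : M) : G))
        by group, coe_mul_apply, hw _ hg']
  -- diagonalisation
  set b := (a : ZMod p).val with hb
  have hbF : (b : F) ≠ 0 := by
    intro hb0
    rw [CharP.cast_eq_zero_iff F p] at hb0
    exact a.ne_zero (by rw [← ZMod.natCast_zmod_val (a : ZMod p), ← hb, (ZMod.natCast_eq_zero_iff _ _).mpr hb0])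
  have hpw : ∀ k, (φ ((h₁ ^ k : B) : M) : Matrix (Fin 2) (Fin 2) F) 1 0 = 0 ∧
      (φ ((h₁ ^ k : B) : M) : Matrix (Fin 2) (Fin 2) F) 0 0 = (b : F) ^ k := by
    intro k
    induction k with
    | zero => simp
    | succ k ih =>
      rw [pow_succ, Subgroup.coe_mul, map_mul]
      simp only [Matrix.SpecialLinearGroup.coe_mul, Matrix.mul_apply, Fin.sum_univ_two, ih.1, ih.2,
        hφ₁.1, hφ₁.2, mul_zero, zero_mul, add_zero]
      exact ⟨trivial, by rw [hb, pow_succ]⟩
  set Nh := φ (h : M) with hNh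
  have h10 : (Nh : Matrix (Fin 2) (Fin 2) F) 1 0 = 0 := (hpw _).1
  have h00 : (Nh : Matrix (Fin 2) (Fin 2) F) 0 0 = b := by
    rw [hNh, hhdef, (hpw _).2]
    induction e with
    | zero => simp
    | succ e ih =>
      rw [pow_succ, pow_mul, ih, ← Nat.cast_pow, ← sub_eq_zero]
      have : ((b : ZMod p)) ^ p = b := ZMod.pow_card _
      rw [← Nat.cast_pow, ZMod.natCast_eq_natCast_iff] at this
      rw [sub_eq_zero, (CharP.natCast_eq_natCast F p).mpr this]
  have hdet := Nh.2
  rw [Matrix.det_fin_two, h10, mul_zero, sub_zero, h00] at hdet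
  have h11 : (Nh : Matrix (Fin 2) (Fin 2) F) 1 1 = (b : F)⁻¹ := eq_inv_of_mul_eq_one_right hdet
  set c := (Nh : Matrix (Fin 2) (Fin 2) F) 0 1 with hc01
  obtain ⟨k, hk⟩ : ∃ k : F, c + k * (b : F)⁻¹ = k * b := by
    by_cases hbb : (b : F) - (b : F)⁻¹ = 0
    · refine ⟨0, ?_⟩
      rw [zero_mul, zero_mul, add_zero]
      have hb1 : (b : F)⁻¹ = b := (sub_eq_zero.mp hbb).symm
      have hpow : ∀ n : ℕ, ((Nh ^ n : Matrix.SpecialLinearGroup (Fin 2) F) : Matrix (Fin 2) (Fin 2) F) 0 1 =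
          n * c * (b : F) ^ (n - 1) ∧
          ((Nh ^ n : Matrix.SpecialLinearGroup (Fin 2) F) : Matrix (Fin 2) (Fin 2) F) 0 0 = (b : F) ^ n := by
        intro n
        induction n with
        | zero => simp
        | succ n ih =>
          rw [pow_succ]
          simp only [Matrix.SpecialLinearGroup.coe_mul, Matrix.mul_apply, Fin.sum_univ_two, ih.1, ih.2,
            h10, h00, h11, hb1, ← hc01]
          refine ⟨?_, by ring⟩
          rcases n with _ | n <;> simp <;> ring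
      have hn1 : Nh ^ orderOf h = 1 := by
        rw [hNh, ← map_pow, ← SubmonoidClass.coe_pow, pow_orderOf_eq_one]
        exact map_one φ
      have h2 := (hpow (orderOf h)).1
      rw [hn1, Matrix.SpecialLinearGroup.coe_one, Matrix.one_apply_ne (by decide)] at h2
      rcases mul_eq_zero.mp h2.symm with h3 | h3
      · rcases mul_eq_zero.mp h3 with h4 | h4
        · rw [CharP.cast_eq_zero_iff F p] at h4
          exact absurd h4 (hpp.coprime_iff_not_dvd.mp hcop.symm)
        · exact h4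
      · exact absurd (eq_zero_of_pow_eq_zero h3) hbF
    · exact ⟨c / ((b : F) - (b : F)⁻¹), by rw [div_mul_eq_mul_div, div_mul_eq_mul_div, add_div_eq_mul_add_div _ _ hbb]; ring⟩
  let shear : (Fin 2 → F) →+ (Fin 2 → F) :=
    AddMonoidHom.mk' (fun n => ![n 0 + k * n 1, n 1]) fun n n' => by
      funext i; fin_cases i <;> simp <;> ring
  refine ⟨{ Y := Y, π := shear.comp π, mem_v := ⟨1, 0, by simp [hev]⟩, π_v := ?_, surj := ?_,
            x_mem := fun w hw => (hQx ⟨w, hw⟩).1, h_mem := fun w hw => (hNf (h : M) ⟨w, hw⟩).1,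
            l := q X, l_ne := hlne, π_x := ?_, π_h := ?_ }⟩
  · show shear _ = _
    rw [hπ v _ 1 0 (by simp [hev])]
    funext i; fin_cases i <;> simp [shear]
  · intro n
    obtain ⟨w, hw⟩ := hπsurj ![n 0 - k * n 1, n 1]
    exact ⟨w, by show shear _ = _; rw [hw]; funext i; fin_cases i <;> simp [shear]⟩
  · intro w
    obtain ⟨hw, e⟩ := hQx w
    show shear (π _) = _
    rw [e]
    funext i
    fin_cases i <;> simp [shear, SL2.coe_uT, Matrix.mulVec, dotProduct, Fin.sum_univ_two]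
    ring
  · intro w
    obtain ⟨hw, e⟩ := hNf (h : M) w
    show shear (π _) = _
    rw [e]
    have e' : (Nf (h : M) : Matrix (Fin 2) (Fin 2) F) = (Nh : Matrix (Fin 2) (Fin 2) F) := rfl
    rw [e']
    funext i
    fin_cases i
    · simp [shear, Matrix.mulVec, dotProduct, Fin.sum_univ_two, h00, h10, h11, ← hc01]
      linear_combination (π w 1) * hk
    · simp [shear, Matrix.mulVec, dotProduct, Fin.sum_univ_two, h10, h11]

end H74.Glau
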