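import Cfsg.Agent.H79.FusionControl
import Cfsg.Agent.H11.ZJ

/-!
Relations between subgroups and conjugating elements that are closed under restriction, composition
and inversion, and the local-to-global step for fusion.
-/

set_option autoImplicit false

namespace H74.Glau

open Subgroup

variable {G : Type*} [Group G]

/-- Conjugate of a subgroup. -/
abbrev cj (U : Subgroup G) (g : G) : Subgroup G := U.map (MulAut.conj g).toMonoidHom

theorem cj_mul (U : Subgroup G) (k g : G) : cj (cj U g) k = cj U (k * g) := by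
  rw [cj, cj, cj, map_map]; congr 1; ext z; simp [mul_assoc]

theorem cj_one (U : Subgroup G) : cj U 1 = U := by rw [cj, map_one]; exact map_id U

theorem mem_cj {U : Subgroup G} {g u : G} (hu : u ∈ U) : g * u * g⁻¹ ∈ cj U g := ⟨u, hu, rfl⟩

theorem cj_le_iff {U V : Subgroup G} {g : G} : cj U g ≤ V ↔ ∀ u ∈ U, g * u * g⁻¹ ∈ V :=
  ⟨fun h _ hu => h (mem_cj hu), fun h => by rintro _ ⟨u, hu, rfl⟩; exact h u hu⟩

theorem cj_normalizer {U : Subgroup G} {g : G} (hg : g ∈ normalizer (U : Set G)) : cj U g = U :=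
  mem_normalizer_iff_map_conj_eq.mp hg

/-- A closed relation. -/
structure IsRel (E : Subgroup G → G → Prop) : Prop where
  mono : ∀ {U V : Subgroup G} {g : G}, V ≤ U → E U g → E V g
  trans : ∀ {U : Subgroup G} {g k : G}, E U g → E (cj U g) k → E U (k * g)
  symm : ∀ {U : Subgroup G} {g : G}, E U g → E (cj U g) g⁻¹

/-- Every move inside `S` by an element of `K` lies in `E`. -/
def NMoves (E : Subgroup G → G → Prop) (S K : Subgroup G) : Prop :=
  ∀ U ≤ S, ∀ g ∈ K, cj U g ≤ S → E U g

theorem NMoves.mono_group {E : Subgroup G → G → Prop} {S K K' : Subgroup G} (h : NMoves E S K)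
    (hK : K' ≤ K) : NMoves E S K' := fun U hU g hg hgU => h U hU g (hK hg) hgU

/-- The relation of being induced by an element normalizing `W`. -/
theorem isRel_induced (W : Subgroup G) : IsRel (fun U g => H79.Induced W U g) where
  mono := fun h ⟨x, hx, hx'⟩ => ⟨x, hx, fun u hu => hx' u (h hu)⟩
  trans := by
    rintro U g k ⟨x, hx, hx'⟩ ⟨y, hy, hy'⟩
    refine ⟨y * x, mul_mem hy hx, fun u hu => ?_⟩
    calc k * g * u * (k * g)⁻¹ = k * (g * u * g⁻¹) * k⁻¹ := by group
      _ = y * (g * u * g⁻¹) * y⁻¹ := hy' _ (mem_cj hu)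
      _ = y * x * u * (y * x)⁻¹ := by rw [hx' u hu]; group
  symm := by
    rintro U g ⟨x, hx, hx'⟩
    refine ⟨x⁻¹, inv_mem hx, ?_⟩
    rintro _ ⟨u, hu, rfl⟩
    show g⁻¹ * (g * u * g⁻¹) * g⁻¹⁻¹ = x⁻¹ * (g * u * g⁻¹) * x⁻¹⁻¹
    conv_rhs => rw [hx' u hu]
    group

theorem nmoves_induced (S W : Subgroup G) :
    NMoves (fun U g => H79.Induced W U g) S (normalizer (W : Set G)) :=
  fun _ _ g hg _ => ⟨g, hg, fun _ _ => rfl⟩

/-- Pullback along a homomorphism. -/
def pullRel {X : Type*} [Group X] (f : X →* G) (E : Subgroup G → G → Prop) :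
    Subgroup X → X → Prop := fun U g => E (U.map f) (f g)

theorem map_cj {X : Type*} [Group X] (f : X →* G) (U : Subgroup X) (g : X) :
    (cj U g).map f = cj (U.map f) (f g) := by
  rw [cj, cj, map_map, map_map]; congr 1; ext z; simp

theorem IsRel.pull {X : Type*} [Group X] (f : X →* G) {E : Subgroup G → G → Prop} (hE : IsRel E) :
    IsRel (pullRel f E) where
  mono := fun h h' => hE.mono (map_mono h) h'
  trans := fun {U g k} h h' => by
    show E _ (f (k * g))
    rw [map_mul]
    exact hE.trans h (map_cj f U g ▸ h')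
  symm := fun {U g} h => by
    show E _ (f g⁻¹)
    rw [map_inv, map_cj]
    exact hE.symm h

theorem nmoves_pull {X : Type*} [Group X] (f : X →* G) {E : Subgroup G → G → Prop} {S K : Subgroup G}
    (h : NMoves E S K) {R K' : Subgroup X} (hR : R.map f ≤ S) (hK : K'.map f ≤ K) :
    NMoves (pullRel f E) R K' := fun U hU g hg hgU =>
  h _ ((map_mono hU).trans hR) (f g) (hK ⟨g, hg, rfl⟩) (map_cj f U g ▸ (map_mono hgU).trans hR)

/-- Moves inside a subgroup `M` from those of the type `M`. -/
theorem nmoves_of_subgroup {E : Subgroup G → G → Prop} {R M : Subgroup G} (hRM : R ≤ M)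
    (h : NMoves (pullRel M.subtype E) (R.subgroupOf M) ⊤) : NMoves E R M := by
  intro U hU g hg hgU
  have hUM : (U.subgroupOf M).map M.subtype = U := map_subgroupOf_eq_of_le (hU.trans hRM)
  have := h (U.subgroupOf M) (comap_mono hU) ⟨g, hg⟩ (mem_top _) (by
    rw [cj_le_iff]
    intro u hu
    exact hgU (mem_cj (show (u : G) ∈ U from hu)))
  rw [← hUM]
  exact this

/-- Pushforward to a quotient. -/
def pushRel {Y : Type*} [Group Y] (π : G →* Y) (E : Subgroup G → G → Prop) :
    Subgroup Y → Y → Prop := fun U y => ∀ g, π g = y → E (U.comap π) g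

theorem comap_cj {Y : Type*} [Group Y] (π : G →* Y) (U : Subgroup Y) (g : G) :
    (cj U (π g)).comap π = cj (U.comap π) g := by
  ext z
  constructor
  · rintro ⟨u, hu, hz⟩
    refine ⟨g⁻¹ * z * g, ?_, by simp [mul_assoc]⟩
    show π _ ∈ U
    rw [map_mul, map_mul, map_inv, show π z = π g * u * (π g)⁻¹ from hz.symm]
    simpa [mul_assoc] using hu
  · rintro ⟨u, hu, rfl⟩
    exact ⟨π u, hu, by simp⟩

theorem IsRel.push {Y : Type*} [Group Y] {π : G →* Y} (hπ : Function.Surjective π)
    {E : Subgroup G → G → Prop} (hE : IsRel E) : IsRel (pushRel π E) where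
  mono := fun h h' g hg => hE.mono (comap_mono h) (h' g hg)
  trans := by
    intro U y k h h' g' hg'
    obtain ⟨g, rfl⟩ := hπ y
    have h2 := h' (g' * g⁻¹) (by rw [map_mul, map_inv, hg']; group)
    rw [comap_cj] at h2
    have := hE.trans (h g rfl) h2
    rwa [inv_mul_cancel_right] at this
  symm := by
    intro U y h g' hg'
    have h2 := hE.symm (h g'⁻¹ (by rw [map_inv, hg', inv_inv]))
    rw [inv_inv] at h2
    have e : y = π g'⁻¹ := by rw [map_inv, hg', inv_inv]
    rw [e, comap_cj]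
    exact h2

variable [Finite G] {p : ℕ} [Fact p.Prime]

/-- Fusion from the Frattini decomposition of a normal subgroup. -/
theorem nmoves_split {E : Subgroup G → G → Prop} (hE : IsRel E) (S : Sylow p G) (N : Subgroup G)
    [N.Normal] (h1 : NMoves E (S : Subgroup G) (N ⊔ (S : Subgroup G)))
    (h2 : NMoves E (S : Subgroup G) (normalizer (((S : Subgroup G) ⊓ N : Subgroup G) : Set G))) :
    NMoves E (S : Subgroup G) ⊤ := by
  intro U hU g _ hgU
  set Nz := normalizer (((S : Subgroup G) ⊓ N : Subgroup G) : Set G) with hNz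
  have hSNz : (S : Subgroup G) ≤ Nz :=
    (le_inf le_normalizer le_normalizer_of_normal).trans inf_normalizer_le_normalizer_inf
  have hg : g ∈ N ⊔ Nz := by rw [sup_comm, H11.normalizer_inf_sup_eq_top S N]; exact mem_top g
  rw [mem_sup_of_normal_left] at hg
  obtain ⟨c, hc, n, hn, rfl⟩ := hg
  set K := N ⊔ (S : Subgroup G) with hK
  have hle : (S : Subgroup G) ≤ K ⊓ Nz := le_inf le_sup_right hSNz
  have hU' : cj U n ≤ K ⊓ Nz := by
    rw [cj_le_iff]
    intro u hu
    refine ⟨?_, Nz.mul_mem (Nz.mul_mem hn (hSNz (hU hu))) (Nz.inv_mem hn)⟩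
    have h := mem_sup_right (S := N) (hgU (mem_cj hu))
    rw [show n * u * n⁻¹ = c⁻¹ * (c * n * u * (c * n)⁻¹) * c by group]
    exact K.mul_mem (K.mul_mem (K.inv_mem (mem_sup_left hc)) h) (mem_sup_left hc)
  obtain ⟨d, hd, hdU⟩ := H76.exists_conj_mem_sylow (S.subtype hle) hU'
    ((S.isPGroup'.to_le hU).map _)
  rw [Sylow.coe_subtype, map_subgroupOf_eq_of_le hle] at hdU
  have hdS : cj U (d * n) ≤ (S : Subgroup G) := by
    rw [← cj_mul, cj_le_iff]
    exact hdU
  have e1 := h2 U hU (d * n) (Nz.mul_mem hd.2 hn) hdS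
  have e2 := h1 _ hdS (c * d⁻¹) (K.mul_mem (mem_sup_left hc) (K.inv_mem hd.1)) (by
    rwa [cj_mul, show c * d⁻¹ * (d * n) = c * n by group])
  have := hE.trans e1 e2
  rwa [show c * d⁻¹ * (d * n) = c * n by group] at this

/-- From local control to control of the big moves. -/
theorem big_moves {E : Subgroup G → G → Prop} (hE : IsRel E) (S : Sylow p G)
    (Big Tok : Subgroup G → Prop) (W : Subgroup G → Subgroup G)
    (hWle : ∀ R ≤ (S : Subgroup G), W R ≤ R)
    (hWn : ∀ R ≤ (S : Subgroup G), normalizer (R : Set G) ≤ normalizer (W R : Set G))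
    (hup : ∀ U V : Subgroup G, U ≤ V → V ≤ (S : Subgroup G) → Big U → Big V)
    (hconj : ∀ (U : Subgroup G) (g : G), U ≤ (S : Subgroup G) → cj U g ≤ (S : Subgroup G) →
      Big U → Big (cj U g))
    (hTokU : ∀ U ≤ (S : Subgroup G), Big U → U ≠ (S : Subgroup G) → Tok U)
    (hTokConj : ∀ (T : Subgroup G) (g : G), Tok T → Tok (cj T g))
    (hTokW : ∀ R ≤ (S : Subgroup G), Big R → R ≠ (S : Subgroup G) → Tok (W R))
    (hN : NMoves E (S : Subgroup G) (normalizer (W (S : Subgroup G) : Set G)))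
    (hloc : ∀ T ≤ (S : Subgroup G), Tok T → H79.Full p (S : Subgroup G) T →
      Big ((S : Subgroup G) ⊓ normalizer (T : Set G)) →
      NMoves E ((S : Subgroup G) ⊓ normalizer (T : Set G))
        (normalizer (T : Set G) ⊓
          normalizer (W ((S : Subgroup G) ⊓ normalizer (T : Set G)) : Set G)) →
      NMoves E ((S : Subgroup G) ⊓ normalizer (T : Set G)) (normalizer (T : Set G))) :
    (∀ U ≤ (S : Subgroup G), Big U → ∀ g, cj U g ≤ (S : Subgroup G) → E U g) ∧
      ∀ R ≤ (S : Subgroup G), Big R → NMoves E R (normalizer (W R : Set G)) := by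
  have climb : ∀ k : ℕ,
      (∀ U ≤ (S : Subgroup G), Big U → k + 1 ≤ Nat.card U → ∀ g, cj U g ≤ (S : Subgroup G) → E U g) →
      (∀ T ≤ (S : Subgroup G), Tok T → H79.Full p (S : Subgroup G) T →
        Big ((S : Subgroup G) ⊓ normalizer (T : Set G)) →
        k + 1 ≤ Nat.card ↥((S : Subgroup G) ⊓ normalizer (T : Set G)) →
        NMoves E ((S : Subgroup G) ⊓ normalizer (T : Set G)) (normalizer (T : Set G))) →
      ∀ R ≤ (S : Subgroup G), Big R → k ≤ Nat.card R → NMoves E R (normalizer (W R : Set G)) := by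
    intro k ihA ihB R hR hB hk U hU n hn hnU
    by_cases hRS : R = (S : Subgroup G)
    · subst hRS
      exact hN U hU n hn hnU
    set R₁ := (S : Subgroup G) ⊓ normalizer (W R : Set G) with hR₁
    have hlt : R < R₁ := lt_of_lt_of_le
      (H79.lt_inf_normalizer_of_lt S.isPGroup' (lt_of_le_of_ne hR hRS))
      (inf_le_inf_left _ (hWn R hR))
    have hk1 : k + 1 ≤ Nat.card R₁ := by
      have := Set.Finite.card_lt_card (Set.toFinite _) (SetLike.coe_ssubset_coe.mpr hlt)
      exact (Nat.succ_le_succ hk).trans this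
    have hWS : W R ≤ (S : Subgroup G) := (hWle R hR).trans hR
    obtain ⟨h, hh, hfull⟩ := H79.exists_full_conj S hWS
    have hB₁ : Big R₁ := hup R R₁ hlt.le inf_le_left hB
    have eh : E R₁ h := ihA R₁ inf_le_left hB₁ hk1 h (cj_le_iff.mpr hh)
    have hcj : cj R₁ h ≤ (S : Subgroup G) ⊓ normalizer (cj (W R) h : Set G) :=
      le_inf (cj_le_iff.mpr hh) (H79.conj_map_le_normalizer h inf_le_right)
    have hW1 : cj (W R) h ≤ (S : Subgroup G) :=
      (map_mono (le_inf hWS le_normalizer)).trans (hcj.trans inf_le_left)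
    have eB := ihB _ hW1 (hTokConj _ h (hTokW R hR hB hRS)) hfull
      (hup _ _ hcj inf_le_left (hconj R₁ h inf_le_left (cj_le_iff.mpr hh) hB₁))
      (hk1.trans ((card_map_of_injective (MulAut.conj h).injective).symm.trans_le (card_le_of_le hcj)))
      (cj U h) ((map_mono (hU.trans hlt.le)).trans hcj) (h * n * h⁻¹)
      (le_normalizer_map _ ⟨n, hn, rfl⟩) (by
        rw [cj_mul, inv_mul_cancel_right, ← cj_mul]
        exact (map_mono (hnU.trans hlt.le)).trans hcj)
    have e1 := hE.trans (hE.mono (hU.trans hlt.le) eh) eB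
    rw [inv_mul_cancel_right] at e1
    have e2 := hE.symm (hE.mono (hnU.trans hlt.le) eh)
    rw [cj_mul] at e2
    have := hE.trans e1 e2
    rwa [inv_mul_cancel_left] at this
  suffices main : ∀ m k : ℕ, Nat.card (S : Subgroup G) + 1 ≤ k + m →
      (∀ U ≤ (S : Subgroup G), Big U → k ≤ Nat.card U → ∀ g, cj U g ≤ (S : Subgroup G) → E U g) ∧
      (∀ T ≤ (S : Subgroup G), Tok T → H79.Full p (S : Subgroup G) T →
        Big ((S : Subgroup G) ⊓ normalizer (T : Set G)) →
        k ≤ Nat.card ↥((S : Subgroup G) ⊓ normalizer (T : Set G)) →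
        NMoves E ((S : Subgroup G) ⊓ normalizer (T : Set G)) (normalizer (T : Set G))) by
    obtain ⟨hA, hB⟩ := main _ 0 (by rw [zero_add])
    exact ⟨fun U hU hb g hg => hA U hU hb (Nat.zero_le _) g hg,
      fun R hR hb => climb 0 (fun U hU hb _ => hA U hU hb (Nat.zero_le _))
        (fun T hT hTk hf hb _ => hB T hT hTk hf hb (Nat.zero_le _)) R hR hb (Nat.zero_le _)⟩
  intro m
  induction m with
  | zero =>
    intro k hk
    refine ⟨fun U hU _ hkU => ?_, fun T _ _ _ _ hkT => ?_⟩
    · have := card_le_of_le hU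
      omega
    · have := card_le_of_le (show (S : Subgroup G) ⊓ normalizer (T : Set G) ≤ S from inf_le_left)
      omega
  | succ m ih =>
    intro k hk
    obtain ⟨ihA, ihB⟩ := ih (k + 1) (by omega)
    refine ⟨fun U hU hBU hkU g hg => ?_, fun T hT hTk hTf hBR hkT => hloc T hT hTk hTf hBR
      ((climb k ihA ihB _ inf_le_left hBR hkT).mono_group inf_le_right)⟩
    by_cases hUS : U = (S : Subgroup G)
    · subst hUS
      exact hN _ le_rfl g (hWn _ le_rfl (mem_normalizer_iff_map_conj_eq.mpr (eq_of_le_of_card_ge hg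
        (card_map_of_injective (MulAut.conj g).injective).ge))) hg
    by_cases hlt : k + 1 ≤ Nat.card U
    · exact ihA U hU hBU hlt g hg
    have hcard : Nat.card U = k := by omega
    obtain ⟨h, hh, hfull⟩ := H79.exists_full_conj S hU
    set T := cj U h with hTdef
    have hUN : U ≤ (S : Subgroup G) ⊓ normalizer (U : Set G) := le_inf hU le_normalizer
    have hTS : T ≤ (S : Subgroup G) := (map_mono hUN).trans (cj_le_iff.mpr hh)
    have hlt1 := H79.lt_inf_normalizer_of_lt S.isPGroup' (lt_of_le_of_ne hU hUS)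
    have hk1 : k + 1 ≤ Nat.card ↥((S : Subgroup G) ⊓ normalizer (U : Set G)) := by
      have := Set.Finite.card_lt_card (Set.toFinite _) (SetLike.coe_ssubset_coe.mpr hlt1)
      exact hcard ▸ this
    have e₁ := hE.mono hUN (ihA _ inf_le_left (hup _ _ hUN inf_le_left hBU) hk1 h (cj_le_iff.mpr hh))
    set U₂ := cj U g with hU₂
    have hcard₂ : Nat.card U₂ = k := by
      rw [hU₂, card_map_of_injective (MulAut.conj g).injective, hcard]
    have hU₂S : U₂ ≠ (S : Subgroup G) := fun e =>
      hUS (eq_of_le_of_card_ge hU (by rw [hcard, ← hcard₂, e]))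
    have hU₂N : U₂ ≤ (S : Subgroup G) ⊓ normalizer (U₂ : Set G) := le_inf hg le_normalizer
    have hlt2 := H79.lt_inf_normalizer_of_lt S.isPGroup' (lt_of_le_of_ne hg hU₂S)
    have hk2 : k + 1 ≤ Nat.card ↥((S : Subgroup G) ⊓ normalizer (U₂ : Set G)) := by
      have := Set.Finite.card_lt_card (Set.toFinite _) (SetLike.coe_ssubset_coe.mpr hlt2)
      exact hcard₂ ▸ this
    have hmove : cj ((S : Subgroup G) ⊓ normalizer (U₂ : Set G)) (h * g⁻¹) ≤
        normalizer (T : Set G) := by
      have h1 := H79.conj_map_le_normalizer (T := U₂) (h * g⁻¹)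
        (show (S : Subgroup G) ⊓ normalizer (U₂ : Set G) ≤ _ from inf_le_right)
      rw [hU₂] at h1 ⊢
      have e : cj (cj U g) (h * g⁻¹) = T := by rw [cj_mul, inv_mul_cancel_right]
      exact (show cj (cj U g) (h * g⁻¹) = T from e) ▸ h1
    obtain ⟨c, hc, hcmem⟩ := hfull.exists_conj S.isPGroup'
      (S.isPGroup'.to_inf_left.map _) hmove
    have hmove2 : cj ((S : Subgroup G) ⊓ normalizer (U₂ : Set G)) (c * (h * g⁻¹)) ≤
        (S : Subgroup G) ⊓ normalizer (T : Set G) := by
      rw [← cj_mul, cj_le_iff]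
      exact hcmem
    have e₃ := hE.symm (hE.mono hU₂N (ihA _ inf_le_left
      (hup _ _ hU₂N inf_le_left (hconj U g hU hg hBU)) hk2 (c * (h * g⁻¹))
      (hmove2.trans inf_le_left)))
    have hTR : T ≤ (S : Subgroup G) ⊓ normalizer (T : Set G) := le_inf hTS le_normalizer
    have e₂ := ihB T hTS (hTokConj U h (hTokU U hU hBU hUS)) hfull
      (hup _ _ hTR inf_le_left (hconj U h hU hTS hBU))
      (hk2.trans ((card_map_of_injective (MulAut.conj (c * (h * g⁻¹))).injective).symm.trans_le
        (card_le_of_le hmove2))) T hTR c hc (by rw [cj_normalizer hc]; exact hTR)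
    have e12 := hE.trans e₁ e₂
    have hUe : cj U₂ (c * (h * g⁻¹)) = cj U (c * h) := by
      rw [hU₂, cj_mul]; congr 1; group
    rw [hUe] at e₃
    have := hE.trans e12 e₃
    rwa [show (c * (h * g⁻¹))⁻¹ * (c * h) = g by group] at this

end H74.Glau
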