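import Cfsg.Agent.H74.Glau.EigenProj
import Cfsg.Agent.H74.Glau.FGroup
import Cfsg.Agent.H74.Glau.Plane
import Cfsg.Agent.H74.Glau.Rel
import Cfsg.Agent.H6.Basic

/-!
The configurations produced by a failure of the fusion theorem.
-/

set_option autoImplicit false

namespace H74.Glau

open Subgroup

variable {G : Type*} [Group G]

/-- The subgroup generated by the orbit of `z` under powers of `h`. -/
abbrev orbitGen (h z : G) : Subgroup G :=
  closure (Set.range fun i : ℕ => h ^ i * z * (h ^ i)⁻¹)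

/-- An element acting on the orbit of `z` with an eigenvalue `b`. -/
def GoodC (p b : ℕ) (E : Subgroup G → G → Prop) (S : Subgroup G) (z : G) : Prop :=
  ∃ (h : G) (T N₀ : Subgroup G), T ≤ S ∧ E T h ∧ h ∈ normalizer (T : Set G) ∧ z ∈ T ∧ N₀ ≤ T ∧
    h ∈ normalizer (N₀ : Set G) ∧ ∃ u ∈ orbitGen h z, u ∉ N₀ ∧ u ^ p ∈ N₀ ∧
      h * u * h⁻¹ * (u ^ b)⁻¹ ∈ N₀

/-- A configuration of type `F(p)`. -/
def GoodF (p : ℕ) [Fact p.Prime] (E : Subgroup G → G → Prop) (S : Subgroup G) : Prop :=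
  ∃ (h : G) (T R : Subgroup G), T ≤ S ∧ E T h ∧ h ∈ normalizer (T : Set G) ∧ R ≤ T ∧
    ∃ (hn : ∀ r ∈ R, h * r * h⁻¹ ∈ R) (ψ : R →* ↥(Cfsg.fOver (ZMod p)))
      (τ : ↥(Cfsg.fOver (ZMod p))),
      (∀ (r : G) (hr : r ∈ R), ψ ⟨h * r * h⁻¹, hn r hr⟩ = τ * ψ ⟨r, hr⟩ * τ⁻¹) ∧
      ψ.range ⊔ zpowers τ = ⊤ ∧
      (∀ j : ℕ, (∀ r, τ ^ j * ψ r * (τ ^ j)⁻¹ = ψ r) → τ ^ j = 1) ∧ τ ^ (p - 1) = 1

theorem map_orbitGen {X : Type*} [Group X] (f : X →* G) (h z : X) :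
    (orbitGen h z).map f = orbitGen (f h) (f z) := by
  rw [orbitGen, orbitGen, MonoidHom.map_closure, ← Set.range_comp]
  congr 2
  funext i
  simp

theorem GoodC.of_pull {X : Type*} [Group X] {p b : ℕ} {f : X →* G} (hf : Function.Injective f)
    {E : Subgroup G → G → Prop} {R : Subgroup X} {S : Subgroup G} (hR : R.map f ≤ S) {z : X}
    (h : GoodC p b (pullRel f E) R z) : GoodC p b E S (f z) := by
  obtain ⟨g, T, N₀, hT, hE, hn, hz, hN, hnN, u, hu, hu1, hup, hub⟩ := h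
  refine ⟨f g, T.map f, N₀.map f, (map_mono hT).trans hR, hE, le_normalizer_map f ⟨g, hn, rfl⟩,
    ⟨z, hz, rfl⟩, map_mono hN, le_normalizer_map f ⟨g, hnN, rfl⟩, f u, ?_, ?_, ?_, ?_⟩
  · rw [← map_orbitGen]; exact ⟨u, hu, rfl⟩
  · exact fun h => hu1 ((mem_map_iff_mem hf).mp h)
  · exact ⟨_, hup, map_pow f u p⟩
  · exact ⟨_, hub, by simp⟩

theorem GoodF.of_pull {X : Type*} [Group X] {p : ℕ} [Fact p.Prime] {f : X →* G} (hf : Function.Injective f)
    {E : Subgroup G → G → Prop} {R' : Subgroup X} {S : Subgroup G} (hR : R'.map f ≤ S)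
    (h : GoodF p (pullRel f E) R') : GoodF p E S := by
  obtain ⟨g, T, R, hT, hE, hn, hRT, hnR, ψ, τ, hψ, hgen, hfa, hτ⟩ := h
  let e : R ≃* R.map f := R.equivMapOfInjective f hf
  have hnm : ∀ r ∈ R.map f, f g * r * (f g)⁻¹ ∈ R.map f := by
    rintro _ ⟨r, hr, rfl⟩
    exact ⟨_, hnR r hr, by simp⟩
  refine ⟨f g, T.map f, R.map f, (map_mono hT).trans hR, hE, le_normalizer_map f ⟨g, hn, rfl⟩,
    map_mono hRT, hnm, ψ.comp e.symm.toMonoidHom, τ, ?_, ?_, fun j hj => hfa j fun r => ?_, hτ⟩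
  · intro r hr
    obtain ⟨r, hr', rfl⟩ := hr
    have e1 : ∀ (s : X) (hs : s ∈ R), e.symm ⟨f s, s, hs, rfl⟩ = ⟨s, hs⟩ := fun s hs => by
      rw [MulEquiv.symm_apply_eq]; rfl
    show ψ (e.symm _) = τ * ψ (e.symm _) * τ⁻¹
    have e2 : (⟨f g * f r * (f g)⁻¹, hnm _ ⟨r, hr', rfl⟩⟩ : R.map f) =
        ⟨f (g * r * g⁻¹), _, hnR r hr', rfl⟩ := Subtype.ext (by simp)
    rw [e2, e1 _ (hnR r hr'), e1 r hr', hψ]
  · rw [MonoidHom.range_comp, MonoidHom.range_eq_top.mpr e.symm.surjective, ← MonoidHom.range_eq_map]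
    exact hgen
  · simpa using hj (e r)

theorem GoodC.of_push {Y : Type*} [Group Y] {p b : ℕ} {π : G →* Y} (hπ : Function.Surjective π)
    {E : Subgroup G → G → Prop} {S : Subgroup G} (hS : π.ker ≤ S) {z : G}
    (h : GoodC p b (pushRel π E) (S.map π) (π z)) : GoodC p b E S z := by
  obtain ⟨g', T, N₀, hT, hE, hn, hz, hN, hnN, u', hu, hu1, hup, hub⟩ := h
  obtain ⟨g, rfl⟩ := hπ g'
  rw [← map_orbitGen] at hu
  obtain ⟨u, hu, rfl⟩ := hu
  refine ⟨g, T.comap π, N₀.comap π, (comap_mono hT).trans (comap_map_eq_self hS).le, hE g rfl,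
    ?_, hz, comap_mono hN, ?_, u, hu, hu1, ?_, ?_⟩
  · exact mem_normalizer_iff.mpr fun x => by
      simp only [mem_comap, map_mul, map_inv]; exact mem_normalizer_iff.mp hn (π x)
  · exact mem_normalizer_iff.mpr fun x => by
      simp only [mem_comap, map_mul, map_inv]; exact mem_normalizer_iff.mp hnN (π x)
  · show π _ ∈ N₀; rwa [map_pow]
  · show π _ ∈ N₀; simpa using hub

theorem GoodF.of_push {Y : Type*} [Group Y] {p : ℕ} [Fact p.Prime] {π : G →* Y} (hπ : Function.Surjective π)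
    {E : Subgroup G → G → Prop} {S : Subgroup G} (hS : π.ker ≤ S)
    (h : GoodF p (pushRel π E) (S.map π)) : GoodF p E S := by
  obtain ⟨g', T, R, hT, hE, hn, hRT, hnR, ψ, τ, hψ, hgen, hfa, hτ⟩ := h
  obtain ⟨g, rfl⟩ := hπ g'
  let q : R.comap π →* R := π.subgroupComap R
  have hq : Function.Surjective q := fun r => by
    obtain ⟨x, hx⟩ := hπ r
    exact ⟨⟨x, show π x ∈ R by rw [hx]; exact r.2⟩, Subtype.ext hx⟩
  have hnm : ∀ r ∈ R.comap π, g * r * g⁻¹ ∈ R.comap π := fun r hr => by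
    show π _ ∈ R; simpa using hnR _ hr
  refine ⟨g, T.comap π, R.comap π, (comap_mono hT).trans (comap_map_eq_self hS).le, hE g rfl,
    ?_, comap_mono hRT, hnm, ψ.comp q, τ, ?_, ?_, fun j hj => hfa j fun r => ?_, hτ⟩
  · exact mem_normalizer_iff.mpr fun x => by
      simp only [mem_comap, map_mul, map_inv]; exact mem_normalizer_iff.mp hn (π x)
  · intro r hr
    show ψ (q _) = τ * ψ (q _) * τ⁻¹
    have e2 : q ⟨g * r * g⁻¹, hnm r hr⟩ = ⟨π g * π r * (π g)⁻¹, hnR _ hr⟩ :=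
      Subtype.ext (show π (g * r * g⁻¹) = π g * π r * (π g)⁻¹ by simp)
    rw [e2, hψ _ hr]
    rfl
  · rw [MonoidHom.range_comp, MonoidHom.range_eq_top.mpr hq, ← MonoidHom.range_eq_map]
    exact hgen
  · obtain ⟨x, rfl⟩ := hq r
    exact hj x

variable [Finite G] {p : ℕ} [Fact p.Prime] {V : Type*} [AddCommGroup V] [Finite V]

/-- Membership in the transvection subgroup. -/
def IsTrans {ρ : G →* AddMonoid.End V} {b : ℕ} {x y h : G} {v : V} {F : Type} [Field F]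
    (P : PlaneData p ρ b x y h v F) (t : G) (μ : F) : Prop :=
  ∀ w : P.Y, ∃ hw : ρ t w ∈ P.Y, P.π ⟨ρ t w, hw⟩ = ![P.π w 0 + μ * P.π w 1, P.π w 1]

/-- The `F(p)` configuration of a plane. -/
theorem goodF_of_plane (hp : p ≠ 2) {a : (ZMod p)ˣ} (ha : orderOf a = p - 1)
    (ρ : G →* AddMonoid.End V) {B : Subgroup G} (σ : B →* Multiplicative V)
    (hσs : Function.Surjective σ)
    (hσ : ∀ (g : G) (c : B), ∃ hc : g * c * g⁻¹ ∈ B, (σ ⟨g * c * g⁻¹, hc⟩).toAdd = ρ g (σ c).toAdd)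
    (hB : ∀ c ∈ B, ρ c = 1)
    {E : Subgroup G → G → Prop} {S T : Subgroup G} (hTS : T ≤ S) (hT : IsPGroup p T) (hBT : B ≤ T)
    {h : G} (hhT : h ∈ normalizer (T : Set G)) (hhc : (orderOf h).Coprime p) (hE : E T h)
    {x y : G} (hxT : x ∈ T) {v : V} {F : Type} [Field F] [CharP F p]
    (P : PlaneData p ρ (a : ZMod p).val x y h v F) : GoodF p E S := by
  classical
  have hpp : p.Prime := Fact.out
  haveI : NeZero p := ⟨hpp.ne_zero⟩
  set b := (a : ZMod p).val with hb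
  have hba : (b : ZMod p) = a := ZMod.natCast_zmod_val _
  set cF := ZMod.castHom (dvd_refl p) F with hcF
  have hcinj : Function.Injective cF := cF.injective
  have hbF : (b : F) = cF a := by rw [← hba, map_natCast]
  have hb0 : (b : F) ≠ 0 := by rw [hbF]; exact fun e => a.ne_zero (hcinj (by rw [e, map_zero]))
  have hainv : cF ((a⁻¹ : (ZMod p)ˣ) : ZMod p) = (b : F)⁻¹ :=
    eq_inv_of_mul_eq_one_left (by rw [hbF, ← map_mul, Units.inv_mul, map_one])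
  have hT2 : ∀ t t' μ μ', IsTrans P t μ → IsTrans P t' μ' → IsTrans P (t * t') (μ + μ') := by
    intro t t' μ μ' h1 h2 w
    obtain ⟨hw', e'⟩ := h2 w
    obtain ⟨hw, e⟩ := h1 ⟨_, hw'⟩
    have hmem : ρ (t * t') w ∈ P.Y := by rw [coe_mul_apply]; exact hw
    refine ⟨hmem, ?_⟩
    rw [show (⟨_, hmem⟩ : P.Y) = ⟨_, hw⟩ from Subtype.ext (coe_mul_apply ρ t t' w), e, e']
    funext i; fin_cases i <;> simp; ring
  have hT1 : IsTrans P 1 0 := fun w => by
    refine ⟨by rw [map_one]; exact w.2, ?_⟩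
    have e : (⟨ρ 1 (w : V), by rw [map_one]; exact w.2⟩ : P.Y) = w :=
      Subtype.ext (by show ρ 1 (w : V) = w; rw [map_one]; rfl)
    rw [e]
    funext i; fin_cases i <;> simp
  have huniq : ∀ t μ μ', IsTrans P t μ → IsTrans P t μ' → μ = μ' := by
    intro t μ μ' h1 h2
    obtain ⟨w, hw⟩ := P.surj ![0, 1]
    obtain ⟨_, e1⟩ := h1 w
    obtain ⟨_, e2⟩ := h2 w
    have := congrFun (e1.symm.trans e2) 0
    simpa [hw] using this
  have hconjT : ∀ t μ, IsTrans P t μ → IsTrans P (h * t * h⁻¹) ((b : F) * b * μ) := by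
    intro t μ ht w
    have hinv : ∀ u ∈ P.Y, ρ h⁻¹ u ∈ P.Y := by
      intro u hu
      have hpow : ∀ n : ℕ, ∀ z ∈ P.Y, ρ (h ^ n) z ∈ P.Y := fun n => by
        induction n with
        | zero => intro z hz; rw [pow_zero, map_one]; exact hz
        | succ n ih => intro z hz; rw [pow_succ, coe_mul_apply]; exact ih _ (P.h_mem z hz)
      have : h⁻¹ = h ^ (orderOf h - 1) := by
        rw [inv_eq_iff_mul_eq_one, ← pow_succ', Nat.sub_add_cancel (orderOf_pos h),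
          pow_orderOf_eq_one]
      rw [this]; exact hpow _ u hu
    let w' : P.Y := ⟨ρ h⁻¹ w, hinv _ w.2⟩
    have ew : P.π w = ![(b : F) * P.π w' 0, (b : F)⁻¹ * P.π w' 1] := by
      rw [← P.π_h w']
      congr 1
      exact Subtype.ext (by show (w : V) = ρ h (ρ h⁻¹ w); rw [← coe_mul_apply, mul_inv_cancel, map_one]; rfl)
    obtain ⟨hw1, e1⟩ := ht w'
    have hmem : ρ (h * t * h⁻¹) w ∈ P.Y := by
      rw [coe_mul_apply, coe_mul_apply]; exact P.h_mem _ hw1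
    refine ⟨hmem, ?_⟩
    rw [show (⟨_, hmem⟩ : P.Y) = ⟨ρ h (ρ t w'), P.h_mem _ hw1⟩ from
      Subtype.ext (by show ρ (h * t * h⁻¹) (w : V) = _; rw [coe_mul_apply, coe_mul_apply]),
      P.π_h ⟨_, hw1⟩, e1, ew]
    funext i; fin_cases i <;> simp
    field_simp
  have hTinv : ∀ t μ, IsTrans P t μ → IsTrans P t⁻¹ (-μ) := by
    intro t μ ht
    have hpow : ∀ n : ℕ, IsTrans P (t ^ n) (n * μ) := fun n => by
      induction n with
      | zero => simpa using hT1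
      | succ n ih => rw [pow_succ, Nat.cast_succ, add_mul, one_mul]; exact hT2 _ _ _ _ ih ht
    have h1 := hpow (orderOf t - 1)
    rw [show t ^ (orderOf t - 1) = t⁻¹ by
      rw [eq_comm, inv_eq_iff_mul_eq_one, ← pow_succ', Nat.sub_add_cancel (orderOf_pos t),
        pow_orderOf_eq_one]] at h1
    have h2 := hpow (orderOf t)
    rw [pow_orderOf_eq_one] at h2
    have h3 := huniq 1 _ _ hT1 h2
    rw [Nat.cast_sub (orderOf_pos t), sub_mul, ← h3, Nat.cast_one, one_mul, zero_sub] at h1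
    exact h1
  let T3 : Subgroup G :=
    { carrier := {t | t ∈ T ∧ ∃ μ, IsTrans P t μ}
      one_mem' := ⟨one_mem _, 0, hT1⟩
      mul_mem' := fun {s t} ⟨hs, μ, h1⟩ ⟨ht, ν, h2⟩ => ⟨mul_mem hs ht, μ + ν, hT2 _ _ _ _ h1 h2⟩
      inv_mem' := fun {s} ⟨hs, μ, h1⟩ => ⟨inv_mem hs, -μ, hTinv _ _ h1⟩ }
  have hxT3 : x ∈ T3 := ⟨hxT, P.l, fun w => ⟨P.x_mem _ w.2, P.π_x w⟩⟩
  have hhT3 : ∀ t ∈ T3, h * t * h⁻¹ ∈ T3 := fun t ⟨ht, μ, h1⟩ =>
    ⟨(mem_normalizer_iff.mp hhT t).mp ht, _, hconjT t μ h1⟩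
  obtain ⟨P4, ⟨hP4, hP4n, hP4x⟩, hmin⟩ := Set.exists_min_image
    {Q : Subgroup G | Q ≤ T3 ∧ (∀ t ∈ Q, h * t * h⁻¹ ∈ Q) ∧ ∃ t ∈ Q, ∃ μ, IsTrans P t μ ∧ μ ≠ 0}
    (fun Q => Nat.card Q) (Set.toFinite _)
    ⟨T3, le_rfl, hhT3, x, hxT3, P.l, fun w => ⟨P.x_mem _ w.2, P.π_x w⟩, P.l_ne⟩
  choose χf hχf using fun t : P4 => (hP4 t.2).2
  let χ : P4 →* Multiplicative F := MonoidHom.mk' (fun t => Multiplicative.ofAdd (χf t)) fun s t => by
    rw [← ofAdd_add]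
    congr 1
    exact huniq _ _ _ (hχf (s * t)) (hT2 _ _ _ _ (hχf s) (hχf t))
  let fh : P4 →* P4 := MonoidHom.mk' (fun t => ⟨h * t * h⁻¹, hP4n t t.2⟩) fun s t =>
    Subtype.ext (by simp [mul_assoc])
  let c := b * b
  have hχh : ∀ t, χ (fh t) = χ t ^ c := by
    intro t
    show Multiplicative.ofAdd (χf (fh t)) = Multiplicative.ofAdd (χf t) ^ c
    rw [← ofAdd_nsmul, huniq _ _ _ (hχf (fh t)) (hconjT _ _ (hχf t)), nsmul_eq_mul, Nat.cast_mul]
  obtain ⟨t₀, ht₀, μ₀, hμ₀, hμ₀0⟩ := hP4x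
  have hχ0 : χ ⟨t₀, ht₀⟩ ≠ 1 := by
    intro e
    apply hμ₀0
    rw [huniq _ _ _ hμ₀ (hχf ⟨t₀, ht₀⟩)]
    exact congrArg Multiplicative.toAdd e
  have hP4p : IsPGroup p P4 := hT.to_le fun t ht => (hP4 ht).1
  have hfit : ∀ i : ℕ, ∀ t : P4, (((fh^[i]) t : P4) : G) = h ^ i * t * (h ^ i)⁻¹ := by
    intro i
    induction i with
    | zero => simp
    | succ i ih =>
      intro t
      rw [Function.iterate_succ_apply']
      show h * _ * h⁻¹ = _
      rw [ih, pow_succ']; group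
  -- eigenvector in the abelianization
  let A := Additive (Abelianization P4)
  let φA : A →+ A := MonoidHom.toAdditive (Abelianization.map fh)
  let χA : A →+ F := MonoidHom.toAdditiveLeft (Abelianization.lift χ)
  have hφA : ∀ t, φA (Additive.ofMul (Abelianization.of t)) = Additive.ofMul (Abelianization.of (fh t)) :=
    fun t => by
      show Additive.ofMul (Abelianization.map fh (Abelianization.of t)) = _
      rw [Abelianization.map_of]
  have hχA : ∀ t, χA (Additive.ofMul (Abelianization.of t)) = (χ t).toAdd := fun t => by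
    show ((Abelianization.lift χ) (Abelianization.of t)).toAdd = _
    rw [Abelianization.lift_apply_of]
  have hsurjA : ∀ z : A, ∃ t, z = Additive.ofMul (Abelianization.of t) := fun z => by
    obtain ⟨t, ht⟩ := QuotientGroup.mk_surjective (Additive.toMul z)
    exact ⟨t, congrArg Additive.ofMul ht.symm⟩
  obtain ⟨k, hk⟩ := IsPGroup.iff_card.mp hP4p
  have hker : ∀ z ∈ χA.ker, φA z ∈ χA.ker := by
    intro z hz
    obtain ⟨t, rfl⟩ := hsurjA z
    rw [AddMonoidHom.mem_ker, hχA] at hz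
    rw [AddMonoidHom.mem_ker, hφA, hχA, hχh, show χ t = 1 from Multiplicative.toAdd.injective hz, one_pow,
      toAdd_one]
  have hiterA : ∀ (i : ℕ) (t : P4), (φA^[i]) (Additive.ofMul (Abelianization.of t)) =
      Additive.ofMul (Abelianization.of ((fh^[i]) t)) := by
    intro i
    induction i with
    | zero => intro t; rfl
    | succ i ih => intro t; rw [Function.iterate_succ_apply', Function.iterate_succ_apply', ih, hφA]
  set n := (p - 1) * orderOf h with hn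
  have hncop : n.Coprime p := by
    refine Nat.Coprime.mul_left ?_ hhc
    refine (hpp.coprime_iff_not_dvd.mpr fun hd => ?_).symm
    have h2 := hpp.two_le
    have := Nat.le_of_dvd (by omega) hd
    omega
  have hcn : c ^ n ≡ 1 [MOD p] := by
    rw [← ZMod.natCast_eq_natCast_iff, Nat.cast_pow, Nat.cast_mul, hba, Nat.cast_one, hn, pow_mul,
      mul_pow, ← Units.val_pow_eq_pow_val, ← ha, pow_orderOf_eq_one]
    simp
  obtain ⟨c', hc', e, -, hφe, heK⟩ := exists_eigen (k := k) (A := A) (fun z => by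
      obtain ⟨t, rfl⟩ := hsurjA z
      rw [← ofMul_pow, ← map_pow, show t ^ p ^ k = 1 from by rw [← hk]; exact pow_card_eq_one',
        map_one, ofMul_one]) φA hncop (fun z => by
      obtain ⟨t, rfl⟩ := hsurjA z
      rw [hiterA]
      congr 2
      apply Subtype.ext
      rw [hfit, hn, mul_comm, pow_mul, pow_orderOf_eq_one, one_pow]
      simp) hcn (x := Additive.ofMul (Abelianization.of ⟨t₀, ht₀⟩)) (K := χA.ker) hker
    (fun hm => hχ0 (Multiplicative.toAdd.injective (by rw [← hχA]; exact hm)))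
    (by
      rw [AddMonoidHom.mem_ker, map_nsmul, nsmul_eq_mul, CharP.cast_eq_zero, zero_mul])
    (by
      rw [AddMonoidHom.mem_ker, map_sub, map_nsmul, hφA, hχA, hχA, hχh, toAdd_pow, sub_self])
  obtain ⟨t₁, rfl⟩ := hsurjA e
  -- `P4` is cyclic
  let Q : Subgroup G := ((zpowers t₁) ⊔ commutator P4).map P4.subtype
  have hQle : Q ≤ P4 := map_subtype_le _
  have hQn : ∀ t ∈ Q, h * t * h⁻¹ ∈ Q := by
    rintro _ ⟨t, ht, rfl⟩
    refine ⟨fh t, ?_, rfl⟩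
    have hle : ((zpowers t₁) ⊔ commutator P4).map fh ≤ zpowers t₁ ⊔ commutator P4 := by
      rw [Subgroup.map_sup, MonoidHom.map_zpowers]
      refine sup_le (zpowers_le.mpr ?_) (le_trans ?_ le_sup_right)
      rw [hφA] at hφe
      have he : Abelianization.of (fh t₁) = Abelianization.of (t₁ ^ c') := by
        rw [map_pow]
        exact congrArg Additive.toMul hφe
      have hmem : (t₁ ^ c')⁻¹ * fh t₁ ∈ commutator P4 := QuotientGroup.eq.mp he.symm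
      rw [← mul_inv_cancel_left (t₁ ^ c') (fh t₁)]
      exact mul_mem (mem_sup_left (pow_mem (mem_zpowers _) _)) (mem_sup_right hmem)
      rw [commutator_def, Subgroup.map_commutator]
      exact commutator_mono le_top le_top
    exact hle ⟨t, ht, rfl⟩
  have hQx : ∃ t ∈ Q, ∃ μ, IsTrans P t μ ∧ μ ≠ 0 :=
    ⟨t₁, ⟨t₁, mem_sup_left (mem_zpowers _), rfl⟩, χf t₁, hχf t₁, fun e0 => heK (by
      rw [AddMonoidHom.mem_ker, hχA]
      exact e0)⟩
  have hQeq : Q = P4 := eq_of_le_of_card_ge hQle (hmin Q ⟨hQle.trans hP4, hQn, hQx⟩)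
  have htop : zpowers t₁ = (⊤ : Subgroup P4) := by
    refine frattini_nongenerating (eq_top_iff.mpr ?_)
    have h1 : zpowers t₁ ⊔ commutator P4 = ⊤ := by
      refine map_injective P4.subtype_injective ?_
      rw [← MonoidHom.range_eq_map, range_subtype]
      exact hQeq
    exact h1.ge.trans (sup_le_sup_left (H6.commutator_le_frattini hP4p) _)
  have hgenP4 : ∀ t : P4, ∃ j : ℕ, t = t₁ ^ j := fun t => by
    have : t ∈ Submonoid.powers t₁ := mem_powers_iff_mem_zpowers.mpr (htop ▸ mem_top t)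
    obtain ⟨j, rfl⟩ := this
    exact ⟨j, rfl⟩
  set s := χf t₁ with hs
  have hs0 : s ≠ 0 := fun e0 => heK (by rw [AddMonoidHom.mem_ker, hχA]; exact e0)
  have hht₁ : fh t₁ ∈ zpowers t₁ := htop ▸ mem_top _
  have hpowχ : ∀ j : ℕ, χf (t₁ ^ j) = (j : F) * s := fun j => by
    have h1 : χ (t₁ ^ j) = χ t₁ ^ j := map_pow χ t₁ j
    have h2 := congrArg Multiplicative.toAdd h1
    rw [toAdd_pow, nsmul_eq_mul] at h2
    exact h2
  have hχfh : ∀ t, χf (fh t) = (b : F) * b * χf t := fun t =>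
    huniq _ _ _ (hχf (fh t)) (hconjT _ _ (hχf t))
  -- the plane over the prime field
  let Y₁ : Subgroup B :=
    { carrier := {c | ∃ hc : (σ c).toAdd ∈ P.Y, ∃ α β : ZMod p,
        P.π ⟨_, hc⟩ = ![cF α, cF β / s]}
      one_mem' := by
        have h0 : (σ 1).toAdd = 0 := by rw [map_one, toAdd_one]
        have hm : (σ 1).toAdd ∈ P.Y := h0 ▸ P.Y.zero_mem
        refine ⟨hm, 0, 0, ?_⟩
        rw [show (⟨_, hm⟩ : P.Y) = 0 from Subtype.ext h0, map_zero]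
        funext i; fin_cases i <;> simp
      mul_mem' := by
        rintro c d ⟨hc, α, β, e⟩ ⟨hd, α', β', e'⟩
        have hm : (σ (c * d)).toAdd ∈ P.Y := by rw [map_mul, toAdd_mul]; exact add_mem hc hd
        refine ⟨hm, α + α', β + β', ?_⟩
        rw [show (⟨_, hm⟩ : P.Y) = ⟨_, hc⟩ + ⟨_, hd⟩ from Subtype.ext (by simp), map_add, e, e']
        funext i; fin_cases i <;> simp [add_div]
      inv_mem' := by
        rintro c ⟨hc, α, β, e⟩
        have hm : (σ c⁻¹).toAdd ∈ P.Y := by rw [map_inv, toAdd_inv]; exact neg_mem hc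
        refine ⟨hm, -α, -β, ?_⟩
        rw [show (⟨_, hm⟩ : P.Y) = -⟨_, hc⟩ from Subtype.ext (by simp), map_neg, e]
        funext i; fin_cases i <;> simp [neg_div] }
  let Y₁G : Subgroup G := Y₁.map B.subtype
  have hconjY : ∀ (g : G) (μ : F), IsTrans P g μ → ∀ (γ : ZMod p), μ = cF γ * s →
      ∀ c : B, c ∈ Y₁ → ∃ hc : g * c * g⁻¹ ∈ B, (⟨_, hc⟩ : B) ∈ Y₁ := by
    rintro g μ hg γ hγ c ⟨hc, α, β, e⟩
    obtain ⟨hcB, e1⟩ := hσ g c
    obtain ⟨hw, e2⟩ := hg ⟨_, hc⟩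
    refine ⟨hcB, e1 ▸ hw, α + γ * β, β, ?_⟩
    rw [show (⟨(σ ⟨g * c * g⁻¹, hcB⟩).toAdd, e1 ▸ hw⟩ : P.Y) = ⟨_, hw⟩ from Subtype.ext e1, e2, e]
    funext i; fin_cases i <;> simp [hγ]
    field_simp
  have hP4Y : P4 ≤ normalizer (Y₁G : Set G) := by
    intro t ht
    refine Subgroup.mem_normalizer_fintype ?_
    rintro _ ⟨c, hc, rfl⟩
    obtain ⟨j, hj⟩ := hgenP4 ⟨t, ht⟩
    obtain ⟨hcB, hcY⟩ := hconjY t _ (hχf ⟨t, ht⟩) (j : ZMod p)
      (by rw [hj, hpowχ, map_natCast]) c hc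
    exact ⟨_, hcY, rfl⟩
  have hhY : ∀ r ∈ Y₁G, h * r * h⁻¹ ∈ Y₁G := by
    rintro _ ⟨c, ⟨hc, α, β, e⟩, rfl⟩
    obtain ⟨hcB, e1⟩ := hσ h c
    have hw := P.h_mem _ hc
    refine ⟨⟨_, hcB⟩, ⟨e1 ▸ hw, a * α, ((a⁻¹ : (ZMod p)ˣ) : ZMod p) * β, ?_⟩, rfl⟩
    rw [show (⟨(σ ⟨h * c * h⁻¹, hcB⟩).toAdd, e1 ▸ hw⟩ : P.Y) = ⟨_, hw⟩ from Subtype.ext e1,
      P.π_h ⟨_, hc⟩, e]
    funext i; fin_cases i <;> simp [hainv, ← hbF, mul_div_assoc, -Units.val_inv_eq_inv_val]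
  let R : Subgroup G := Y₁G ⊔ P4
  have hRY : ∀ r ∈ R, ∃ y ∈ Y₁G, ∃ t ∈ P4, y * t = r := by
    intro r hr
    rw [← SetLike.mem_coe, coe_mul_of_right_le_normalizer_left Y₁G P4 hP4Y] at hr
    exact hr
  have hYT : Y₁G ≤ T := (map_subtype_le _).trans hBT
  have hRT : R ≤ T := sup_le hYT fun t ht => (hP4 ht).1
  have hnR : ∀ r ∈ R, h * r * h⁻¹ ∈ R := by
    intro r hr
    obtain ⟨y, hy, t, ht, rfl⟩ := hRY r hr
    rw [show h * (y * t) * h⁻¹ = (h * y * h⁻¹) * (h * t * h⁻¹) by group]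
    exact mul_mem (mem_sup_left (hhY y hy)) (mem_sup_right (hP4n t ht))
  have hinter : ∀ c : B, c ∈ Y₁ → (c : G) ∈ P4 → ∀ hc : (σ c).toAdd ∈ P.Y, P.π ⟨_, hc⟩ = 0 := by
    intro c _ hcP4 hc
    obtain ⟨m, hm⟩ : ∃ m : ℕ, fh t₁ = t₁ ^ m := hgenP4 _
    have hmF : (m : F) = (b : F) * b := by
      have := hχfh t₁
      rw [hm, hpowχ] at this
      exact mul_right_cancel₀ hs0 this
    obtain ⟨j, hj⟩ := hgenP4 ⟨c, hcP4⟩
    have hhc : h * (c : G) * h⁻¹ = (c : G) ^ m := by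
      have h1 : (c : G) = (t₁ : G) ^ j := congrArg Subtype.val hj
      rw [h1, ← conj_pow, show h * (t₁ : G) * h⁻¹ = (t₁ : G) ^ m from congrArg Subtype.val hm, ← pow_mul, ← pow_mul,
        mul_comm]
    obtain ⟨hcB, e1⟩ := hσ h c
    have hpowc : (⟨h * c * h⁻¹, hcB⟩ : B) = c ^ m := Subtype.ext hhc
    rw [hpowc, map_pow, toAdd_pow] at e1
    have e2 := P.π_h ⟨_, hc⟩
    have e3 : (⟨ρ h (σ c).toAdd, P.h_mem _ hc⟩ : P.Y) = m • ⟨_, hc⟩ := Subtype.ext (by simp [← e1])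
    rw [e3, map_nsmul] at e2
    have hb1 : (b : F) ≠ 1 := by
      rw [hbF]
      intro e
      have h1 : (a : ZMod p) = 1 := hcinj (by rw [e, map_one])
      rw [Units.val_eq_one] at h1
      rw [h1, orderOf_one] at ha
      have := hpp.two_le
      omega
    have hb3 : (b : F) * b * b ≠ 1 := by
      rw [hbF, ← map_mul, ← map_mul]
      intro e
      have h1 : (a : ZMod p) * a * a = 1 := hcinj (by rw [e, map_one])
      have h3 : a ^ 3 = 1 := Units.ext (by rw [Units.val_pow_eq_pow_val, Units.val_one, ← h1]; ring)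
      have hdvd := orderOf_dvd_of_pow_eq_one h3
      rw [ha] at hdvd
      have h2 := Nat.le_of_dvd (by norm_num) hdvd
      have h4 : 3 ≤ p := by have := hpp.two_le; omega
      obtain rfl | hp4 : p = 3 ∨ p = 4 := by omega
      · norm_num at hdvd
      · rw [hp4] at hpp; norm_num at hpp
    have c0 := congrFun e2 0
    have c1 := congrFun e2 1
    simp only [Pi.smul_apply, Matrix.cons_val_zero, Matrix.cons_val_one, nsmul_eq_mul, hmF] at c0 c1
    have h0 : P.π ⟨_, hc⟩ 0 = 0 := by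
      have h5 : ((b : F) * b - b) * P.π ⟨_, hc⟩ 0 = 0 := by rw [sub_mul]; linear_combination c0
      exact (mul_eq_zero.mp h5).resolve_left fun e => by
        rw [sub_eq_zero] at e
        exact hb1 (mul_left_cancel₀ hb0 (e.trans (mul_one _).symm))
    have h1 : P.π ⟨_, hc⟩ 1 = 0 := by
      have h5 : ((b : F) * b * b - 1) * P.π ⟨_, hc⟩ 1 = 0 := by
        have := congrArg (fun z => (b : F) * z) c1
        simp only [← mul_assoc, mul_inv_cancel₀ hb0, one_mul] at this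
        linear_combination this
      exact (mul_eq_zero.mp h5).resolve_left fun e => hb3 (sub_eq_zero.mp e)
    funext i; fin_cases i <;> simp [h0, h1]
  -- the homomorphism
  let Pr : G → ↥(Cfsg.fOver (ZMod p)) → Prop := fun r M => ∃ (c : B) (t : P4) (hc : (σ c).toAdd ∈ P.Y)
    (α β γ : ZMod p), c ∈ Y₁ ∧ (c : G) * t = r ∧ P.π ⟨_, hc⟩ = ![cF α, cF β / s] ∧
    χf t = cF γ * s ∧ M = ⟨fEl 1 γ α β, fEl_mem _ _ _ _⟩
  have hPex : ∀ r ∈ R, ∃ M, Pr r M := by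
    intro r hr
    obtain ⟨y, hy, t, ht, rfl⟩ := hRY r hr
    obtain ⟨c, ⟨hc, α, β, e⟩, rfl⟩ := hy
    obtain ⟨j, hj⟩ := hgenP4 ⟨t, ht⟩
    exact ⟨_, c, ⟨t, ht⟩, hc, α, β, (j : ZMod p), ⟨hc, α, β, e⟩, rfl, e,
      by rw [hj, hpowχ, map_natCast], rfl⟩
  have hPuniq : ∀ r M M', Pr r M → Pr r M' → M = M' := by
    rintro r _ _ ⟨c, t, hc, α, β, γ, hcY, e, eπ, eχ, rfl⟩ ⟨c', t', hc', α', β', γ', hcY', e', eπ', eχ', rfl⟩
    have hd : ((c'⁻¹ * c : B) : G) = ((t' * t⁻¹ : P4) : G) := by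
      push_cast
      have := e.trans e'.symm
      rw [eq_mul_inv_iff_mul_eq, mul_assoc, this, inv_mul_cancel_left]
    have hdm : (σ (c'⁻¹ * c)).toAdd ∈ P.Y := by
      rw [map_mul, map_inv, toAdd_mul, toAdd_inv]; exact add_mem (neg_mem hc') hc
    have h0 := hinter _ (mul_mem (inv_mem hcY') hcY) (hd ▸ (t' * t⁻¹).2) hdm
    rw [show (⟨_, hdm⟩ : P.Y) = -⟨_, hc'⟩ + ⟨_, hc⟩ from Subtype.ext (by simp), map_add, map_neg,
      neg_add_eq_zero] at h0
    have hαβ : ![cF α', cF β' / s] = ![cF α, cF β / s] := by rw [← eπ, ← eπ', h0]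
    have hα : α' = α := hcinj (congrFun hαβ 0)
    have hβ : β' = β := hcinj ((div_left_inj' hs0).mp (congrFun hαβ 1))
    have hχ : χf t' = χf t := by
      have h1 : IsTrans P ((t' * t⁻¹ : P4) : G) 0 := by
        rw [← hd]
        intro w
        have e3 : ρ ((c'⁻¹ * c : B) : G) = 1 := hB _ (c'⁻¹ * c).2
        refine ⟨by rw [e3]; exact w.2, ?_⟩
        rw [show (⟨ρ ((c'⁻¹ * c : B) : G) w, by rw [e3]; exact w.2⟩ : P.Y) = w from
          Subtype.ext (by show ρ _ (w : V) = w; rw [e3]; rfl)]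
        funext i; fin_cases i <;> simp
      have h2 := huniq _ _ _ h1 (hT2 _ _ _ _ (hχf t') (hTinv _ _ (hχf t)))
      exact (eq_neg_of_add_eq_zero_left h2.symm).trans (neg_neg _)
    have hγ : γ' = γ := hcinj (mul_right_cancel₀ hs0 (eχ'.symm.trans (hχ.trans eχ)))
    rw [hα, hβ, hγ]
  have hPmul : ∀ r r' M M', Pr r M → Pr r' M' → Pr (r * r') (M * M') := by
    rintro r r' _ _ ⟨c, t, hc, α, β, γ, hcY, e, eπ, eχ, rfl⟩ ⟨c', t', hc', α', β', γ', hcY', e', eπ', eχ', rfl⟩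
    obtain ⟨hcB, hcY2⟩ := hconjY t _ (hχf t) γ eχ c' hcY'
    obtain ⟨hcB', e1⟩ := hσ (t : G) c'
    obtain ⟨hw, e2⟩ := hχf t ⟨_, hc'⟩
    set c'' : B := ⟨(t : G) * c' * (t : G)⁻¹, hcB⟩ with hc''
    have hmem : (σ (c * c'')).toAdd ∈ P.Y := by
      rw [map_mul, toAdd_mul]; exact add_mem hc (e1 ▸ hw)
    refine ⟨c * c'', t * t', hmem, α + (α' + γ * β'), β + β', γ + γ', mul_mem hcY hcY2, ?_, ?_, ?_, ?_⟩
    · rw [← e, ← e', hc'']; push_cast; group
    · rw [show (⟨_, hmem⟩ : P.Y) = ⟨_, hc⟩ + ⟨_, hw⟩ from Subtype.ext (by simp [hc'', ← e1]), map_add,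
        eπ, e2, eπ', eχ]
      funext i; fin_cases i <;> simp [add_div]
      field_simp
    · rw [huniq _ _ _ (hχf (t * t')) (hT2 _ _ _ _ (hχf t) (hχf t')), eχ, eχ', map_add, add_mul]
    · apply Subtype.ext
      show fEl 1 γ α β * fEl 1 γ' α' β' = _
      rw [fEl_mul]
      simp [add_comm, add_left_comm]
  choose ψf hψf using fun r : R => hPex r r.2
  let ψ : R →* ↥(Cfsg.fOver (ZMod p)) := MonoidHom.mk' ψf fun r r' =>
    hPuniq _ _ _ (hψf (r * r')) (hPmul _ _ _ _ (hψf r) (hψf r'))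
  have hψ : ∀ (r : R) M, Pr r M → ψ r = M := fun r M h1 => hPuniq _ _ _ (hψf r) h1
  have hτmem : fEl a (0 : ZMod p) 0 0 ∈ Cfsg.fOver (ZMod p) := fEl_mem _ _ _ _
  have hpowall : ∀ i : ℕ, fEl a (0 : ZMod p) 0 0 ^ i = fEl (a ^ i) 0 0 0 := by
    intro i
    induction i with
    | zero => rw [pow_zero, pow_zero, fEl_one]
    | succ i ih => rw [pow_succ, ih, fEl_mul, pow_succ]; simp only [mul_zero, zero_mul, add_zero]
  refine ⟨h, T, R, hTS, hE, hhT, hRT, hnR, ψ, ⟨_, hτmem⟩, ?_, ?_, ?_, ?_⟩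
  · intro r hr
    obtain ⟨c, t, hc, α, β, γ, hcY, e, eπ, eχ, hM⟩ := hψf ⟨r, hr⟩
    obtain ⟨hcB, e1⟩ := hσ h c
    have hw := P.h_mem _ hc
    have hM' : ψ ⟨r, hr⟩ = _ := hM
    rw [hM']
    refine (hψ _ _ ⟨⟨_, hcB⟩, fh t, e1 ▸ hw, (a : ZMod p) * α, ((a⁻¹ : (ZMod p)ˣ) : ZMod p) * β,
      (a : ZMod p) * a * γ, ?_, ?_, ?_, ?_, rfl⟩).trans ?_
    · obtain ⟨d, hd, hde⟩ := hhY _ ⟨c, hcY, rfl⟩
      rwa [show (⟨h * c * h⁻¹, hcB⟩ : B) = d from Subtype.ext hde.symm]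
    · show h * (c : G) * h⁻¹ * (h * t * h⁻¹) = h * r * h⁻¹
      rw [show r = (c : G) * t from e.symm]; group
    · rw [show (⟨(σ ⟨h * c * h⁻¹, hcB⟩).toAdd, e1 ▸ hw⟩ : P.Y) = ⟨_, hw⟩ from Subtype.ext e1,
        P.π_h ⟨_, hc⟩, eπ]
      funext i; fin_cases i <;> simp [hainv, ← hbF, mul_div_assoc, -Units.val_inv_eq_inv_val]
    · rw [hχfh, eχ, map_mul, map_mul, ← hbF]; ring
    · apply Subtype.ext
      show _ = fEl a 0 0 0 * fEl 1 γ α β * (fEl a 0 0 0)⁻¹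
      rw [eq_mul_inv_iff_mul_eq]
      show fEl 1 _ _ _ * fEl a 0 0 0 = fEl a 0 0 0 * fEl 1 γ α β
      rw [fEl_mul, fEl_mul]
      simp only [one_mul, mul_one, mul_zero, zero_mul, add_zero, zero_add, Units.val_one, inv_one]
      congr 1
      · field_simp
      · rw [Units.val_inv_eq_inv_val]
  · -- generation
    rw [eq_top_iff]
    rintro ⟨M, hM⟩ -
    obtain ⟨d, γ, α, β, rfl⟩ := exists_fEl hM
    obtain ⟨i, rfl⟩ : ∃ i : ℕ, a ^ i = d := by
      have htop : zpowers a = ⊤ := eq_top_of_card_eq _ (by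
        rw [Nat.card_zpowers, ha, Nat.card_eq_fintype_card, ZMod.card_units])
      exact mem_powers_iff_mem_zpowers.mpr (htop ▸ mem_top d)
    have hpow : fEl a (0 : ZMod p) 0 0 ^ i = fEl (a ^ i) 0 0 0 := hpowall i
    have hfac : ∀ g' α' β' : ZMod p, fEl 1 g' α' β' * fEl (a ^ i) 0 0 0 =
        fEl (a ^ i) (g' * ((a ^ i : (ZMod p)ˣ) : ZMod p)⁻¹) α' β' := fun g' α' β' => by
      rw [fEl_mul]; simp
    set γ₁ := γ * ((a ^ i : (ZMod p)ˣ) : ZMod p) with hγ₁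
    obtain ⟨w, hw⟩ := P.surj ![cF α, cF β / s]
    obtain ⟨c, hc⟩ := hσs (Multiplicative.ofAdd (w : V))
    have hcm : (σ c).toAdd ∈ P.Y := by rw [hc]; exact w.2
    have heπ : P.π ⟨_, hcm⟩ = ![cF α, cF β / s] := by
      rw [← hw]; congr 1; exact Subtype.ext (congrArg Multiplicative.toAdd hc)
    have hcY : c ∈ Y₁ := ⟨hcm, α, β, heπ⟩
    have hr : (c : G) * ((t₁ ^ γ₁.val : P4) : G) ∈ R :=
      mul_mem (mem_sup_left ⟨c, hcY, rfl⟩) (mem_sup_right (t₁ ^ γ₁.val).2)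
    have h1 : ψ ⟨_, hr⟩ = ⟨fEl 1 γ₁ α β, fEl_mem _ _ _ _⟩ :=
      hψ _ _ ⟨c, _, hcm, α, β, γ₁, hcY, rfl, heπ,
        by rw [hpowχ, ← map_natCast cF, ZMod.natCast_zmod_val], rfl⟩
    have h2 : (⟨fEl (a ^ i) γ α β, fEl_mem _ _ _ _⟩ : ↥(Cfsg.fOver (ZMod p))) =
        ψ ⟨_, hr⟩ * ⟨_, hτmem⟩ ^ i := by
      rw [h1]
      apply Subtype.ext
      show fEl (a ^ i) γ α β = fEl 1 γ₁ α β * fEl a 0 0 0 ^ i
      rw [hpow, hfac, hγ₁, mul_inv_cancel_right₀ (Units.ne_zero _)]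
    rw [h2]
    exact mul_mem (mem_sup_left ⟨_, rfl⟩) (mem_sup_right (pow_mem (mem_zpowers _) i))
  · intro j hj
    obtain ⟨w, hw⟩ := P.surj ![cF 1, cF 0 / s]
    obtain ⟨c, hc⟩ := hσs (Multiplicative.ofAdd (w : V))
    have hcm : (σ c).toAdd ∈ P.Y := by rw [hc]; exact w.2
    have heπ : P.π ⟨_, hcm⟩ = ![cF 1, cF 0 / s] := by
      rw [← hw]; congr 1; exact Subtype.ext (congrArg Multiplicative.toAdd hc)
    have hcY : c ∈ Y₁ := ⟨hcm, 1, 0, heπ⟩
    have h1 : ψ ⟨(c : G), mem_sup_left ⟨c, hcY, rfl⟩⟩ = ⟨fEl 1 0 1 0, fEl_mem _ _ _ _⟩ :=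
      hψ _ _ ⟨c, 1, hcm, 1, 0, 0, hcY, by simp, heπ, by
        rw [map_zero, zero_mul]; exact huniq _ _ _ (hχf 1) hT1, rfl⟩
    have hpow : fEl a (0 : ZMod p) 0 0 ^ j = fEl (a ^ j) 0 0 0 := hpowall j
    have h2 := hj ⟨(c : G), mem_sup_left ⟨c, hcY, rfl⟩⟩
    rw [h1, mul_inv_eq_iff_eq_mul] at h2
    have h3 := congrArg Subtype.val h2
    simp only [Subgroup.coe_mul, SubmonoidClass.coe_pow] at h3
    rw [hpow, fEl_mul, fEl_mul] at h3
    have h4 := congrArg (fun M : Matrix.SpecialLinearGroup (Fin 3) (ZMod p) =>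
      (M : Matrix (Fin 3) (Fin 3) (ZMod p)) 0 2) h3
    simp [coe_fEl] at h4
    apply Subtype.ext
    show fEl a 0 0 0 ^ j = 1
    rw [hpow, show a ^ j = 1 from Units.ext (by rw [Units.val_pow_eq_pow_val]; simpa using h4), fEl_one]
  · apply Subtype.ext
    show fEl a (0 : ZMod p) 0 0 ^ (p - 1) = 1
    rw [hpowall, ← ha, pow_orderOf_eq_one, fEl_one]

end H74.Glau
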