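import Cfsg.Agent.H74.Glau.Plane

/-!
The module carried by a normal section of exponent `p`.
-/

set_option autoImplicit false

namespace H74.Glau

open Subgroup

universe u

/-- A normal abelian section `B / Z₀` of exponent `p` as a module. -/
theorem exists_section_module {G : Type u} [Group G] [Finite G] {p : ℕ} {Z₀ B : Subgroup G}
    [Z₀.Normal] [B.Normal] (hcomm : ∀ b ∈ B, ∀ c ∈ B, b * c * b⁻¹ * c⁻¹ ∈ Z₀)
    (hpow : ∀ b ∈ B, b ^ p ∈ Z₀) :
    ∃ (V : Type u) (_ : AddCommGroup V) (_ : Finite V) (ρ : G →* AddMonoid.End V)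
      (σ : B →* Multiplicative V), (∀ v : V, p • v = 0) ∧ Function.Surjective σ ∧
      (∀ (c : B), σ c = 1 ↔ (c : G) ∈ Z₀) ∧
      ∀ (g : G) (c : B), ∃ hc : g * c * g⁻¹ ∈ B, (σ ⟨g * c * g⁻¹, hc⟩).toAdd = ρ g (σ c).toAdd := by
  let π : G →* G ⧸ Z₀ := QuotientGroup.mk' Z₀
  let Bm := B.map π
  haveI : Bm.Normal := ‹B.Normal›.map π (QuotientGroup.mk'_surjective Z₀)
  letI : CommGroup Bm :=
    { (inferInstance : Group Bm) with
      mul_comm := by
        rintro ⟨_, b, hb, rfl⟩ ⟨_, c, hc, rfl⟩
        refine Subtype.ext ?_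
        show π b * π c = π c * π b
        rw [← mul_inv_eq_one, ← map_mul, ← map_mul, ← map_inv, ← map_mul]
        refine (QuotientGroup.eq_one_iff _).mpr ?_
        rw [mul_inv_rev, ← mul_assoc]
        exact hcomm b hb c hc }
  let ρ : G →* AddMonoid.End (Additive Bm) :=
    { toFun := fun g => MonoidHom.toAdditive (MulAut.conjNormal (π g)).toMonoidHom
      map_one' := AddMonoidHom.ext fun w =>
        Additive.toMul.injective (Subtype.ext (by
          show π 1 * ((Additive.toMul w : Bm) : G ⧸ Z₀) * (π 1)⁻¹ = ((Additive.toMul w : Bm) : G ⧸ Z₀)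
          rw [map_one, one_mul, inv_one, mul_one]))
      map_mul' := fun g h => AddMonoidHom.ext fun w =>
        Additive.toMul.injective (Subtype.ext (by
          show π (g * h) * ((Additive.toMul w : Bm) : G ⧸ Z₀) * (π (g * h))⁻¹ =
            π g * (π h * ((Additive.toMul w : Bm) : G ⧸ Z₀) * (π h)⁻¹) * (π g)⁻¹
          rw [map_mul]; group)) }
  let σ : B →* Multiplicative (Additive Bm) :=
    MonoidHom.mk' (fun c => Multiplicative.ofAdd (Additive.ofMul (⟨π c, c, c.2, rfl⟩ : Bm))) fun c d => by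
      rw [← ofAdd_add, ← ofMul_mul]
      congr 2
  refine ⟨Additive Bm, inferInstance, inferInstance, ρ, σ, ?_, ?_, fun c => ?_, fun g c => ?_⟩
  · intro v
    obtain ⟨b, hb, hbe⟩ := (Additive.toMul v).2
    apply Additive.toMul.injective
    rw [toMul_nsmul, toMul_zero]
    refine Subtype.ext ?_
    rw [SubmonoidClass.coe_pow, ← hbe, ← map_pow, OneMemClass.coe_one]
    exact (QuotientGroup.eq_one_iff _).mpr (hpow b hb)
  · intro v
    obtain ⟨b, hb, hbe⟩ := (Additive.toMul (Multiplicative.toAdd v)).2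
    exact ⟨⟨b, hb⟩, Multiplicative.toAdd.injective (Additive.toMul.injective (Subtype.ext hbe))⟩
  · constructor
    · intro h
      have h' : π (c : G) = 1 :=
        congrArg (fun v : Multiplicative (Additive Bm) => ((Additive.toMul v.toAdd : Bm) : G ⧸ Z₀)) h
      exact (QuotientGroup.eq_one_iff (c : G)).mp h' 
    · intro h
      exact Multiplicative.toAdd.injective (Additive.toMul.injective (Subtype.ext
        ((QuotientGroup.eq_one_iff (c : G)).mpr h)))
  · refine ⟨‹B.Normal›.conj_mem _ c.2 g, Additive.toMul.injective (Subtype.ext ?_)⟩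
    show π (g * c * g⁻¹) = _
    rw [map_mul, map_mul, map_inv]; rfl

end H74.Glau
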