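import Cfsg.Agent.H74.Glau.Pure
import Cfsg.Agent.H74.Glau.Good
import Cfsg.Agent.H74.Glau.Section
import Cfsg.Agent.H11.PStable

/-!
Tools for the fusion theorem: eigenvectors in the orbit of the distinguished vector, and transport
of plane configurations by conjugation.
-/

set_option autoImplicit false

namespace H74.Glau

open Subgroup

variable {G : Type*} [Group G] [Finite G] {p : ℕ} [Fact p.Prime] {V : Type*} [AddCommGroup V]
  [Finite V]

/-- An eigenvector in the orbit of `z` gives the first configuration. -/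
theorem goodC_of_eigen {E : Subgroup G → G → Prop} {S T Z₀ B : Subgroup G}
    [Z₀.Normal] (hpV : ∀ v : V, p • v = 0) (ρ : G →* AddMonoid.End V) (σ : B →* Multiplicative V)
    (hσ1 : ∀ c : B, σ c = 1 ↔ (c : G) ∈ Z₀)
    (hσ : ∀ (g : G) (c : B), ∃ hc : g * c * g⁻¹ ∈ B, (σ ⟨g * c * g⁻¹, hc⟩).toAdd = ρ g (σ c).toAdd)
    {z : G} (hzB : z ∈ B) (hzT : z ∈ T) (hZT : Z₀ ≤ T) (hTS : T ≤ S) {h : G}
    (hhT : h ∈ normalizer (T : Set G)) (hE : E T h) (hhc : (orderOf h).Coprime p)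
    {a : (ZMod p)ˣ} (ha : orderOf a = p - 1) {K : AddSubgroup V}
    (hK : ∀ w ∈ K, ρ h w ∈ K) (hz : (σ ⟨z, hzB⟩).toAdd ∉ K)
    (hhz : ρ h (σ ⟨z, hzB⟩).toAdd - (a : ZMod p).val • (σ ⟨z, hzB⟩).toAdd ∈ K) :
    GoodC p (a : ZMod p).val E S z := by
  have hpp : p.Prime := Fact.out
  haveI : NeZero p := ⟨hpp.ne_zero⟩
  set v := (σ ⟨z, hzB⟩).toAdd with hv
  set b := (a : ZMod p).val with hb
  have hit : ∀ (i : ℕ) (w : V), ((ρ h : V →+ V))^[i] w = ρ (h ^ i) w := by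
    intro i
    induction i with
    | zero => intro w; rw [pow_zero, map_one]; rfl
    | succ i ih => intro w; rw [Function.iterate_succ_apply', ih, pow_succ', coe_mul_apply]
  set n := (p - 1) * orderOf h with hn
  have hncop : n.Coprime p := by
    refine Nat.Coprime.mul_left ?_ hhc
    refine (hpp.coprime_iff_not_dvd.mpr fun hd => ?_).symm
    have h2 := hpp.two_le
    have := Nat.le_of_dvd (by omega) hd
    omega
  have hbn : b ^ n ≡ 1 [MOD p] := by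
    rw [← ZMod.natCast_eq_natCast_iff, Nat.cast_pow, hb, ZMod.natCast_zmod_val, Nat.cast_one, hn,
      pow_mul, ← Units.val_pow_eq_pow_val, ← ha, pow_orderOf_eq_one]
    simp
  obtain ⟨b', hb', e, he, hfe, heK⟩ := exists_eigen (k := 1) (fun w => by rw [pow_one]; exact hpV w)
    (ρ h : V →+ V) hncop (fun w => by
      refine (hit n w).trans ?_
      rw [hn, mul_comm, pow_mul, pow_orderOf_eq_one, one_pow, map_one]; rfl)
    hbn hK hz (by rw [hpV]; exact K.zero_mem) hhz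
  have hbb : b' • e = b • e := by
    obtain ⟨q, hq⟩ := (Nat.modEq_iff_dvd.mp hb')
    have h1 : ((b : ℤ)) • e = ((b' : ℤ) + (p : ℤ) * q) • e := by rw [← hq, add_sub_cancel]
    rw [add_zsmul, mul_comm, mul_zsmul', natCast_zsmul, natCast_zsmul, natCast_zsmul, hpV,
      add_zero] at h1
    exact h1.symm
  -- lift to the orbit
  let L : AddSubgroup V :=
    { carrier := {w | ∃ u ∈ orbitGen h z, ∃ hu : u ∈ B, (σ ⟨u, hu⟩).toAdd = w}
      zero_mem' := ⟨1, one_mem _, one_mem _, by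
        show (σ 1).toAdd = 0
        rw [map_one, toAdd_one]⟩
      add_mem' := by
        rintro _ _ ⟨u, hu, huB, rfl⟩ ⟨w, hw, hwB, rfl⟩
        refine ⟨u * w, mul_mem hu hw, mul_mem huB hwB, ?_⟩
        rw [← toAdd_mul, ← map_mul]
        rfl
      neg_mem' := by
        rintro _ ⟨u, hu, huB, rfl⟩
        refine ⟨u⁻¹, inv_mem hu, inv_mem huB, ?_⟩
        rw [← toAdd_inv, ← map_inv]
        rfl }
  obtain ⟨u, hu, huB, hue⟩ : e ∈ L := by
    refine (AddSubgroup.closure_le L).mpr ?_ he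
    rintro _ ⟨i, rfl⟩
    obtain ⟨hc, hc'⟩ := hσ (h ^ i) ⟨z, hzB⟩
    exact ⟨h ^ i * z * (h ^ i)⁻¹, subset_closure ⟨i, rfl⟩, hc, hc'.trans (hit i v).symm⟩
  refine ⟨h, T, Z₀, hTS, hE, hhT, hzT, hZT, mem_normalizer_iff.mpr fun x => ⟨fun hx =>
    Subgroup.Normal.conj_mem inferInstance x hx h, fun hx => by
      simpa [mul_assoc] using Subgroup.Normal.conj_mem inferInstance _ hx h⁻¹⟩, u, hu, ?_, ?_, ?_⟩
  · intro hu0
    apply heK
    rw [← hue, (hσ1 ⟨u, huB⟩).mpr hu0, toAdd_one]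
    exact K.zero_mem
  · have h1 := (hσ1 (⟨u, huB⟩ ^ p)).mp (by
      rw [map_pow]
      refine Multiplicative.toAdd.injective ?_
      rw [toAdd_pow, hue, hpV, toAdd_one])
    simpa using h1
  · obtain ⟨hc, hc'⟩ := hσ h ⟨u, huB⟩
    have h1 := (hσ1 (⟨h * u * h⁻¹, hc⟩ * (⟨u, huB⟩ ^ b)⁻¹)).mp (by
      refine Multiplicative.toAdd.injective ?_
      rw [map_mul, map_inv, map_pow, toAdd_mul, toAdd_inv, toAdd_pow, hue, hc', hue, toAdd_one,
        ← sub_eq_add_neg, sub_eq_zero]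
      exact hfe.trans hbb)
    simpa using h1

omit [Fact p.Prime] in
/-- Transport of a plane by `ρ k`. -/
theorem plane_conj {ρ : G →* AddMonoid.End V} {b : ℕ} {x y h : G} {v : V} {F : Type} [Field F]
    (P : PlaneData p ρ b x y h v F) (k : G) :
    Nonempty (PlaneData p ρ b (k * x * k⁻¹) (k * y * k⁻¹) (k * h * k⁻¹) (ρ k v) F) := by
  let e : V →+ V := ρ k
  have hinv : ∀ w, ρ k⁻¹ (e w) = w := fun w => coe_inv_apply ρ k w
  have hcj : ∀ g w, ρ (k * g * k⁻¹) (e w) = e (ρ g w) := fun g w => by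
    rw [coe_mul_apply, coe_mul_apply, hinv]; rfl
  let Y : AddSubgroup V := P.Y.map e
  have hb : ∀ w ∈ Y, ρ k⁻¹ w ∈ P.Y := by
    rintro _ ⟨w, hw, rfl⟩; rw [hinv]; exact hw
  let π : Y →+ (Fin 2 → F) := AddMonoidHom.mk' (fun w => P.π ⟨ρ k⁻¹ w, hb w w.2⟩) fun s t =>
    (congrArg P.π (Subtype.ext (map_add (ρ k⁻¹) (s : V) (t : V)) :
      (⟨ρ k⁻¹ ((s + t : Y) : V), hb _ (s + t).2⟩ : P.Y) = ⟨_, hb _ s.2⟩ + ⟨_, hb _ t.2⟩)).trans
      (map_add P.π _ _)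
  have hπ : ∀ w (hw : w ∈ P.Y) (hw' : e w ∈ Y), π ⟨e w, hw'⟩ = P.π ⟨w, hw⟩ := fun w hw hw' =>
    congrArg P.π (Subtype.ext (hinv w))
  have hx : ∀ w ∈ Y, ρ (k * x * k⁻¹) w ∈ Y := by
    rintro _ ⟨w, hw, rfl⟩; exact ⟨_, P.x_mem w hw, (hcj x w).symm⟩
  have hh : ∀ w ∈ Y, ρ (k * h * k⁻¹) w ∈ Y := by
    rintro _ ⟨w, hw, rfl⟩; exact ⟨_, P.h_mem w hw, (hcj h w).symm⟩
  refine ⟨{ Y := Y, π := π, mem_v := ⟨v, P.mem_v, rfl⟩, π_v := (hπ v P.mem_v _).trans P.π_v,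
            surj := fun n => ?_, x_mem := hx, h_mem := hh, l := P.l, l_ne := P.l_ne,
            π_x := ?_, π_h := ?_ }⟩
  · obtain ⟨⟨w, hw⟩, hn⟩ := P.surj n
    exact ⟨⟨e w, w, hw, rfl⟩, (hπ w hw _).trans hn⟩
  · rintro ⟨_, w, hw, rfl⟩
    exact (((congrArg π (Subtype.ext (hcj x w))).trans
      (hπ _ (P.x_mem w hw) ⟨_, P.x_mem w hw, rfl⟩)).trans (P.π_x ⟨w, hw⟩)).trans
      (congrArg (fun n : Fin 2 → F => ![n 0 + P.l * n 1, n 1]) (hπ w hw ⟨w, hw, rfl⟩).symm)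
  · rintro ⟨_, w, hw, rfl⟩
    exact (((congrArg π (Subtype.ext (hcj h w))).trans
      (hπ _ (P.h_mem w hw) ⟨_, P.h_mem w hw, rfl⟩)).trans (P.π_h ⟨w, hw⟩)).trans
      (congrArg (fun n : Fin 2 → F => ![(b : F) * n 0, (b : F)⁻¹ * n 1]) (hπ w hw ⟨w, hw, rfl⟩).symm)

/-- `W` is unchanged in a subgroup containing all largest abelian subgroups. -/
theorem centerThompsonAOf_eq_of_maxFam_le {D D' : Subgroup G} (hD : D' ≤ D)
    (h : ∀ U ∈ H11.maxFam (fun A : Subgroup G => IsMulCommutative A) D, U ≤ D') :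
    Cfsg.centerThompsonAOf D' = Cfsg.centerThompsonAOf D := by
  rw [H11.centerThompsonAOf_eq, H11.centerThompsonAOf_eq]
  congr 1
  obtain ⟨A, hA⟩ := H11.maxFam_nonempty (P := fun A : Subgroup G => IsMulCommutative A) H11.isMulCommutative_bot D
  exact le_antisymm (H11.maxFam_subset_of_mem hD hA (h A hA))
    fun U hU => H11.mem_maxFam_of_mem hD hU (h U hU)

omit [Fact p.Prime] in
theorem centerThompsonAOf_le_of_le {D D' A : Subgroup G} (hD : D' ≤ D)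
    (hA : A ∈ H11.maxFam (fun A : Subgroup G => IsMulCommutative A) D) (hA' : A ≤ D') :
    Cfsg.centerThompsonAOf D ≤ Cfsg.centerThompsonAOf D' := by
  rw [H11.centerThompsonAOf_eq, H11.centerThompsonAOf_eq]
  exact sInf_le_sInf (H11.maxFam_subset_of_mem hD hA hA')

end H74.Glau
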