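import Mathlib

/-!
Eigenvectors of automorphisms of order prime to `p` in abelian `p`-groups.
-/

set_option autoImplicit false

namespace H74.Glau

open Finset

variable {p : ℕ}

/-- Lifting `b ^ n ≡ 1` from `p` to a power of `p`. -/
theorem pow_pow_modEq_one {b k : ℕ} (h : b ≡ 1 [MOD p]) :
    b ^ p ^ k ≡ 1 [MOD p ^ (k + 1)] := by
  have h1 : (p : ℤ) ∣ (b : ℤ) - 1 := by
    have := (Int.natCast_modEq_iff.mpr h)
    exact Int.modEq_iff_dvd.mp this.symm
  have h2 := dvd_sub_pow_of_dvd_sub (R := ℤ) (p := p) h1 k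
  rw [one_pow] at h2
  refine Int.natCast_modEq_iff.mp (Int.modEq_iff_dvd.mpr ?_).symm
  push_cast
  exact h2

variable {A : Type*} [AddCommGroup A]

/-- Iterates under an endomorphism. -/
abbrev orbitSum (f : A →+ A) (c : ℕ → ℕ) (n : ℕ) (x : A) : A :=
  ∑ i ∈ range n, c i • (f^[i]) x

theorem exists_eigen [Fact p.Prime] {k : ℕ} (hA : ∀ x : A, p ^ k • x = 0) (f : A →+ A) {n : ℕ}
    (hn : n.Coprime p) (hf : ∀ x, (f^[n]) x = x) {a : ℕ} (ha : a ^ n ≡ 1 [MOD p]) {x : A}
    {K : AddSubgroup A} (hK : ∀ y ∈ K, f y ∈ K) (hx : x ∉ K) (hpx : p • x ∈ K)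
    (hfx : f x - a • x ∈ K) :
    ∃ a' : ℕ, a' ≡ a [MOD p] ∧ ∃ e ∈ AddSubgroup.closure (Set.range fun i => (f^[i]) x),
      f e = a' • e ∧ e ∉ K := by
  obtain ⟨a', ha'⟩ : ∃ a', a' = a ^ p ^ k := ⟨_, rfl⟩
  have hpp : (p : ℕ).Prime := Fact.out
  have haa : a' ≡ a [MOD p] := by
    rw [ha', ← ZMod.natCast_eq_natCast_iff, Nat.cast_pow, ZMod.pow_card_pow]
  have ha1 : a' ^ n ≡ 1 [MOD p ^ (k + 1)] := by
    rw [ha', ← pow_mul, mul_comm, pow_mul]
    exact pow_pow_modEq_one ha
  obtain ⟨e, he⟩ : ∃ e, e = orbitSum f (fun i => a' ^ (n - 1 - i)) n x := ⟨_, rfl⟩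
  refine ⟨a', haa, e, ?_, ?_, ?_⟩
  · rw [he]
    exact AddSubgroup.sum_mem _ fun i _ =>
      AddSubgroup.nsmul_mem _ (AddSubgroup.subset_closure (Set.mem_range_self i)) _
  · have h1 : f e = ∑ i ∈ range n, a' ^ (n - 1 - i) • (f^[i + 1]) x := by
      simp only [he, orbitSum, map_sum, map_nsmul, Function.iterate_succ_apply']
    have h2 : a' • e = ∑ i ∈ range n, a' ^ (n - i) • (f^[i]) x := by
      simp only [he, orbitSum, Finset.smul_sum, smul_smul]
      refine Finset.sum_congr rfl fun i hi => ?_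
      rw [← pow_succ', show n - 1 - i + 1 = n - i by have := Finset.mem_range.mp hi; omega]
    have h3 := Finset.sum_range_succ' (fun i => a' ^ (n - i) • (f^[i]) x) n
    have h4 := Finset.sum_range_succ (fun i => a' ^ (n - i) • (f^[i]) x) n
    have h5 : ∀ i, n - 1 - i = n - (i + 1) := fun i => by omega
    have h6 : a' ^ n • x = x := by
      have hdec := Nat.div_add_mod (a' ^ n) (p ^ (k + 1))
      have hmod : (a' ^ n) % p ^ (k + 1) = 1 := by
        rw [ha1, Nat.mod_eq_of_lt (Nat.one_lt_pow (Nat.succ_ne_zero k) hpp.one_lt)]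
      rw [← hdec, hmod, add_nsmul, one_nsmul, mul_comm, mul_nsmul', pow_succ, mul_nsmul, hA,
        nsmul_zero, nsmul_zero, zero_add]
    rw [h1, h2]
    simp only [h5]
    simp only [Nat.sub_self, pow_zero, one_nsmul, hf] at h4
    simp only [Nat.sub_zero, Function.iterate_zero, id_eq, h6] at h3
    exact add_right_cancel (h3.symm.trans h4)
  · intro hmem
    have hiter : ∀ i, (f^[i]) x - a ^ i • x ∈ K := by
      intro i
      induction i with
      | zero => simp
      | succ i ih =>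
        rw [Function.iterate_succ_apply', pow_succ, mul_nsmul']
        have h := K.add_mem (hK _ ih) (K.nsmul_mem hfx (a ^ i))
        rwa [map_sub, map_nsmul, smul_sub, sub_add_sub_cancel] at h
    have hsum : (∑ i ∈ range n, a' ^ (n - 1 - i) * a ^ i) • x ∈ K := by
      rw [Finset.sum_smul]
      have : ∑ i ∈ range n, ((a' ^ (n - 1 - i)) • (f^[i]) x - (a' ^ (n - 1 - i) * a ^ i) • x) ∈ K := by
        refine K.sum_mem fun i _ => ?_
        rw [mul_nsmul', ← smul_sub]
        exact K.nsmul_mem (hiter i) _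
      rw [Finset.sum_sub_distrib] at this
      have h := K.sub_mem hmem this
      simp only [he, orbitSum, sub_sub_cancel] at h
      exact h
    obtain ⟨c, hc⟩ : ∃ c, c = ∑ i ∈ range n, a' ^ (n - 1 - i) * a ^ i := ⟨_, rfl⟩
    rw [← hc] at hsum
    have hcp : ¬ p ∣ c := by
      rw [← ZMod.natCast_eq_zero_iff, hc, Nat.cast_sum]
      have hae : (a' : ZMod p) = a := (ZMod.natCast_eq_natCast_iff _ _ _).mpr haa
      have h1 : (a : ZMod p) ^ n = 1 := by
        have := (ZMod.natCast_eq_natCast_iff _ _ _).mpr ha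
        simpa using this
      have : ∀ i ∈ range n, ((a' ^ (n - 1 - i) * a ^ i : ℕ) : ZMod p) = (a : ZMod p) ^ (n - 1) := by
        intro i hi
        rw [Nat.cast_mul, Nat.cast_pow, Nat.cast_pow, hae, ← pow_add,
          show n - 1 - i + i = n - 1 by have := Finset.mem_range.mp hi; omega]
      rw [Finset.sum_congr rfl this, Finset.sum_const, card_range, nsmul_eq_mul]
      refine mul_ne_zero (fun h => ?_) (pow_ne_zero _ fun h => ?_)
      · rw [ZMod.natCast_eq_zero_iff] at h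
        exact (hpp.coprime_iff_not_dvd.mp hn.symm) h
      · rcases Nat.eq_zero_or_pos n with hn0 | hn0
        · rw [hn0] at hn; exact hpp.ne_one ((Nat.coprime_zero_left p).mp hn)
        · rw [h, zero_pow hn0.ne'] at h1; exact zero_ne_one h1
    obtain ⟨s, hs⟩ : ∃ s : ℕ, c * s % p = 1 % p := by
      obtain ⟨s, -, hs⟩ := Nat.exists_mul_mod_eq_one_of_coprime
        ((hpp.coprime_iff_not_dvd.mpr hcp).symm) hpp.one_lt
      exact ⟨s, hs.trans (Nat.mod_eq_of_lt hpp.one_lt).symm⟩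
    apply hx
    rw [Nat.mod_eq_of_lt hpp.one_lt] at hs
    have hd := Nat.div_add_mod (c * s) p
    have h1 : (c * s) • x ∈ K := by rw [mul_comm, mul_nsmul']; exact K.nsmul_mem hsum _
    rw [← hd, hs, add_nsmul, one_nsmul, mul_comm, mul_nsmul'] at h1
    simpa using K.sub_mem h1 (K.nsmul_mem hpx (c * s / p))

end H74.Glau
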