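import Cfsg.Agent.H74.Glau.Plane

/-!
A quadratic subgroup with a unique maximal overgroup, on a module without trivial head and socle.
-/

set_option autoImplicit false

namespace H74.Glau

open scoped Pointwise

variable {G : Type*} [Group G] {V : Type*} [AddCommGroup V]

/-- `A` acts quadratically, jointly. -/
def QuadSub (ρ : G →* AddMonoid.End V) (A : Subgroup G) : Prop :=
  ∀ a ∈ A, ∀ b ∈ A, ∀ v, ρ a (ρ b v - v) = ρ b v - v

theorem QuadSub.quad {ρ : G →* AddMonoid.End V} {A : Subgroup G} (h : QuadSub ρ A) {a : G}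
    (ha : a ∈ A) : Quad ρ a := fun v => h a ha a ha v

/-- The subgroup of elements stabilizing a set of vectors. -/
def stabSet [Finite G] (ρ : G →* AddMonoid.End V) (S : AddSubgroup V) : Subgroup G where
  carrier := {g | ∀ w ∈ S, ρ g w ∈ S}
  one_mem' := fun w hw => by rw [map_one]; exact hw
  mul_mem' := fun {g h} hg hh w hw => by rw [coe_mul_apply]; exact hg _ (hh w hw)
  inv_mem' := fun {g} hg => by
    have hpow : ∀ n : ℕ, ∀ w ∈ S, ρ (g ^ n) w ∈ S := fun n => by
      induction n with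
      | zero => intro w hw; rw [pow_zero, map_one]; exact hw
      | succ n ih => intro w hw; rw [pow_succ, coe_mul_apply]; exact ih _ (hg w hw)
    have : g⁻¹ = g ^ (orderOf g - 1) := by
      rw [inv_eq_iff_mul_eq_one, ← pow_succ', Nat.sub_add_cancel (orderOf_pos g),
        pow_orderOf_eq_one]
    rw [this]
    exact hpow _

/-- The subgroup of elements fixing a vector. -/
def fixVec [Finite G] (ρ : G →* AddMonoid.End V) (v : V) : Subgroup G where
  carrier := {g | ρ g v = v}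
  one_mem' := by show ρ 1 v = v; rw [map_one]; rfl
  mul_mem' := fun {g h} hg hh => by show ρ (g * h) v = v; rw [coe_mul_apply, hh]; exact hg
  inv_mem' := fun {g} hg => by
    show ρ g⁻¹ v = v
    conv_lhs => rw [← (show ρ g v = v from hg)]
    exact coe_inv_apply ρ g v

variable [Finite G] [Finite V] {p : ℕ} [Fact p.Prime]

theorem geometry (hp : p ≠ 2) (ρ : G →* AddMonoid.End V) (hpV : ∀ v : V, p • v = 0)
    {A : Subgroup G} (hA : IsPGroup p A) (hq : QuadSub ρ A)
    {X : Subgroup G} (hX : X ≠ ⊤) (hAX : A ≤ X) (huniq : ∀ M : Subgroup G, M ≠ ⊤ → A ≤ M → M ≤ X)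
    {g : G} (hg : ¬ A.map (MulAut.conj g).toMonoidHom ≤ X)
    (hfix : ∀ v, (∀ k, ρ k v = v) → v = 0)
    (hperf : AddSubgroup.closure {w | ∃ k v, w = ρ k v - v} = ⊤)
    (a : (ZMod p)ˣ) (ha : (a : ZMod p) ≠ 1) :
    ∃ x ∈ A, (∀ w, ρ x w = w → ∀ b ∈ A, ρ b w = w) ∧
      (∀ w, ∃ s t, w = s + t ∧ (∀ c ∈ A, ρ c s = s) ∧
        ∀ c ∈ A.map (MulAut.conj g).toMonoidHom, ρ c t = t) ∧
      (∀ y, Quad ρ y → y ∉ X → ∀ v, v ≠ 0 → ρ x v = v →
        ∃ h ∈ Subgroup.closure ({x, y} : Set G), h ∈ X ∧ (orderOf h).Coprime p ∧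
          ∃ (F : Type) (_ : Field F) (_ : Finite F) (_ : CharP F p),
            Nonempty (PlaneData p ρ (a : ZMod p).val x y h v F)) := by
  classical
  set B := A.map (MulAut.conj g).toMonoidHom with hB
  have hgen : A ⊔ B = ⊤ := by
    by_contra hne
    exact hg (le_sup_right.trans (huniq _ hne le_sup_left))
  have hqB : QuadSub ρ B := by
    rintro _ ⟨b, hb, rfl⟩ _ ⟨c, hc, rfl⟩ v
    have e : ∀ (d : G) (u : V), ρ (g * d * g⁻¹) u = ρ g (ρ d (ρ g⁻¹ u)) := fun d u => by
      rw [coe_mul_apply, coe_mul_apply]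
    have hgg : ∀ u, ρ g⁻¹ (ρ g u) = u := coe_inv_apply ρ g
    show ρ (g * b * g⁻¹) (ρ (g * c * g⁻¹) v - v) = ρ (g * c * g⁻¹) v - v
    have hv : v = ρ g (ρ g⁻¹ v) := by rw [← coe_mul_apply, mul_inv_cancel, map_one]; rfl
    conv_lhs => rw [e c, e b, map_sub, hgg, hq b hb c hc, map_sub, ← hv]
    rw [e c]
  let T : Subgroup G → AddSubgroup V := fun C => AddSubgroup.closure {w | ∃ c ∈ C, ∃ v, w = ρ c v - v}
  have hTfix : ∀ C, QuadSub ρ C → ∀ w ∈ T C, ∀ c ∈ C, ρ c w = w := by
    intro C hC w hw c hc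
    induction hw using AddSubgroup.closure_induction with
    | mem w hw => obtain ⟨d, hd, v, rfl⟩ := hw; exact hC c hc d hd v
    | zero => exact map_zero _
    | add s t _ _ hs ht => rw [map_add, hs, ht]
    | neg s _ hs => rw [map_neg, hs]
  have hTT : T A ⊔ T B = ⊤ := by
    have hstab : ∀ k, k ∈ stabSet ρ (T A ⊔ T B) := by
      intro k
      have hle : A ⊔ B ≤ stabSet ρ (T A ⊔ T B) := by
        refine sup_le (fun c hc w hw => ?_) (fun c hc w hw => ?_) <;>
          rw [show ρ c w = (ρ c w - w) + w by abel] <;>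
          refine AddSubgroup.add_mem _ ?_ hw
        · exact AddSubgroup.mem_sup_left (AddSubgroup.subset_closure ⟨c, hc, w, rfl⟩)
        · exact AddSubgroup.mem_sup_right (AddSubgroup.subset_closure ⟨c, hc, w, rfl⟩)
      exact hle (hgen ▸ Subgroup.mem_top k)
    let Z : Subgroup G :=
      { carrier := {k | ∀ v, ρ k v - v ∈ T A ⊔ T B}
        one_mem' := fun v => by rw [map_one]; simp
        mul_mem' := fun {s t} hs ht v => by
          rw [coe_mul_apply, show ρ s (ρ t v) - v = (ρ s (ρ t v) - ρ t v) + (ρ t v - v) by abel]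
          exact AddSubgroup.add_mem _ (hs _) (ht v)
        inv_mem' := fun {s} hs v => by
          have h := AddSubgroup.neg_mem _ (hs (ρ s⁻¹ v))
          rwa [neg_sub, ← coe_mul_apply, mul_inv_cancel, map_one] at h }
    have hZ : A ⊔ B ≤ Z := sup_le
      (fun c hc v => AddSubgroup.mem_sup_left (AddSubgroup.subset_closure ⟨c, hc, v, rfl⟩))
      (fun c hc v => AddSubgroup.mem_sup_right (AddSubgroup.subset_closure ⟨c, hc, v, rfl⟩))
    refine eq_top_iff.mpr (hperf ▸ (AddSubgroup.closure_le _).mpr ?_)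
    rintro _ ⟨k, v, rfl⟩
    exact hZ (hgen ▸ Subgroup.mem_top k) v
  obtain ⟨x, hxA, hxgen⟩ : ∃ x ∈ A, Subgroup.zpowers x ⊔ B = ⊤ := by
    by_contra hno
    push Not at hno
    have hle : A ⊔ B ≤ X.map (MulAut.conj g).toMonoidHom := by
      refine sup_le (fun c hc => ?_) (Subgroup.map_mono hAX)
      have hM := huniq ((Subgroup.zpowers c ⊔ B).map (MulAut.conj g⁻¹).toMonoidHom) (fun e => hno c hc (by
          have := congrArg (Subgroup.map (MulAut.conj g).toMonoidHom) e
          rwa [Subgroup.map_map, Subgroup.map_top_of_surjective _ (MulAut.conj g).surjective,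
            show (MulAut.conj g).toMonoidHom.comp (MulAut.conj g⁻¹).toMonoidHom = MonoidHom.id G from
              MonoidHom.ext fun z => by simp [mul_assoc], Subgroup.map_id] at this)) (fun d hd => by
          exact ⟨g * d * g⁻¹, Subgroup.mem_sup_right ⟨d, hd, rfl⟩, by simp [mul_assoc]⟩)
      have h2 : g⁻¹ * c * g ∈ X := hM ⟨c, Subgroup.mem_sup_left (Subgroup.mem_zpowers c), by simp⟩
      exact ⟨_, h2, by simp [mul_assoc]⟩
    rw [hgen, top_le_iff] at hle
    apply hX
    have := congrArg (Subgroup.map (MulAut.conj g⁻¹).toMonoidHom) hle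
    rwa [Subgroup.map_map, Subgroup.map_top_of_surjective _ (MulAut.conj g⁻¹).surjective,
      show (MulAut.conj g⁻¹).toMonoidHom.comp (MulAut.conj g).toMonoidHom = MonoidHom.id G from
        MonoidHom.ext fun z => by simp [mul_assoc], Subgroup.map_id] at this
  have hCx : ∀ w, ρ x w = w → ∀ c ∈ A, ρ c w = w := by
    intro w hw c hc
    obtain ⟨s, hs, t, ht, rfl⟩ := AddSubgroup.mem_sup.mp (show w ∈ T A ⊔ T B by rw [hTT]; trivial)
    have ht0 : t = 0 := by
      refine hfix t fun k => ?_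
      have hle : Subgroup.zpowers x ⊔ B ≤ fixVec ρ t := by
        refine sup_le (Subgroup.zpowers_le.mpr ?_) fun d hd => hTfix B hqB t ht d hd
        rw [map_add, hTfix A hq s hs x hxA] at hw
        exact add_left_cancel hw
      exact hle (hxgen ▸ Subgroup.mem_top k)
    rw [ht0, add_zero]
    exact hTfix A hq s hs c hc
  refine ⟨x, hxA, hCx, fun w => ?_, fun y hy hyX v hv hxv => ?_⟩
  · obtain ⟨s, hs, t, ht, rfl⟩ := AddSubgroup.mem_sup.mp (show w ∈ T A ⊔ T B by rw [hTT]; trivial)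
    exact ⟨s, t, rfl, hTfix A hq s hs, hTfix B hqB t ht⟩
  have hCC : ∀ w, ρ x w = w → ρ y w = w → w = 0 := by
    intro w hw hw'
    refine hfix w fun k => ?_
    have htop : fixVec ρ w = ⊤ := by
      by_contra hne
      exact hyX (huniq _ hne (fun c hc => hCx w hw c hc) hw')
    exact (htop ▸ Subgroup.mem_top k : k ∈ fixVec ρ w)
  obtain ⟨k, hk⟩ := hA ⟨x, hxA⟩
  obtain ⟨h, hh, hcop, ⟨U, hU, hUx, hUh⟩, F, iF, iFin, iC, hdata⟩ :=
    exists_plane hp ρ hpV ⟨k, congrArg Subtype.val hk⟩ (hq.quad hxA) hy hCC hv hxv a ha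
  refine ⟨h, hh, ?_, hcop, F, iF, iFin, iC, hdata⟩
  have hproper : stabSet ρ U ≠ ⊤ := by
    intro htop
    refine hU ((AddSubgroup.eq_bot_iff_forall U).mpr fun w hw => hfix w fun k => ?_)
    have hle : A ⊔ B ≤ fixVec ρ w := by
      refine sup_le (fun c hc => hCx w (hUx w hw) c hc) ?_
      rintro _ ⟨c, hc, rfl⟩
      show ρ (g * c * g⁻¹) w = w
      have hgw : ρ g⁻¹ w ∈ U := (htop ▸ Subgroup.mem_top g⁻¹ : g⁻¹ ∈ stabSet ρ U) w hw
      rw [coe_mul_apply, coe_mul_apply, hCx _ (hUx _ hgw) c hc, ← coe_mul_apply, mul_inv_cancel,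
        map_one]
      rfl
    exact hle (hgen ▸ Subgroup.mem_top k)
  refine huniq _ hproper (fun c hc w hw => ?_) hUh
  rwa [hCx w (hUx w hw) c hc]

end H74.Glau
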