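import Cfsg.Agent.H74.Glau.Thm
import Cfsg.Agent.H6.SL2Section
import Cfsg.Agent.H83.NormalSquare

/-!
The structure of a failure of `Z(J(S))` to control strong fusion.
-/

set_option autoImplicit false
set_option maxHeartbeats 1000000

namespace H74.Glau

open Subgroup

universe u

variable {p : ℕ} [Fact p.Prime]

theorem isMulCommutative_centerThompsonAOf {G : Type*} [Group G] [Finite G] (S : Subgroup G) :
    IsMulCommutative (Cfsg.centerThompsonAOf S) := by
  obtain ⟨A, hA⟩ := H11.maxFam_nonempty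
    (P := fun A : Subgroup G => IsMulCommutative A) H11.isMulCommutative_bot S
  have hle : Cfsg.centerThompsonAOf S ≤ A := by rw [H11.centerThompsonAOf_eq]; exact sInf_le hA
  exact H11.isMulCommutative_of_commute fun u hu v hv =>
    H11.comm_of_mulCommutative hA.2.1 (hle hu) (hle hv)

/-- The configurations live in the normalizer of `Z(J(S))`. -/
def Concl (p : ℕ) [Fact p.Prime] (b : ℕ) {G : Type u} [Group G] (S : Subgroup G) : Prop :=
  Cfsg.Involves ↥(Cfsg.fOver (ZMod p)) ↥(normalizer (Cfsg.centerThompsonAOf S : Set G)) ∧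
    ∃ c ∈ Cfsg.centerThompsonAOf S, orderOf c = p ∧
      ∃ x ∈ normalizer (Cfsg.centerThompsonAOf S : Set G), x * c * x⁻¹ = c ^ b

theorem conclude {G : Type u} [Group G] [Finite G] (hp : p ≠ 2) (S : Sylow p G) {a : (ZMod p)ˣ}
    (ha : orderOf a = p - 1) {z : G} (hz : z ∈ Cfsg.centerThompsonAOf (S : Subgroup G))
    (hC : GoodC p (a : ZMod p).val
      (fun U g => H79.Induced (Cfsg.centerThompsonAOf (S : Subgroup G)) U g) S z)
    (hF : GoodF p (fun U g => H79.Induced (Cfsg.centerThompsonAOf (S : Subgroup G)) U g) S) :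
    Concl p (a : ZMod p).val (S : Subgroup G) := by
  have hpp : p.Prime := Fact.out
  set W := Cfsg.centerThompsonAOf (S : Subgroup G) with hW
  set H := normalizer (W : Set G) with hH
  have hSH : (S : Subgroup G) ≤ H :=
    le_normalizer.trans (H11.normalizer_le_normalizer_centerThompsonAOf _)
  have hWS : W ≤ (S : Subgroup G) := H11.centerThompsonAOf_le _
  have hpk : ∀ k : ℕ, p ^ k % (p - 1) = 1 % (p - 1) := fun k => by
    have h1 : p ≡ 1 [MOD p - 1] := ((Nat.modEq_iff_dvd' hpp.one_le).mpr dvd_rfl).symm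
    have h2 := h1.pow k
    rwa [one_pow] at h2
  have hpart : ∀ x : G, ∃ k : ℕ, (orderOf (x ^ p ^ k)).Coprime p := by
    intro x
    obtain ⟨k, m, hm, he⟩ := Nat.exists_eq_pow_mul_and_not_dvd (orderOf_pos x).ne' p hpp.ne_one
    refine ⟨k, ?_⟩
    rw [orderOf_pow, he, Nat.gcd_eq_right (Dvd.intro m rfl), Nat.mul_div_cancel_left _ (pow_pos hpp.pos k)]
    exact (hpp.coprime_iff_not_dvd.mpr hm).symm
  constructor
  · obtain ⟨h, T, R, hTS, ⟨x, hxH, hx⟩, -, hRT, hnR, ψ, τ, hψ, hgen, hfa, hτ⟩ := hF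
    obtain ⟨k, hk⟩ := hpart x
    have hconj : ∀ (i : ℕ) (r : G) (hr : r ∈ R), ∃ hri : x ^ i * r * (x ^ i)⁻¹ ∈ R,
        ψ ⟨_, hri⟩ = τ ^ i * ψ ⟨r, hr⟩ * (τ ^ i)⁻¹ := by
      intro i
      induction i with
      | zero => intro r hr; exact ⟨by simpa using hr, by simp⟩
      | succ i ih =>
        intro r hr
        obtain ⟨h1, h2⟩ := ih r hr
        have e : x ^ (i + 1) * r * (x ^ (i + 1))⁻¹ = h * (x ^ i * r * (x ^ i)⁻¹) * h⁻¹ := by
          rw [hx _ (hRT h1), pow_succ']; group
        refine ⟨e ▸ hnR _ h1, ?_⟩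
        rw [show (⟨_, e ▸ hnR _ h1⟩ : R) = ⟨_, hnR _ h1⟩ from Subtype.ext e, hψ _ h1, h2, pow_succ']
        group
    have hτk : τ ^ p ^ k = τ := by
      rw [← pow_mod_orderOf]
      conv_rhs => rw [← pow_one τ, ← pow_mod_orderOf]
      congr 1
      exact Nat.ModEq.of_dvd (orderOf_dvd_of_pow_eq_one hτ) (hpk k)
    set g := x ^ p ^ k with hg
    have hgH : g ∈ H := pow_mem hxH _
    have hRS : R ≤ (S : Subgroup G) := hRT.trans hTS
    let e := subgroupOfEquivOfLe (hRS.trans hSH)
    refine involves_of_graph (p := p) (R.subgroupOf H)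
      ((S.isPGroup'.to_le hRS).comap_of_injective H.subtype H.subtype_injective)
      (ψ.comp e.toMonoidHom) ⟨g, hgH⟩ (by rw [orderOf_mk]; exact hk) ?_ τ ?_ ?_ ?_
    · intro r hr
      rw [mem_subgroupOf] at hr ⊢
      exact (hconj (p ^ k) _ hr).1
    · intro r hr
      rw [mem_subgroupOf] at hr
      obtain ⟨h1, h2⟩ := hconj (p ^ k) _ hr
      rw [hτk] at h2
      exact h2
    · rw [MonoidHom.range_comp, MonoidHom.range_eq_top.mpr e.surjective, ← MonoidHom.range_eq_map]
      exact hgen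
    · exact fun j hj => hfa j fun r => by
        obtain ⟨r', rfl⟩ := e.surjective r
        exact hj r'
  · obtain ⟨h, T, N₀, hTS, ⟨x, hxH, hx⟩, hhT, hzT, hN₀T, hhN, u, hu, huN, hup, hub⟩ := hC
    have hW' : IsMulCommutative W := isMulCommutative_centerThompsonAOf _
    have horb : ∀ i : ℕ, h ^ i * z * (h ^ i)⁻¹ ∈ T ∧ h ^ i * z * (h ^ i)⁻¹ ∈ W := by
      intro i
      induction i with
      | zero => simpa using ⟨hzT, hz⟩
      | succ i ih =>
        rw [show h ^ (i + 1) * z * (h ^ (i + 1))⁻¹ = h * (h ^ i * z * (h ^ i)⁻¹) * h⁻¹ by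
          rw [pow_succ']; group]
        refine ⟨(mem_normalizer_iff.mp hhT _).mp ih.1, ?_⟩
        rw [hx _ ih.1]
        exact (mem_normalizer_iff.mp hxH _).mp ih.2
    have huTW : u ∈ T ⊓ W :=
      (closure_le (T ⊓ W)).mpr (by rintro _ ⟨i, rfl⟩; exact horb i) hu
    letI : CommGroup W := { (inferInstance : Group W) with mul_comm := hW'.is_comm.comm }
    let g₀ : Additive W →+ Additive W :=
      MonoidHom.toAdditive (W.normalizerMonoidHom ⟨x, hxH⟩).toMonoidHom
    obtain ⟨k, hk⟩ := hpart x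
    set y := x ^ p ^ k with hy
    have hyH : y ∈ H := pow_mem hxH _
    let f : Additive W →+ Additive W :=
      MonoidHom.toAdditive (W.normalizerMonoidHom ⟨y, hyH⟩).toMonoidHom
    have hg₀ : ∀ w, ((g₀ w).toMul : G) = x * w.toMul * x⁻¹ := fun w => rfl
    have hf : ∀ w, ((f w).toMul : G) = y * w.toMul * y⁻¹ := fun w => rfl
    have hit : ∀ (i : ℕ) (w), (((g₀^[i]) w).toMul : G) = x ^ i * w.toMul * (x ^ i)⁻¹ := by
      intro i
      induction i with
      | zero => intro w; simp
      | succ i ih => intro w; rw [Function.iterate_succ_apply', hg₀, ih, pow_succ']; group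
    have hfg : ∀ w, f w = (g₀^[p ^ k]) w := fun w => Additive.toMul.injective (Subtype.ext (by
      rw [hf, hit]))
    let K : AddSubgroup (Additive W) := (N₀.subgroupOf W).toAddSubgroup
    have hmemK : ∀ w, w ∈ K ↔ (w.toMul : G) ∈ N₀ := fun _ => Iff.rfl
    have hK₀ : ∀ w ∈ K, g₀ w ∈ K := by
      intro w hw
      rw [hmemK] at hw ⊢
      rw [hg₀, ← hx _ (hN₀T hw)]
      exact (mem_normalizer_iff.mp hhN _).mp hw
    have hKi : ∀ i, ∀ w ∈ K, (g₀^[i]) w ∈ K := by
      intro i
      induction i with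
      | zero => exact fun w hw => hw
      | succ i ih => intro w hw; rw [Function.iterate_succ_apply']; exact hK₀ _ (ih w hw)
    set b := (a : ZMod p).val with hb
    set uu : Additive W := Additive.ofMul ⟨u, huTW.2⟩ with huu
    have hpu : p • uu ∈ K := by
      rw [hmemK, toMul_nsmul, SubgroupClass.coe_pow]
      exact hup
    have hb1 : g₀ uu - b • uu ∈ K := by
      rw [hmemK, toMul_sub, toMul_nsmul, div_eq_mul_inv, coe_mul, coe_inv, SubgroupClass.coe_pow, hg₀]
      show x * u * x⁻¹ * (u ^ b)⁻¹ ∈ N₀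
      rw [← hx u huTW.1]
      exact hub
    have hbi : ∀ i : ℕ, (g₀^[i]) uu - b ^ i • uu ∈ K := by
      intro i
      induction i with
      | zero => simp
      | succ i ih =>
        have h1 : g₀ ((g₀^[i]) uu) - b ^ (i + 1) • uu =
            g₀ ((g₀^[i]) uu - b ^ i • uu) + b ^ i • (g₀ uu - b • uu) := by
          rw [map_sub, map_nsmul, nsmul_sub, ← mul_nsmul', ← pow_succ]; abel
        rw [Function.iterate_succ_apply', h1]
        exact K.add_mem (hK₀ _ ih) (K.nsmul_mem hb1 _)
    have hbp : b ^ p ^ k ≡ b [MOD p] := by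
      rw [← ZMod.natCast_eq_natCast_iff, Nat.cast_pow, hb, ZMod.natCast_zmod_val]
      exact (congrArg Units.val (show a ^ p ^ k = a by
        rw [← pow_mod_orderOf, ha, hpk k, ← ha, pow_mod_orderOf, pow_one]) : _)
    have hbK : f uu - b • uu ∈ K := by
      obtain ⟨q, hq⟩ := Nat.modEq_iff_dvd.mp hbp
      have h1 : b • uu = b ^ p ^ k • uu + q • (p • uu) := by
        rw [← natCast_zsmul uu b, ← natCast_zsmul uu (b ^ p ^ k), ← natCast_zsmul uu p, ← mul_zsmul',
          ← add_zsmul]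
        congr 1
        linarith
      rw [h1, hfg, ← sub_sub]
      exact K.sub_mem (hbi _) (K.zsmul_mem hpu _)
    obtain ⟨K₁, hK₁⟩ := IsPGroup.iff_card.mp (S.isPGroup'.to_le hWS)
    have hA : ∀ w : Additive W, p ^ K₁ • w = 0 := fun w => by
      rw [← hK₁]
      exact Additive.toMul.injective (by rw [toMul_nsmul, toMul_zero, pow_card_eq_one'])
    have hn : ((p - 1) * orderOf y).Coprime p := by
      refine Nat.Coprime.mul_left ?_ hk
      refine (hpp.coprime_iff_not_dvd.mpr fun hd => ?_).symm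
      have h2 := hpp.two_le
      have := Nat.le_of_dvd (by omega) hd
      omega
    have hfit : ∀ (i : ℕ) (w), (((f^[i]) w).toMul : G) = y ^ i * w.toMul * (y ^ i)⁻¹ := by
      intro i
      induction i with
      | zero => intro w; simp
      | succ i ih => intro w; rw [Function.iterate_succ_apply', hf, ih, pow_succ']; group
    obtain ⟨b', hb', e, -, hfe, heK⟩ := exists_eigen (k := K₁) hA f hn (fun w =>
      Additive.toMul.injective (Subtype.ext (by
        rw [hfit, mul_comm (p - 1), pow_mul, pow_orderOf_eq_one, one_pow]; group)))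
      (a := b) (by
        rw [← ZMod.natCast_eq_natCast_iff, Nat.cast_pow, hb, ZMod.natCast_zmod_val, Nat.cast_one,
          pow_mul, ← Units.val_pow_eq_pow_val, ← ha, pow_orderOf_eq_one]
        simp)
      (x := uu) (K := K) (fun w hw => hfg w ▸ hKi _ w hw) huN hpu hbK
    set e₀ : G := (e.toMul : G) with he₀
    have he1 : e₀ ≠ 1 := fun h1 => heK (by rw [hmemK, ← he₀, h1]; exact one_mem _)
    have hdvd : p ∣ orderOf e₀ := by
      obtain ⟨i, hi⟩ := IsPGroup.iff_orderOf.mp S.isPGroup' ⟨e₀, hWS e.toMul.2⟩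
      rw [orderOf_mk] at hi
      rw [hi]
      refine dvd_pow_self p fun h0 => he1 (orderOf_eq_one_iff.mp (by rw [hi, h0, pow_zero]))
    refine ⟨e₀ ^ (orderOf e₀ / p), pow_mem e.toMul.2 _, orderOf_pow_orderOf_div (orderOf_pos e₀).ne' hdvd,
      y, hyH, ?_⟩
    have h1 : y * e₀ * y⁻¹ = e₀ ^ b' := by
      rw [he₀, ← hf, hfe, toMul_nsmul, SubgroupClass.coe_pow]
    have hc := orderOf_pow_orderOf_div (orderOf_pos e₀).ne' hdvd
    rw [← conj_pow, h1, ← pow_mul, mul_comm, pow_mul]
    exact pow_eq_pow_iff_modEq.mpr (by rw [hc]; exact hb')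

/-- The configurations pass up from a subgroup containing `S`. -/
theorem concl_of_subgroup {G : Type u} [Group G] [Finite G] {S : Sylow p G} {b : ℕ} {M : Subgroup G}
    (hSM : (S : Subgroup G) ≤ M) (h : Concl p b (((S : Subgroup G).subgroupOf M))) :
    Concl p b (S : Subgroup G) := by
  obtain ⟨hI, c, hc, hco, x, hx, hxc⟩ := h
  have hmap := centerThompsonAOf_subgroupOf hSM
  have hle : ∀ y, y ∈ normalizer (Cfsg.centerThompsonAOf ((S : Subgroup G).subgroupOf M) : Set M) →
      (y : G) ∈ normalizer (Cfsg.centerThompsonAOf (S : Subgroup G) : Set G) := fun y hy =>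
    hmap ▸ le_normalizer_map M.subtype ⟨y, hy, rfl⟩
  let ι : ↥(normalizer (Cfsg.centerThompsonAOf ((S : Subgroup G).subgroupOf M) : Set M)) →*
      ↥(normalizer (Cfsg.centerThompsonAOf (S : Subgroup G) : Set G)) :=
    (M.subtype.comp (Subgroup.subtype _)).codRestrict _ fun y => hle y y.2
  refine ⟨H6.Involves.of_injective ι (fun y y' e => Subtype.ext (M.subtype_injective (congrArg Subtype.val e :))) hI,
    c, hmap ▸ ⟨c, hc, rfl⟩, (orderOf_coe c).trans hco, x, hle x hx, ?_⟩
  simpa using congrArg Subtype.val hxc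

/-- The configurations pass up from a quotient by a normal `p'`-subgroup. -/
theorem concl_of_quot {G : Type u} [Group G] [Finite G] {S : Sylow p G} {b : ℕ} {K : Subgroup G}
    [K.Normal] (hK : (Nat.card K).Coprime p)
    (h : Concl p b ((S : Subgroup G).map (QuotientGroup.mk' K))) : Concl p b (S : Subgroup G) := by
  set π := QuotientGroup.mk' K with hπdef
  have hπ : Function.Surjective π := QuotientGroup.mk'_surjective K
  have hinj : ∀ x ∈ (S : Subgroup G), π x = 1 → x = 1 := fun x hx h =>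
    H79.inf_eq_one_of_coprime hK S.isPGroup' ((QuotientGroup.eq_one_iff x).mp h) hx
  set W := Cfsg.centerThompsonAOf (S : Subgroup G) with hW
  have hWS : W ≤ (S : Subgroup G) := H11.centerThompsonAOf_le _
  have hmap : W.map π = Cfsg.centerThompsonAOf ((S : Subgroup G).map π) :=
    H11.map_centerThompsonAOf π _ hinj
  obtain ⟨hI, c, hc, hco, x, hx, hxc⟩ := h
  rw [← hmap, ← H11.map_normalizer_eq π hπ (by rw [QuotientGroup.ker_mk']; exact hK) W
    (S.isPGroup'.to_le hWS)] at hI hx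
  rw [← hmap] at hc
  obtain ⟨x, hxW, rfl⟩ := hx
  obtain ⟨c, hcW, rfl⟩ := hc
  constructor
  · exact H6.Involves.of_surjective (H := (⊤ : Subgroup ↥(normalizer (W : Set G))))
      ((π.subgroupMap _).comp (Subgroup.subtype _)) (fun q => by
        obtain ⟨y, hy⟩ := π.subgroupMap_surjective _ q
        exact ⟨⟨y, mem_top y⟩, hy⟩) hI
  · refine ⟨c, hcW, ?_, x, hxW, ?_⟩
    · refine orderOf_eq_prime (hinj _ (pow_mem (hWS hcW) p) ?_) fun h1 => ?_
      · rw [map_pow, ← hco, pow_orderOf_eq_one]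
      · rw [h1, map_one, orderOf_one] at hco
        exact (Fact.out : p.Prime).ne_one hco.symm
    · refine H79.eq_of_injOn hinj ?_ (pow_mem (hWS hcW) _) (by rw [map_mul, map_mul, map_inv, map_pow, hxc])
      exact hWS ((mem_normalizer_iff.mp hxW c).mp hcW)

/-- Moves lift from the quotient by a normal `p'`-subgroup. -/
theorem nmoves_of_quot {G : Type u} [Group G] [Finite G] (S : Sylow p G) {K : Subgroup G}
    [K.Normal] (hK : (Nat.card K).Coprime p)
    (h : NMoves (fun U g => H79.Induced (Cfsg.centerThompsonAOf ((S : Subgroup G).map (QuotientGroup.mk' K))) U g)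
      ((S : Subgroup G).map (QuotientGroup.mk' K)) ⊤) :
    NMoves (fun U g => H79.Induced (Cfsg.centerThompsonAOf (S : Subgroup G)) U g) (S : Subgroup G) ⊤ := by
  intro U hU n _ hn'
  have hn := cj_le_iff.mp hn'
  set π := QuotientGroup.mk' K with hπdef
  have hπ : Function.Surjective π := QuotientGroup.mk'_surjective K
  have hinj : ∀ x ∈ (S : Subgroup G), π x = 1 → x = 1 := fun x hx h =>
    H79.inf_eq_one_of_coprime hK S.isPGroup' ((QuotientGroup.eq_one_iff x).mp h) hx
  set W := Cfsg.centerThompsonAOf (S : Subgroup G) with hW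
  have hWS : W ≤ (S : Subgroup G) := H11.centerThompsonAOf_le _
  have hSW : (S : Subgroup G) ≤ normalizer (W : Set G) :=
    le_normalizer.trans (H11.normalizer_le_normalizer_centerThompsonAOf _)
  obtain ⟨mq, hmq, hmq'⟩ := h (U.map π) (map_mono hU) (π n) (mem_top _) (by
      rw [← map_cj]; exact map_mono hn')
  rw [← H11.map_centerThompsonAOf π _ hinj, ← H11.map_normalizer_eq π hπ
    (by rw [QuotientGroup.ker_mk']; exact hK) W (S.isPGroup'.to_le hWS)] at hmq
  obtain ⟨m, hm, rfl⟩ := hmq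
  set k := m⁻¹ * n with hk
  have hfix : ∀ u ∈ U, π (k * u * k⁻¹) = π u := by
    intro u hu
    have h := hmq' (π u) ⟨u, hu, rfl⟩
    calc π (k * u * k⁻¹) = (π m)⁻¹ * (π n * π u * (π n)⁻¹) * π m := by
          simp only [hk, map_mul, map_inv, mul_inv_rev, inv_inv, mul_assoc]
      _ = π u := by rw [h]; group
  set U' := U.map (MulAut.conj k).toMonoidHom with hU'
  set K₀ := K ⊓ normalizer (W : Set G) with hK₀
  have hU'N : ∀ u ∈ U, k * u * k⁻¹ ∈ normalizer (W : Set G) := by
    intro u hu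
    have e : k * u * k⁻¹ = m⁻¹ * (n * u * n⁻¹) * m := by rw [hk]; group
    rw [e]
    exact mul_mem (mul_mem (inv_mem hm) (hSW (hn u hu))) hm
  have hUN : U ≤ normalizer (W : Set G) := hU.trans hSW
  have hUp : IsPGroup p U := S.isPGroup'.to_le hU
  have hdiff : ∀ u ∈ U, k * u * k⁻¹ * u⁻¹ ∈ K₀ := fun u hu => ⟨by
    rw [← QuotientGroup.ker_mk' K]
    show π (k * u * k⁻¹ * u⁻¹) = 1
    rw [map_mul, hfix u hu, map_inv, mul_inv_cancel],
    (normalizer (W : Set G)).mul_mem (hU'N u hu) ((normalizer (W : Set G)).inv_mem (hUN hu))⟩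
  have hU'le : U' ≤ K₀ ⊔ U := by
    rintro _ ⟨u, hu, rfl⟩
    show k * u * k⁻¹ ∈ _
    rw [show k * u * k⁻¹ = (k * u * k⁻¹ * u⁻¹) * u by rw [inv_mul_cancel_right]]
    exact mul_mem (mem_sup_left (hdiff u hu)) (mem_sup_right hu)
  have hUK₀ : U ≤ normalizer (K₀ : Set G) :=
    (le_inf (le_normalizer_of_normal (H := K)) (hUN.trans le_normalizer)).trans
      inf_normalizer_le_normalizer_inf
  obtain ⟨c, hc⟩ := IsPGroup.iff_card.mp hUp
  obtain ⟨e, he, heU⟩ := H1.exists_conj_eq_of_coprime (D := K₀) (H := U) (K := U') hUK₀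
    (hc ▸ (hK.coprime_dvd_left (card_dvd_of_le inf_le_left)).pow_right c)
    (Or.inr (H79.isSolvable_pGroup hUp)) hU'le (card_map_of_injective (MulAut.conj k).injective)
  refine ⟨m * e, mul_mem hm he.2, fun u hu => ?_⟩
  have h1 : e * u * e⁻¹ ∈ U' := heU ▸ ⟨u, hu, rfl⟩
  obtain ⟨v, hv, hve⟩ := h1
  replace hve : k * v * k⁻¹ = e * u * e⁻¹ := hve
  have he1 : π e = 1 := (QuotientGroup.eq_one_iff e).mpr he.1
  have hπuv : π v = π u := by
    rw [← hfix v hv, hve, map_mul, map_mul, map_inv, he1]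
    group
  have hvu : v = u := by
    refine mul_inv_eq_one.mp (H79.inf_eq_one_of_coprime hK hUp ?_ (mul_mem hv (inv_mem hu)))
    rw [← QuotientGroup.eq_one_iff]
    show π _ = 1
    rw [map_mul, map_inv, hπuv, mul_inv_cancel]
  rw [hvu] at hve
  calc n * u * n⁻¹ = m * (k * u * k⁻¹) * m⁻¹ := by rw [hk]; group
    _ = m * (e * u * e⁻¹) * m⁻¹ := by rw [hve]
    _ = (m * e) * u * (m * e)⁻¹ := by group

/-- A step in a `p`-group between two normalized subgroups. -/
theorem exists_step {G : Type u} [Group G] [Finite G] {S V Z : Subgroup G} (hS : IsPGroup p S)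
    (hV : V ≤ S) (hSV : S ≤ normalizer (V : Set G)) (hSZ : S ≤ normalizer (Z : Set G)) (h : ¬ V ≤ Z) :
    ∃ u ∈ V, u ∉ Z ∧ u ^ p ∈ Z ∧ ∀ s ∈ S, s * u * s⁻¹ * u⁻¹ ∈ Z := by
  haveI : (V.subgroupOf S).Normal := normal_subgroupOf_of_le_normalizer hSV
  haveI : (Z.subgroupOf S).Normal := normal_subgroupOf_of_le_normalizer hSZ
  obtain ⟨u, hu, huZ, hup, huc⟩ := H83.exists_central_step hS (E := Z.subgroupOf S)
    (W := V.subgroupOf S) fun hle => h fun x hx => hle (x := ⟨x, hV hx⟩) hx
  refine ⟨u, hu, huZ, ?_, fun s hs => ?_⟩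
  · simpa [mem_subgroupOf] using hup
  · simpa [mem_subgroupOf] using huc ⟨s, hs⟩

/-- A constrained core with trivial `p'`-core is self-centralizing. -/
theorem centralizer_pCore_le_of_inf_le {G : Type u} [Group G] [Finite G] (S : Sylow p G)
    (hO : Cfsg.pPrimeCore p G = ⊥)
    (h : (S : Subgroup G) ⊓ centralizer (Cfsg.pCore p G : Set G) ≤ Cfsg.pCore p G) :
    centralizer (Cfsg.pCore p G : Set G) ≤ Cfsg.pCore p G := by
  haveI := H1.pCore_normal' p G
  set Q := Cfsg.pCore p G
  set C := centralizer (Q : Set G) with hC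
  haveI hCn : C.Normal := normal_centralizer
  obtain ⟨P⟩ := (inferInstance : Nonempty (Sylow p C))
  obtain ⟨g, hg⟩ : ∃ g : G, ∀ v ∈ (P : Subgroup C), g * (v : G) * g⁻¹ ∈ (S : Subgroup G) := by
    obtain ⟨S', hS'⟩ := (P.isPGroup'.map C.subtype).exists_le_sylow
    obtain ⟨g, hg⟩ := MulAction.exists_smul_eq G S' S
    exact ⟨g, fun v hv => by rw [← hg]; exact ⟨_, hS' ⟨v, hv, rfl⟩, rfl⟩⟩
  have hPQ : ∀ v ∈ (P : Subgroup C), (v : G) ∈ Q := fun v hv => by
    have h1 := h ⟨hg v hv, hCn.conj_mem _ v.2 g⟩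
    have h2 := Subgroup.Normal.conj_mem (H := Q) inferInstance _ h1 g⁻¹
    simpa [mul_assoc] using h2
  have hPc : normalizer ((P : Subgroup C) : Set C) ≤ centralizer ((P : Subgroup C) : Set C) := fun c _ =>
    mem_centralizer_iff.mpr fun v hv => Subtype.ext (mem_centralizer_iff.mp c.2 (v : G) (hPQ v hv))
  set f := MonoidHom.transferSylow P hPc with hf
  have hcop : (Nat.card f.ker).Coprime p := by
    have h1 : f.ker.IsComplement' (P : Subgroup C) := MonoidHom.ker_transferSylow_isComplement' P hPc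
    refine ((Fact.out : p.Prime).coprime_iff_not_dvd.mpr ?_).symm
    rw [← h1.index_eq_card]
    exact P.not_dvd_index
  have hkerN : (f.ker.map C.subtype).Normal := Subgroup.Normal.mk fun x hx g => by
    obtain ⟨v, hv, rfl⟩ := hx
    refine ⟨⟨g * v * g⁻¹, hCn.conj_mem _ v.2 g⟩, ?_, rfl⟩
    obtain ⟨i, hi⟩ := P.isPGroup' (f ⟨g * v * g⁻¹, hCn.conj_mem _ v.2 g⟩)
    refine orderOf_eq_one_iff.mp (Nat.eq_one_of_dvd_coprimes (hcop.pow_right i) ?_
      (orderOf_dvd_of_pow_eq_one hi))
    refine (orderOf_map_dvd f _).trans ?_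
    rw [← orderOf_coe (⟨g * v * g⁻¹, hCn.conj_mem _ v.2 g⟩ : C)]
    show orderOf (MulAut.conj g (v : G)) ∣ _
    rw [MulEquiv.orderOf_eq, orderOf_coe, ← orderOf_mk v hv]
    exact orderOf_dvd_natCard (⟨v, hv⟩ : f.ker)
  have hbot : f.ker.map C.subtype = ⊥ := le_bot_iff.mp (hO ▸ @H1.le_pPrimeCore G _ p _ hkerN (by
    rw [card_map_of_injective C.subtype_injective]; exact hcop))
  rw [map_eq_bot_iff_of_injective _ C.subtype_injective] at hbot
  intro c hc
  obtain ⟨i, hi⟩ := P.isPGroup' (f ⟨c, hc⟩)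
  have htop : (P : Subgroup C) = ⊤ := by
    have h1 : f.ker.IsComplement' (P : Subgroup C) := MonoidHom.ker_transferSylow_isComplement' P hPc
    rw [hbot] at h1
    exact isComplement'_bot_left.mp h1
  exact hPQ ⟨c, hc⟩ (htop ▸ mem_top _)

theorem main (hp : p ≠ 2) {a : (ZMod p)ˣ} (ha : orderOf a = p - 1) :
    ∀ (n : ℕ) (G : Type u) [Group G] [Finite G], Nat.card G ≤ n → ∀ S : Sylow p G,
      NMoves (fun U g => H79.Induced (Cfsg.centerThompsonAOf (S : Subgroup G)) U g) (S : Subgroup G) ⊤ ∨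
        Concl p (a : ZMod p).val (S : Subgroup G) := by
  intro n
  induction n with
  | zero => intro G _ _ h; exact absurd (Nat.card_pos (α := G)) (by omega)
  | succ n ih =>
  intro G _ _ hn S
  classical
  by_contra hno
  push Not at hno
  obtain ⟨hnT, hnC⟩ := hno
  have hpp : p.Prime := Fact.out
  set W := Cfsg.centerThompsonAOf (S : Subgroup G) with hWdef
  set E := (fun U g => H79.Induced W U g : Subgroup G → G → Prop) with hEdef
  have hE : IsRel E := isRel_induced W
  have hWS : W ≤ (S : Subgroup G) := H11.centerThompsonAOf_le _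
  have hSW : (S : Subgroup G) ≤ normalizer (W : Set G) :=
    le_normalizer.trans (H11.normalizer_le_normalizer_centerThompsonAOf _)
  have hP : PCen p E (S : Subgroup G) := pcen_induced S.isPGroup' hSW
  have hH : NMoves E (S : Subgroup G) (normalizer (W : Set G)) := nmoves_induced _ W
  have hover : ∀ M : Subgroup G, M ≠ ⊤ → (S : Subgroup G) ≤ M → NMoves E (S : Subgroup G) M := by
    intro M hM hSM
    have hlt : Nat.card M < Nat.card G :=
      lt_of_le_of_ne (card_le_card_group M) fun e => hM (eq_top_of_card_eq M e)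
    rcases ih M (by omega) (S.subtype hSM) with h | h
    · rw [Sylow.coe_subtype] at h
      refine nmoves_of_subgroup hSM fun U hU g hg hgU => ?_
      obtain ⟨x, hx, hxu⟩ := h U hU g hg hgU
      refine ⟨(x : G), ?_, ?_⟩
      · have h1 := le_normalizer_map M.subtype ⟨x, hx, rfl⟩
        rwa [centerThompsonAOf_subgroupOf hSM] at h1
      · rintro _ ⟨u, hu, rfl⟩
        exact congrArg Subtype.val (hxu u hu)
    · rw [Sylow.coe_subtype] at h
      exact absurd (concl_of_subgroup hSM h) hnC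
  have hthm : ∀ (S' : Sylow p G) (z : G), z ∈ (S' : Subgroup G) → S' = S → z ^ p = 1 →
      (S : Subgroup G) ≤ centralizer {z} → z ∈ W → centralizer {z} ≠ ⊤ → False := by
    intro S' z hz hS' hzp hzc hzW hne
    subst hS'
    rcases thm hp ha (Nat.card G) G le_rfl S' E z hE hP hz hzp hzc hH (hover _ hne hzc) with h | ⟨h1, h2⟩
    · exact hnT h
    · exact hnC (conclude hp S' ha hzW h1 h2)
  by_cases hO : Cfsg.pPrimeCore p G ≠ ⊥
  · haveI := H1.pPrimeCore_normal' p G
    have hK := H1.card_pPrimeCore_coprime p G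
    set π := QuotientGroup.mk' (Cfsg.pPrimeCore p G) with hπdef
    have hπ : Function.Surjective π := QuotientGroup.mk'_surjective _
    have hlt : Nat.card (G ⧸ Cfsg.pPrimeCore p G) ≤ n := by
      have h1 := card_eq_card_quotient_mul_card_subgroup (Cfsg.pPrimeCore p G)
      have h2 : 1 < Nat.card (Cfsg.pPrimeCore p G) := (Cfsg.pPrimeCore p G).one_lt_card_iff_ne_bot.mpr hO
      have h3 : 0 < Nat.card (G ⧸ Cfsg.pPrimeCore p G) := Nat.card_pos
      nlinarith
    rcases ih _ hlt (S.mapSurjective hπ) with h | h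
    · rw [Sylow.coe_mapSurjective] at h
      exact hnT (nmoves_of_quot S hK h)
    · rw [Sylow.coe_mapSurjective] at h
      exact hnC (concl_of_quot hK h)
  push Not at hO
  haveI hQn : (Cfsg.pCore p G).Normal := H1.pCore_normal' p G
  set Q := Cfsg.pCore p G with hQdef
  have hQS : Q ≤ (S : Subgroup G) := H1.pCore_le_sylow S
  by_cases hQ1 : Q = ⊥
  · by_cases hS1 : (S : Subgroup G) = ⊥
    · refine hnT fun U hU g _ _ => ⟨1, one_mem _, fun u hu => ?_⟩
      obtain rfl : u = 1 := mem_bot.mp (hS1 ▸ hU hu)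
      group
    obtain ⟨z, hz, hzp, hzc⟩ := H76.exists_central_orderOf_eq S.isPGroup' hS1
    have hzc' : (S : Subgroup G) ≤ centralizer {z} := fun s hs => mem_centralizer_singleton_iff.mpr (hzc s hs)
    refine hthm S z hz rfl (hzp ▸ pow_orderOf_eq_one z) hzc' (mem_centerThompsonAOf_of_central hz hzc') fun e => ?_
    have hcen : z ∈ center G := mem_center_iff.mpr fun g => mem_centralizer_singleton_iff.mp (e ▸ mem_top g)
    haveI : (zpowers z).Normal := Subgroup.Normal.mk fun x hx g => by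
      have hxc : x ∈ center G := zpowers_le.mpr hcen hx
      rwa [mem_center_iff.mp hxc g, mul_inv_cancel_right]
    have h1 : z ∈ Q := H1.le_pCore (S.isPGroup'.to_le (zpowers_le.mpr hz)) (mem_zpowers z)
    rw [hQ1, mem_bot] at h1
    rw [h1, orderOf_one] at hzp
    exact hpp.ne_one hzp.symm
  haveI : (centralizer (Q : Set G)).Normal := normal_centralizer
  by_cases hCS : centralizer (Q : Set G) ⊔ (S : Subgroup G) = ⊤
  · by_cases hWQ : W ≤ Q
    · refine hnT (fun U hU g hg hgU => hH U hU g ?_ hgU)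
      refine (show (⊤ : Subgroup G) ≤ normalizer (W : Set G) from hCS ▸ sup_le ?_ hSW) hg
      exact fun c hc => Subgroup.mem_normalizer_fintype fun w hw => by
        rwa [← mem_centralizer_iff.mp hc w (hWQ hw), mul_inv_cancel_right]
    obtain ⟨z, hzW, hzQ, hzp, hzS⟩ := exists_step S.isPGroup' hWS hSW le_normalizer_of_normal hWQ
    rcases quot_case S (b := (a : ZMod p).val) (fun N _ _ => thm hp ha _ (G ⧸ N) le_rfl) hE hP hCS hQ1
      hover (hWS hzW) hzQ hzp hzS with h | ⟨h1, h2⟩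
    · exact hnT h
    · exact hnC (conclude hp S ha hzW h1 h2)
  by_cases hQC : (S : Subgroup G) ⊓ centralizer (Q : Set G) ≤ Q
  swap
  · refine hnT (nmoves_split hE S (centralizer (Q : Set G)) (hover _ hCS le_sup_right) (hover _ ?_
      ((le_inf le_normalizer le_normalizer_of_normal).trans inf_normalizer_le_normalizer_inf)))
    intro e
    haveI : ((S : Subgroup G) ⊓ centralizer (Q : Set G)).Normal := normalizer_eq_top_iff.mp e
    exact hQC (H1.le_pCore (S.isPGroup'.to_le inf_le_left))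
  have hCQ := centralizer_pCore_le_of_inf_le S hO hQC
  set Z₀ := W.normalCore with hZ₀
  have hZW : Z₀ ≤ W := normalCore_le W
  have hZQ : Z₀ ≤ Q := H1.le_pCore (S.isPGroup'.to_le (hZW.trans hWS))
  have hWnot : ¬ W ≤ Z₀ := fun h => hnT (fun U hU g _ hgU => hH U hU g (by
    haveI : W.Normal := le_antisymm h hZW ▸ inferInstance
    rw [normalizer_eq_top]; exact mem_top g) hgU)
  have hWQ : ¬ W ⊓ Q ≤ Z₀ := by
    intro h
    let K₁ : Subgroup G :=
      { carrier := {g | (∀ q ∈ Q, g * q * g⁻¹ * q⁻¹ ∈ Z₀) ∧ ∀ c ∈ Z₀, g * c * g⁻¹ = c}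
        one_mem' := ⟨fun q _ => by simp, fun c _ => by group⟩
        mul_mem' := by
          rintro g g' ⟨h1, h2⟩ ⟨h1', h2'⟩
          refine ⟨fun q hq => ?_, fun c hc => ?_⟩
          · have e : g * g' * q * (g * g')⁻¹ * q⁻¹ =
                (g * (g' * q * g'⁻¹ * q⁻¹) * g⁻¹) * (g * q * g⁻¹ * q⁻¹) := by group
            rw [e, h2 _ (h1' q hq)]
            exact mul_mem (h1' q hq) (h1 q hq)
          · rw [show g * g' * c * (g * g')⁻¹ = g * (g' * c * g'⁻¹) * g⁻¹ by group, h2' c hc, h2 c hc]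
        inv_mem' := by
          rintro g ⟨h1, h2⟩
          have h3 : ∀ c ∈ Z₀, g⁻¹ * c * g = c := fun c hc => by
            conv_lhs => rw [← h2 c hc]
            group
          refine ⟨fun q hq => ?_, fun c hc => by rw [inv_inv]; exact h3 c hc⟩
          have h4 := h1 _ (hQn.conj_mem q hq g⁻¹)
          have e : g⁻¹ * q * g⁻¹⁻¹ * q⁻¹ = (g * (g⁻¹ * q * g⁻¹⁻¹) * g⁻¹ * (g⁻¹ * q * g⁻¹⁻¹)⁻¹)⁻¹ := by
            group
          rw [e]
          exact inv_mem h4 }
    haveI hK₁ : K₁.Normal := Subgroup.Normal.mk fun g hg x => by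
      refine ⟨fun q hq => ?_, fun c hc => ?_⟩
      · have h1 := hg.1 _ (hQn.conj_mem q hq x⁻¹)
        have h2 := Subgroup.Normal.conj_mem (H := Z₀) inferInstance _ h1 x
        convert h2 using 1
        group
      · have h1 := hg.2 _ (Subgroup.Normal.conj_mem (H := Z₀) inferInstance c hc x⁻¹)
        calc x * g * x⁻¹ * c * (x * g * x⁻¹)⁻¹ = x * (g * (x⁻¹ * c * x⁻¹⁻¹) * g⁻¹) * x⁻¹ := by group
          _ = c := by rw [h1]; group
    have hK₁p : IsPGroup p K₁ := by
      obtain ⟨e, he⟩ := IsPGroup.iff_card.mp (S.isPGroup'.to_le (hZW.trans hWS))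
      rintro ⟨g, hg1, hg2⟩
      have hgQ : g ^ p ^ e ∈ Q := by
        refine hCQ (mem_centralizer_iff.mpr fun q hq => ?_)
        set c := g * q * g⁻¹ * q⁻¹ with hc
        have hcZ : c ∈ Z₀ := hg1 q hq
        have hpow : ∀ i : ℕ, g ^ i * q * (g ^ i)⁻¹ = c ^ i * q := by
          intro i
          induction i with
          | zero => simp
          | succ i ih =>
            calc g ^ (i + 1) * q * (g ^ (i + 1))⁻¹ = g * (g ^ i * q * (g ^ i)⁻¹) * g⁻¹ := by
                  rw [pow_succ']; group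
              _ = (g * c ^ i * g⁻¹) * (g * q * g⁻¹) := by rw [ih]; group
              _ = c ^ i * (c * q) := by rw [← conj_pow, hg2 c hcZ, hc]; group
              _ = c ^ (i + 1) * q := by rw [pow_succ]; exact (mul_assoc _ _ _).symm
        have h1 := hpow (p ^ e)
        have hc1 : c ^ p ^ e = 1 := by
          rw [← he]
          exact congrArg Subtype.val (pow_card_eq_one' (G := Z₀) (x := ⟨c, hcZ⟩))
        rw [hc1, one_mul, mul_inv_eq_iff_eq_mul] at h1
        exact h1.symm
      obtain ⟨j, hj⟩ := H1.isPGroup_pCore p G ⟨_, hgQ⟩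
      exact ⟨e + j, Subtype.ext (by rw [SubmonoidClass.coe_pow, pow_add, pow_mul]; exact congrArg Subtype.val hj)⟩
    have hWK : W ≤ K₁ := fun w hw => by
      refine ⟨fun q hq => h ⟨?_, ?_⟩, fun c hc => ?_⟩
      · have h1 := (mem_normalizer_iff.mp (hSW (hQS hq)) w⁻¹).mp (inv_mem hw)
        simpa [mul_assoc] using mul_mem hw h1
      · exact Q.mul_mem (hQn.conj_mem q hq w) (Q.inv_mem hq)
      · rw [(H11.comm_of_mulCommutative (isMulCommutative_centerThompsonAOf _) hw (hZW hc)).eq,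
          mul_inv_cancel_right]
    exact hWnot ((le_inf le_rfl (hWK.trans (H1.le_pCore hK₁p))).trans h)
  obtain ⟨z, ⟨hzW, hzQ⟩, hzZ, hzp, hzS⟩ := exists_step S.isPGroup' (inf_le_left.trans hWS)
    ((le_inf hSW le_normalizer_of_normal).trans inf_normalizer_le_normalizer_inf) le_normalizer_of_normal hWQ
  have hzfix : (S : Subgroup G) ≤ centMod Z₀ z := fun s hs => mem_centMod.mpr (hzS s hs)
  have hne : centMod Z₀ z ≠ ⊤ := by
    intro e
    haveI : (Z₀ ⊔ zpowers z).Normal := Subgroup.Normal.mk fun x hx g => by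
      have hx' : x ∈ Z₀ ⊔ zpowers z := hx
      rw [mem_sup_of_normal_left] at hx'
      obtain ⟨c, hc, _, ⟨i, rfl⟩, rfl⟩ := hx'
      have h1 : g * z * g⁻¹ ∈ Z₀ ⊔ zpowers z := by
        have := mul_mem (mem_sup_left (T := zpowers z) (mem_centMod.mp (e ▸ mem_top g)))
          (mem_sup_right (mem_zpowers z))
        rwa [inv_mul_cancel_right] at this
      rw [show g * (c * z ^ i) * g⁻¹ = (g * c * g⁻¹) * (g * z * g⁻¹) ^ i by rw [conj_zpow]; group]
      exact mul_mem (mem_sup_left (Subgroup.Normal.conj_mem inferInstance c hc g)) (zpow_mem h1 i)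
    exact hzZ (normal_le_normalCore.mpr (sup_le hZW (zpowers_le.mpr hzW))
      (mem_sup_right (mem_zpowers z)))
  have c : Ctx p S E Z₀ z :=
    { rel := hE
      z_mem := hzQ
      Z_le := hZQ
      z_fix := hzfix
      z_pow := hzp
      z_W := hzW
      Z_W := hZW
      cons := hQC
      hH := hH
      hC := hover _ hne hzfix }
  rcases core hp ha (Nat.card G) G le_rfl S E Z₀ z c with h | ⟨h1, h2⟩
  · exact hnT h
  · exact hnC (conclude hp S ha hzW h1 h2)

/-- A generator of `(ZMod p)ˣ` acting on a subgroup of order `p` gives the index. -/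
theorem relIndex_of_conj_eq_pow {G : Type u} [Group G] [Finite G] {H : Subgroup G} {a : (ZMod p)ˣ}
    (ha : orderOf a = p - 1) {c : G} (hc : orderOf c = p) {x : G} (hxH : x ∈ H)
    (hx : x * c * x⁻¹ = c ^ (a : ZMod p).val) :
    (H ⊓ centralizer (zpowers c : Set G)).relIndex (H ⊓ normalizer (zpowers c : Set G)) = p - 1 := by
  have hpp : p.Prime := Fact.out
  haveI : NeZero p := ⟨hpp.ne_zero⟩
  set C := zpowers c with hCdef
  set N := H ⊓ normalizer (C : Set G) with hN
  let f : N →* MulAut C := C.normalizerMonoidHom.comp (Subgroup.inclusion inf_le_right)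
  have hf : ∀ (g : N) (v : C), ((f g v : C) : G) = g * v * (g : G)⁻¹ := fun _ _ => rfl
  have hker : f.ker = (H ⊓ centralizer (C : Set G)).subgroupOf N := by
    ext g
    rw [MonoidHom.mem_ker, mem_subgroupOf, mem_inf]
    constructor
    · intro e
      refine ⟨g.2.1, mem_centralizer_iff.mpr fun v hv => ?_⟩
      have h1 := hf g ⟨v, hv⟩
      rw [e] at h1
      exact eq_mul_inv_iff_mul_eq.mp h1
    · rintro ⟨-, hg⟩
      ext v
      rw [hf, ← mem_centralizer_iff.mp hg v v.2, mul_inv_cancel_right]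
      rfl
  have hxN : x ∈ N := ⟨hxH, mem_normalizer_iff_map_conj_eq.mpr (eq_of_le_of_card_ge (by
    rw [MonoidHom.map_zpowers]
    exact zpowers_le.mpr ⟨((a : ZMod p).val : ℤ), (zpow_natCast c _).trans hx.symm⟩)
    (card_map_of_injective (MulAut.conj x).injective).ge)⟩
  have hpow : ∀ i : ℕ, x ^ i * c * (x ^ i)⁻¹ = c ^ ((a : ZMod p).val ^ i) := by
    intro i
    induction i with
    | zero => simp
    | succ i ih =>
      calc x ^ (i + 1) * c * (x ^ (i + 1))⁻¹ = x * (x ^ i * c * (x ^ i)⁻¹) * x⁻¹ := by rw [pow_succ']; group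
        _ = (x * c * x⁻¹) ^ ((a : ZMod p).val ^ i) := by rw [ih, conj_pow]
        _ = _ := by rw [hx, ← pow_mul, pow_succ']
  have hcardC : Nat.card C = p := by rw [hCdef, Nat.card_zpowers, hc]
  have hle : Nat.card f.range ∣ p - 1 := by
    have h1 := Subgroup.card_subgroup_dvd_card f.range
    rwa [IsCyclic.card_mulAut, hcardC, Nat.totient_prime hpp] at h1
  have hge : p - 1 ∣ Nat.card f.range := by
    have hmem : f ⟨x, hxN⟩ ∈ f.range := ⟨_, rfl⟩
    have h1 : orderOf (f ⟨x, hxN⟩) ∣ Nat.card f.range := by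
      have := orderOf_dvd_natCard (⟨f ⟨x, hxN⟩, hmem⟩ : f.range)
      rwa [orderOf_mk] at this
    refine dvd_trans ?_ h1
    rw [← ha]
    refine orderOf_dvd_of_pow_eq_one (Units.ext ?_)
    set i := orderOf (f ⟨x, hxN⟩) with hi
    have h2 := hf (⟨x, hxN⟩ ^ i) ⟨c, mem_zpowers c⟩
    rw [map_pow, hi, pow_orderOf_eq_one, ← hi] at h2
    have h3 : c ^ 1 = c ^ ((a : ZMod p).val ^ i) := by
      rw [pow_one, ← hpow i]
      simpa using h2
    rw [pow_eq_pow_iff_modEq, hc, ← ZMod.natCast_eq_natCast_iff, Nat.cast_one, Nat.cast_pow,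
      ZMod.natCast_zmod_val] at h3
    rw [Units.val_pow_eq_pow_val, Units.val_one]
    exact h3.symm
  rw [relIndex, ← hker, index_ker]
  exact Nat.dvd_antisymm hle hge

end H74.Glau
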