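import Cfsg.Agent.H37.DicksonSL2
import Cfsg.Agent.H74.SL2

/-!
A subgroup of `SL₂(F)` with an upper and a lower unipotent contains an upper triangular matrix whose
diagonal is a prescribed element of the prime field.
-/

set_option autoImplicit false

namespace H74.Glau

open Matrix

variable {F : Type*} [Field F] [Fintype F] {p : ℕ} [Fact p.Prime] [CharP F p]

omit [Fintype F] in
theorem conj_uT_entries {N : Matrix.SpecialLinearGroup (Fin 2) F} {s c : F} (hs : s ≠ 0)
    (h : N * SL2.uT s = SL2.uT c * N) :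
    (N : Matrix (Fin 2) (Fin 2) F) 1 0 = 0 ∧
      (N : Matrix (Fin 2) (Fin 2) F) 0 0 * (N : Matrix (Fin 2) (Fin 2) F) 0 0 * s = c := by
  have hd := N.2
  rw [Matrix.det_fin_two] at hd
  have h' := congrArg (fun M : Matrix.SpecialLinearGroup (Fin 2) F =>
    (M : Matrix (Fin 2) (Fin 2) F)) h
  have e01 := congrFun (congrFun h' 0) 1
  have e11 := congrFun (congrFun h' 1) 1
  simp [Matrix.SpecialLinearGroup.coe_mul, SL2.coe_uT, Matrix.mul_apply, Fin.sum_univ_two] at e01 e11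
  have h10 : (N : Matrix (Fin 2) (Fin 2) F) 1 0 = 0 := e11.resolve_right hs
  refine ⟨h10, ?_⟩
  simp only [h10, mul_zero, sub_zero] at hd
  linear_combination (N : Matrix (Fin 2) (Fin 2) F) 0 0 * e01 + c * hd

/-- A `p`-subgroup containing a nontrivial upper unipotent element is upper unitriangular. -/
theorem le_upper_of_mem (S : Subgroup (Matrix.SpecialLinearGroup (Fin 2) F)) (hS : IsPGroup p S)
    {l : F} (hl : l ≠ 0) (hm : SL2.uT l ∈ S) : S ≤ SL2.upper F := by
  obtain ⟨P, hP⟩ := hS.exists_le_sylow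
  obtain ⟨g, hg⟩ := MulAction.exists_smul_eq (Matrix.SpecialLinearGroup (Fin 2) F) (SL2.upperSylow p) P
  have hPe : (P : Subgroup (Matrix.SpecialLinearGroup (Fin 2) F)) =
      (SL2.upper F).map (MulAut.conj g).toMonoidHom := by
    rw [← hg, Sylow.coe_subgroup_smul, SL2.coe_upperSylow]; rfl
  obtain ⟨u, hu, hgu⟩ := hPe ▸ hP hm
  obtain ⟨x, rfl⟩ := SL2.mem_upper.mp hu
  have h1 : g * SL2.uT x = SL2.uT l * g := by
    rw [← hgu]; show g * SL2.uT x = g * SL2.uT x * g⁻¹ * g; group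
  have hx : x ≠ 0 := by
    rintro rfl
    have h0 : SL2.uT (0 : F) = 1 := Subtype.ext (by simp [SL2.coe_uT, Matrix.one_fin_two])
    rw [h0, mul_one] at h1
    exact hl (SL2.uT_inj ((right_eq_mul.mp h1).trans h0.symm))
  have hgn := SL2.mem_normalizer_upper.mpr (conj_uT_entries hx h1).1
  refine hP.trans (hPe.le.trans ?_)
  rintro _ ⟨v, hv, rfl⟩
  exact (Subgroup.mem_normalizer_iff.mp hgn v).mp hv

/-- An element with diagonal `(b, b⁻¹)` in a subgroup with two unipotent root elements. -/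
theorem exists_diag (hp : p ≠ 2) (R : Subgroup (Matrix.SpecialLinearGroup (Fin 2) F)) {l : F}
    (hl : l ≠ 0) (hu : SL2.uT l ∈ R) (hlow : SL2.lT (1 : F) ∈ R) (b : (ZMod p)ˣ) :
    ∃ N ∈ R, (N : Matrix (Fin 2) (Fin 2) F) 1 0 = 0 ∧
      (N : Matrix (Fin 2) (Fin 2) F) 0 0 = ZMod.castHom (dvd_refl p) F (b : ZMod p) := by
  classical
  haveI : NeZero p := ⟨(Fact.out : p.Prime).ne_zero⟩
  set cF := ZMod.castHom (dvd_refl p) F with hcF
  have hcinj : Function.Injective cF := cF.injective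
  set uR : R := ⟨SL2.uT l, hu⟩
  have hzp : IsPGroup p (Subgroup.zpowers uR) := by
    refine IsPGroup.of_card_dvd_pow (n := 1) ?_
    rw [Nat.card_zpowers, pow_one]
    refine orderOf_dvd_of_pow_eq_one (Subtype.ext ?_)
    show (SL2.uT l) ^ p = 1
    have h := map_pow (SL2.uHom F) (Multiplicative.ofAdd l) p
    have hz : (Multiplicative.ofAdd l) ^ p = 1 := by
      rw [← ofAdd_nsmul, nsmul_eq_mul, CharP.cast_eq_zero, zero_mul, ofAdd_zero]
    rw [hz, map_one] at h
    exact h.symm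
  obtain ⟨S0, hS0⟩ := hzp.exists_le_sylow
  have hS0up : (S0 : Subgroup R).map R.subtype ≤ SL2.upper F :=
    le_upper_of_mem _ (S0.isPGroup'.map _) hl ⟨uR, hS0 (Subgroup.mem_zpowers uR), rfl⟩
  -- at least two Sylow subgroups
  have hsyl : 1 < Nat.card (Sylow p R) := by
    by_contra hle
    push Not at hle
    haveI := Finite.card_le_one_iff_subsingleton.1 hle
    have hwp : IsPGroup p (Subgroup.zpowers (⟨SL2.lT (1 : F), hlow⟩ : R)) := by
      refine IsPGroup.of_card_dvd_pow (n := 1) ?_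
      rw [Nat.card_zpowers, pow_one]
      refine orderOf_dvd_of_pow_eq_one (Subtype.ext ?_)
      show (SL2.lT (1 : F)) ^ p = 1
      have h := map_pow (SL2.lHom F) (Multiplicative.ofAdd (1 : F)) p
      have hz : (Multiplicative.ofAdd (1 : F)) ^ p = 1 := by
        rw [← ofAdd_nsmul, nsmul_eq_mul, CharP.cast_eq_zero, zero_mul, ofAdd_zero]
      rw [hz, map_one] at h
      exact h.symm
    obtain ⟨S1, hS1⟩ := hwp.exists_le_sylow
    rw [Subsingleton.elim S1 S0] at hS1
    have h2 := (SL2.mem_upper_iff.mp (hS0up ⟨_, hS1 (Subgroup.mem_zpowers _), rfl⟩)).2.1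
    simp [SL2.coe_lT] at h2
  obtain ⟨f, hf, hfR⟩ := H37.exists_SL2_prime_le p hp R hsyl
  let fR : Matrix.SpecialLinearGroup (Fin 2) (ZMod p) →* R :=
    f.codRestrict R fun g => hfR ⟨g, rfl⟩
  have hP1 : IsPGroup p ((SL2.upper (ZMod p)).map fR) :=
    (IsPGroup.of_card (n := 1) (by rw [SL2.card_upper, Nat.card_zmod, pow_one])).map fR
  obtain ⟨S1, hS1⟩ := hP1.exists_le_sylow
  obtain ⟨r, hr⟩ := MulAction.exists_smul_eq R S1 S0
  let g : Matrix.SpecialLinearGroup (Fin 2) (ZMod p) →* Matrix.SpecialLinearGroup (Fin 2) F :=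
    R.subtype.comp ((MulAut.conj r).toMonoidHom.comp fR)
  have hgR : ∀ x, g x ∈ R := fun x => Subtype.prop _
  have hginj : Function.Injective g := by
    intro x y hxy
    exact hf (congrArg Subtype.val ((MulAut.conj r).injective (R.subtype_injective hxy)) :)
  have hgu : ∀ c, g (SL2.uT c) ∈ SL2.upper F := fun c => hS0up ⟨MulAut.conj r (fR (SL2.uT c)),
    hr ▸ ⟨fR (SL2.uT c), hS1 ⟨_, SL2.mem_upper.mpr ⟨c, rfl⟩, rfl⟩, rfl⟩, rfl⟩
  obtain ⟨s, hs⟩ := SL2.mem_upper.mp (hgu 1)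
  have hs0 : s ≠ 0 := by
    rintro rfl
    have h0 : SL2.uT (0 : F) = 1 := Subtype.ext (by simp [SL2.coe_uT, Matrix.one_fin_two])
    rw [h0, ← map_one g] at hs
    have h2 := congrArg (fun M : Matrix.SpecialLinearGroup (Fin 2) (ZMod p) =>
      (M : Matrix (Fin 2) (Fin 2) (ZMod p)) 0 1) (hginj hs)
    simp [SL2.coe_uT] at h2
  have huT : ∀ c : ZMod p, g (SL2.uT c) = SL2.uT (cF c * s) := by
    intro c
    have hp1 : ∀ k : ℕ, g (SL2.uT (k : ZMod p)) = SL2.uT ((k : F) * s) := by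
      intro k
      induction k with
      | zero =>
        simp only [Nat.cast_zero, zero_mul]
        rw [show SL2.uT (0 : ZMod p) = 1 from Subtype.ext (by simp [SL2.coe_uT, Matrix.one_fin_two]),
          map_one, show SL2.uT (0 : F) = 1 from Subtype.ext (by simp [SL2.coe_uT, Matrix.one_fin_two])]
      | succ k ih =>
        rw [Nat.cast_succ, Nat.cast_succ, add_mul, one_mul, SL2.uT_add, map_mul, ih, ← hs,
          ← SL2.uT_add]
    have := hp1 c.val
    rwa [ZMod.natCast_zmod_val, show ((c.val : ℕ) : F) = cF c by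
      rw [hcF, ← map_natCast cF, ZMod.natCast_zmod_val]] at this
  -- images of diagonal matrices
  let t : (ZMod p)ˣ → Matrix.SpecialLinearGroup (Fin 2) (ZMod p) := fun e =>
    ⟨!![(e : ZMod p), 0; 0, ((e⁻¹ : (ZMod p)ˣ) : ZMod p)], by
      rw [Matrix.det_fin_two_of, zero_mul, sub_zero, Units.mul_inv]⟩
  have tcoe : ∀ e : (ZMod p)ˣ, (t e : Matrix (Fin 2) (Fin 2) (ZMod p)) =
      !![(e : ZMod p), 0; 0, ((e⁻¹ : (ZMod p)ˣ) : ZMod p)] := fun _ => rfl
  have tinv : ∀ e : (ZMod p)ˣ, (e : ZMod p) * (e : ZMod p) * ((e⁻¹ : (ZMod p)ˣ) : ZMod p) = e :=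
    fun e => by rw [mul_assoc, Units.mul_inv, mul_one]
  have ht : ∀ e : (ZMod p)ˣ, t e * SL2.uT 1 = SL2.uT ((e : ZMod p) * e) * t e := by
    intro e
    apply Subtype.ext
    rw [Matrix.SpecialLinearGroup.coe_mul, Matrix.SpecialLinearGroup.coe_mul, tcoe, SL2.coe_uT,
      SL2.coe_uT, Matrix.mul_fin_two, Matrix.mul_fin_two]
    simp only [mul_one, mul_zero, zero_mul, one_mul, add_zero, zero_add, tinv]
  have key : ∀ e : (ZMod p)ˣ, (g (t e) : Matrix (Fin 2) (Fin 2) F) 1 0 = 0 ∧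
      (g (t e) : Matrix (Fin 2) (Fin 2) F) 0 0 * (g (t e) : Matrix (Fin 2) (Fin 2) F) 0 0 =
        cF e * cF e := by
    intro e
    have h := congrArg g (ht e)
    rw [map_mul, map_mul, huT, huT, map_one, one_mul, map_mul] at h
    obtain ⟨h1, h2⟩ := conj_uT_entries hs0 h
    exact ⟨h1, mul_right_cancel₀ hs0 (h2.trans rfl)⟩
  obtain ⟨h1, h2⟩ := key b
  rcases mul_self_eq_mul_self_iff.mp h2 with h | h
  · exact ⟨g (t b), hgR _, h1, h⟩
  -- correct the sign by the involution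
  obtain ⟨k1, k2⟩ := key (-1)
  set J := g (t (-1)) with hJ
  have hJ2 : J * J = 1 := by
    rw [hJ, ← map_mul, show t (-1) * t (-1) = 1 from Subtype.ext (by
      rw [Matrix.SpecialLinearGroup.coe_mul, tcoe, Matrix.SpecialLinearGroup.coe_one,
        Matrix.mul_fin_two, Matrix.one_fin_two]
      simp only [inv_neg, inv_one, Units.val_neg, Units.val_one, mul_zero, zero_mul, add_zero,
        zero_add, neg_mul_neg, one_mul]), map_one]
  have hJ00 : (J : Matrix (Fin 2) (Fin 2) F) 0 0 = -1 := by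
    have e : (J : Matrix (Fin 2) (Fin 2) F) 0 0 * (J : Matrix (Fin 2) (Fin 2) F) 0 0 = 1 * 1 := by
      rw [k2]; simp
    rcases mul_self_eq_mul_self_iff.mp e with e1 | e1
    swap
    · exact e1
    exfalso
    have hd := J.2
    rw [Matrix.det_fin_two, e1, k1, one_mul, mul_zero, sub_zero] at hd
    have e01 := congrArg (fun M : Matrix.SpecialLinearGroup (Fin 2) F =>
      (M : Matrix (Fin 2) (Fin 2) F) 0 1) hJ2
    simp [Matrix.mul_apply, Fin.sum_univ_two, e1, hd] at e01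
    have h2' : (2 : F) ≠ 0 := Ring.two_ne_zero (by rw [ringChar.eq F p]; exact hp)
    have e01' : (J : Matrix (Fin 2) (Fin 2) F) 0 1 = 0 :=
      (mul_eq_zero.mp (show (2 : F) * _ = 0 by rw [two_mul]; exact e01)).resolve_left h2'
    have hJ1 : J = g 1 := by
      rw [map_one]
      apply Subtype.ext
      ext i j
      fin_cases i <;> fin_cases j <;> simp [e1, k1, hd, e01']
    have h3 := congrArg (fun M : Matrix.SpecialLinearGroup (Fin 2) (ZMod p) =>
      (M : Matrix (Fin 2) (Fin 2) (ZMod p)) 0 0) (hginj hJ1)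
    haveI : Fact (2 < p) := ⟨lt_of_le_of_ne (Fact.out : p.Prime).two_le (Ne.symm hp)⟩
    simp only [tcoe, Units.val_neg, Units.val_one, Matrix.SpecialLinearGroup.coe_one,
      Matrix.one_fin_two, Matrix.of_apply, Matrix.cons_val_zero] at h3
    exact ZMod.neg_one_ne_one h3
  refine ⟨J * g (t b), R.mul_mem (hgR _) (hgR _), ?_, ?_⟩
  · simp [Matrix.mul_apply, Fin.sum_univ_two, k1, h1]
  · simp [Matrix.mul_apply, Fin.sum_univ_two, h1, hJ00, h]

end H74.Glau
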