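import Cfsg.Agent.H1.Cores
import Cfsg.Agent.H79.FusionControl
import Cfsg.Agent.H74.SylIn

/-!
A minimal group in which a conjugate of `A` is outside the `p`-core: the maximal overgroup is unique.
-/

set_option autoImplicit false

namespace H74.Glau

open Subgroup

variable {G : Type*} [Group G] [Finite G] {p : ℕ} [Fact p.Prime]

/-- The subgroup generated by the conjugates of `A` in `X` and in `Y`. -/
def common (A X Y : Subgroup G) : Subgroup G :=
  ⨆ g ∈ {g : G | A.map (MulAut.conj g).toMonoidHom ≤ X ∧ A.map (MulAut.conj g).toMonoidHom ≤ Y},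
    A.map (MulAut.conj g).toMonoidHom

omit [Finite G] [Fact p.Prime] in
theorem common_le {A X Y : Subgroup G} : common A X Y ≤ X := iSup₂_le fun _ hg => hg.1

omit [Finite G] [Fact p.Prime] in
theorem common_comm {A X Y : Subgroup G} : common A X Y = common A Y X :=
  le_antisymm (iSup₂_le fun g hg => le_iSup₂_of_le g ⟨hg.2, hg.1⟩ le_rfl)
    (iSup₂_le fun g hg => le_iSup₂_of_le g ⟨hg.2, hg.1⟩ le_rfl)

omit [Finite G] [Fact p.Prime] in
theorem le_common {A X Y : Subgroup G} {g : G} (h1 : A.map (MulAut.conj g).toMonoidHom ≤ X)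
    (h2 : A.map (MulAut.conj g).toMonoidHom ≤ Y) : A.map (MulAut.conj g).toMonoidHom ≤ common A X Y :=
  le_iSup₂_of_le g ⟨h1, h2⟩ le_rfl

omit [Finite G] [Fact p.Prime] in
theorem map_conj_comp (A : Subgroup G) (n g : G) :
    (A.map (MulAut.conj g).toMonoidHom).map (MulAut.conj n).toMonoidHom =
      A.map (MulAut.conj (n * g)).toMonoidHom := by
  rw [map_map]
  congr 1
  ext z
  simp [mul_assoc]

theorem exists_unique_maximal {A : Subgroup G} (hAp : IsPGroup p A)
    (hA : ¬ A ≤ Cfsg.pCore p G)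
    (hmin : ∀ M : Subgroup G, M ≠ ⊤ → ∀ g : G, A.map (MulAut.conj g).toMonoidHom ≤ M →
      A.map (MulAut.conj g).toMonoidHom ≤ Cfsg.pCoreOf p M) :
    ∃ X : Subgroup G, X ≠ ⊤ ∧ A ≤ X ∧ (∀ M : Subgroup G, M ≠ ⊤ → A ≤ M → M ≤ X) ∧
      (∃ g : G, ¬ A.map (MulAut.conj g).toMonoidHom ≤ X) := by
  classical
  have hAg : ∀ g : G, ¬ A.map (MulAut.conj g).toMonoidHom ≤ Cfsg.pCore p G := by
    intro g h
    refine hA fun a ha => ?_
    have h1 := h ⟨a, ha, rfl⟩
    have := (H1.pCore_normal' p G).conj_mem _ h1 g⁻¹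
    simpa [mul_assoc] using this
  have hAtop : A ≠ ⊤ := fun e => hA (by
    haveI : A.Normal := e ▸ inferInstance
    exact H1.le_pCore hAp)
  let Mx : Subgroup G → Prop := fun X => X ≠ ⊤ ∧ ∀ M : Subgroup G, M ≠ ⊤ → X ≤ M → M = X
  have hex : ∀ M : Subgroup G, M ≠ ⊤ → ∃ X, Mx X ∧ M ≤ X := by
    intro M hM
    obtain ⟨X, ⟨hX, hMX⟩, hmax⟩ := Set.exists_max_image {X : Subgroup G | X ≠ ⊤ ∧ M ≤ X}
      (fun X => Nat.card X) (Set.toFinite _) ⟨M, hM, le_rfl⟩
    exact ⟨X, ⟨hX, fun N hN hXN => (eq_of_le_of_card_ge hXN (hmax N ⟨hN, hMX.trans hXN⟩)).symm⟩, hMX⟩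
  have hcore : ∀ X : Subgroup G, X ≠ ⊤ → ∀ Y, common A X Y ≤ Cfsg.pCoreOf p X := fun X hX Y =>
    iSup₂_le fun g hg => hmin X hX g hg.1
  have hp' : ∀ X : Subgroup G, IsPGroup p (Cfsg.pCoreOf p X) := fun X =>
    (H1.isPGroup_pCore p X).map _
  -- any two maximal subgroups with a common conjugate of `A` coincide
  suffices key : ∀ X Y, Mx X → Mx Y → ∀ g, A.map (MulAut.conj g).toMonoidHom ≤ X →
      A.map (MulAut.conj g).toMonoidHom ≤ Y → X = Y by
    obtain ⟨X, hX, hAX⟩ := hex A hAtop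
    have hid : A.map (MulAut.conj (1 : G)).toMonoidHom = A := by rw [map_one]; exact map_id A
    refine ⟨X, hX.1, hAX, fun M hM hAM => ?_, ?_⟩
    · obtain ⟨Y, hY, hMY⟩ := hex M hM
      rw [key X Y hX hY 1 (hid.le.trans hAX) (hid.le.trans (hAM.trans hMY))]
      exact hMY
    by_contra hno
    push Not at hno
    set N := common A X X
    have hN : N.Normal := by
      refine ⟨fun n hn k => ?_⟩
      have : N.map (MulAut.conj k).toMonoidHom ≤ N := by
        simp only [N, common, Subgroup.map_iSup]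
        refine iSup₂_le fun g _ => ?_
        rw [map_conj_comp]
        exact le_common (hno _) (hno _)
      exact this ⟨n, hn, rfl⟩
    exact hA (le_trans (hid.ge.trans (le_common (hno 1) (hno 1)))
      (H1.le_pCore ((hp' X).to_le (hcore X hX.1 X))))
  intro X Y hX hY g hgX hgY
  by_contra hne
  obtain ⟨⟨X, Y⟩, ⟨hX, hY, hne, g, hgX, hgY⟩, hmax⟩ := Set.exists_max_image
    {q : Subgroup G × Subgroup G | Mx q.1 ∧ Mx q.2 ∧ q.1 ≠ q.2 ∧
      ∃ g, A.map (MulAut.conj g).toMonoidHom ≤ q.1 ∧ A.map (MulAut.conj g).toMonoidHom ≤ q.2}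
    (fun q => Nat.card (common A q.1 q.2)) (Set.toFinite _) ⟨(X, Y), hX, hY, hne, g, hgX, hgY⟩
  simp only at hX hY hne hgX hgY hmax
  set D := common A X Y with hD
  have hN : normalizer (D : Set G) ≠ ⊤ := by
    intro e
    haveI : D.Normal := normalizer_eq_top_iff.mp e
    exact hAg g ((le_common hgX hgY).trans (H1.le_pCore ((hp' X).to_le (hcore X hX.1 Y))))
  obtain ⟨Z, hZ, hNZ⟩ := hex _ hN
  have hDZ : D ≤ Z := le_normalizer.trans hNZ
  suffices hZX : ∀ X Y, Mx X → X ≠ ⊤ → common A X Y = D →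
      (A.map (MulAut.conj g).toMonoidHom ≤ X) → Z = X by
    exact hne ((hZX X Y hX hX.1 rfl hgX).symm.trans (hZX Y X hY hY.1 common_comm hgY))
  intro X Y hX hXt hDXY hgX
  have hDgen : ∀ P : Subgroup G, (∀ k, A.map (MulAut.conj k).toMonoidHom ≤ X →
      A.map (MulAut.conj k).toMonoidHom ≤ Y → A.map (MulAut.conj k).toMonoidHom ≤ P) → D ≤ P :=
    fun P hP => hDXY ▸ iSup₂_le fun k hk => hP k hk.1 hk.2
  set DX := common A X X with hDX
  have hDDX : D ≤ DX := hDgen _ fun k h1 _ => le_common h1 h1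
  have hXN : X ≤ normalizer (DX : Set G) := by
    refine H79.le_normalizer_of_conj_mem fun k hk d hd => ?_
    have : DX.map (MulAut.conj k).toMonoidHom ≤ DX := by
      simp only [DX, common, Subgroup.map_iSup]
      refine iSup₂_le fun j hj => ?_
      rw [map_conj_comp]
      have hkj : A.map (MulAut.conj (k * j)).toMonoidHom ≤ X := by
        rw [← map_conj_comp]
        rintro _ ⟨z, hz, rfl⟩
        exact X.mul_mem (X.mul_mem hk (hj.1 hz)) (X.inv_mem hk)
      exact le_common hkj hkj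
    exact this ⟨d, hd, rfl⟩
  by_cases hDD : DX = D
  · exact hX.2 Z hZ.1 ((hDD ▸ hXN).trans hNZ)
  by_contra hZX
  -- a conjugate of `A` in `X` normalizing `D`, outside `D`
  have hDXp : IsPGroup p DX := (hp' X).to_le (hcore X hXt X)
  obtain ⟨j, hjX, hjN, hjD⟩ : ∃ j, A.map (MulAut.conj j).toMonoidHom ≤ X ∧
      A.map (MulAut.conj j).toMonoidHom ≤ normalizer (D : Set G) ∧
      ¬ A.map (MulAut.conj j).toMonoidHom ≤ D := by
    by_cases hn : DX ≤ normalizer (D : Set G)
    · by_contra hno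
      push Not at hno
      refine hDD (le_antisymm (iSup₂_le fun j hj => hno j hj.1 ?_) hDDX)
      exact (le_common (Y := X) hj.1 hj.1).trans hn
    set N' := DX ⊓ normalizer (D : Set G) with hN'
    have hlt : N' < DX := lt_of_le_of_ne inf_le_left fun e => hn (e ▸ inf_le_right)
    obtain ⟨n, hn2, hn1⟩ := SetLike.exists_of_lt (H79.lt_inf_normalizer_of_lt hDXp hlt)
    by_contra hno
    push Not at hno
    apply hn1
    refine ⟨hn2.1, mem_normalizer_iff_map_conj_eq.mpr (eq_of_le_of_card_ge ?_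
      (card_map_of_injective (MulAut.conj n).injective).ge)⟩
    rintro _ ⟨d, hd, rfl⟩
    refine hDgen (D.comap (MulAut.conj n).toMonoidHom) (fun k h1 h2 => ?_) hd
    intro z hz
    have hk : A.map (MulAut.conj (n * k)).toMonoidHom ≤ N' := by
      rw [← map_conj_comp]
      rintro _ ⟨w, hw, rfl⟩
      have hwN : w ∈ N' := ⟨hDDX (hDXY ▸ le_common h1 h2 hw), le_normalizer (hDXY ▸ le_common h1 h2 hw)⟩
      exact (mem_normalizer_iff.mp hn2.2 w).mp hwN
    refine hno (n * k) ((hk.trans inf_le_left).trans common_le) (hk.trans inf_le_right) ?_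
    rw [← map_conj_comp]
    exact ⟨z, hz, rfl⟩
  have hlt : D < common A Z X := by
    refine lt_of_le_of_ne (hDgen _ fun k h1 h2 => ?_) fun e => hjD (e ▸ le_common (hjN.trans hNZ) hjX)
    exact le_common ((hDXY ▸ le_common h1 h2).trans hDZ) h1
  have hge := hmax (Z, X) ⟨hZ, hX, hZX, j, hjN.trans hNZ, hjX⟩
  exact hlt.ne (eq_of_le_of_card_ge hlt.le hge)

end H74.Glau
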