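import Cfsg.Agent.H74.Glau.Geometry
import Cfsg.Agent.H74.Glau.UniqueMax
import Cfsg.Agent.H74.SylIn

/-!
A quadratic subgroup outside the unipotent radical yields a plane section with a torus element
normalizing a `p`-subgroup that contains the transvection and a conjugate of the quadratic subgroup.
-/

set_option autoImplicit false

namespace H74.Glau

open Subgroup

universe u

variable {p : ℕ} [Fact p.Prime]

/-- A section of `V` without trivial head and socle on which `A` acts nontrivially. -/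
def HasSection {G : Type*} [Group G] {V : Type u} [AddCommGroup V] (ρ : G →* AddMonoid.End V)
    (A : Subgroup G) : Prop :=
  ∃ (W : Type u) (_ : AddCommGroup W) (_ : Finite W) (σ : G →* AddMonoid.End W)
    (Vs : AddSubgroup V) (π : Vs →+ W),
    Function.Surjective π ∧
      (∀ g, ∀ w : Vs, ∃ hw : ρ g w ∈ Vs, π ⟨ρ g w, hw⟩ = σ g (π w)) ∧
      (∀ w, (∀ g, σ g w = w) → w = 0) ∧
      AddSubgroup.closure {w | ∃ g v, w = σ g v - v} = ⊤ ∧ ∃ a ∈ A, σ a ≠ 1

/-- `A` lies in a normal subgroup whose image is a `p`-group. -/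
def InUnipotent (p : ℕ) {G : Type*} [Group G] {V : Type u} [AddCommGroup V]
    (ρ : G →* AddMonoid.End V) (A : Subgroup G) : Prop :=
  ∃ D : Subgroup G, D.Normal ∧ A ≤ D ∧ ∀ d ∈ D, ∃ k, ρ (d ^ p ^ k) = 1

theorem section_or_unipotent {G : Type*} [Group G] [Finite G] (A : Subgroup G) :
    ∀ (n : ℕ) (V : Type u) [AddCommGroup V] [Finite V] (ρ : G →* AddMonoid.End V),
      (∀ v : V, p • v = 0) → Nat.card V ≤ n → InUnipotent p ρ A ∨ HasSection ρ A := by
  intro n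
  induction n with
  | zero => intro V _ _ ρ _ h; exact absurd h (not_le.mpr Nat.card_pos)
  | succ n ih =>
  intro V _ _ ρ hpV hn
  classical
  rcases subsingleton_or_nontrivial V with hV | hV
  · exact Or.inl ⟨⊤, inferInstance, le_top, fun d _ => ⟨0, AddMonoidHom.ext fun v => Subsingleton.elim _ _⟩⟩
  obtain ⟨V2, ⟨hV2, hinv⟩, hmax⟩ := Set.exists_max_image
    {S : AddSubgroup V | S ≠ ⊤ ∧ ∀ g, ∀ w ∈ S, ρ g w ∈ S} (fun S => Nat.card S) (Set.toFinite _)
    ⟨⊥, bot_ne_top, fun g w hw => by rw [AddSubgroup.mem_bot] at hw ⊢; rw [hw, map_zero]⟩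
  let σ : G →* AddMonoid.End (V ⧸ V2) :=
    { toFun := fun g => QuotientAddGroup.map V2 V2 (ρ g) (fun w hw => hinv g w hw)
      map_one' := AddMonoidHom.ext fun w => by
        induction w using QuotientAddGroup.induction_on with | _ v =>
        show ((ρ 1 v : V) : V ⧸ V2) = (v : V ⧸ V2)
        rw [map_one]; rfl
      map_mul' := fun g h => AddMonoidHom.ext fun w => by
        induction w using QuotientAddGroup.induction_on with | _ v =>
        show ((ρ (g * h) v : V) : V ⧸ V2) = ((ρ g (ρ h v) : V) : V ⧸ V2)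
        rw [coe_mul_apply] }
  have hσ : ∀ g (v : V), σ g (v : V ⧸ V2) = ((ρ g v : V) : V ⧸ V2) := fun g v => rfl
  have hsimple : ∀ S : AddSubgroup (V ⧸ V2), (∀ g, ∀ w ∈ S, σ g w ∈ S) → S = ⊥ ∨ S = ⊤ := by
    intro S hS
    by_cases htop : S.comap (QuotientAddGroup.mk' V2) = ⊤
    · refine Or.inr (eq_top_iff.mpr fun w _ => ?_)
      obtain ⟨v, rfl⟩ := QuotientAddGroup.mk'_surjective V2 w
      exact (htop ▸ AddSubgroup.mem_top v : v ∈ S.comap (QuotientAddGroup.mk' V2))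
    refine Or.inl ((AddSubgroup.eq_bot_iff_forall S).mpr fun w hw => ?_)
    obtain ⟨v, rfl⟩ := QuotientAddGroup.mk'_surjective V2 w
    have hle : V2 ≤ S.comap (QuotientAddGroup.mk' V2) := fun u hu => by
      show (u : V ⧸ V2) ∈ S
      rw [(QuotientAddGroup.eq_zero_iff u).mpr hu]; exact zero_mem S
    have heq : V2 = S.comap (QuotientAddGroup.mk' V2) := AddSubgroup.eq_of_le_of_card_ge hle
      (hmax _ ⟨htop, fun g u hu => hS g _ hu⟩)
    exact (QuotientAddGroup.eq_zero_iff v).mpr (heq ▸ (hw : v ∈ S.comap (QuotientAddGroup.mk' V2)))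
  by_cases hA : ∃ a ∈ A, σ a ≠ 1
  · refine Or.inr ⟨V ⧸ V2, inferInstance, inferInstance, σ, ⊤,
      (QuotientAddGroup.mk' V2).comp (⊤ : AddSubgroup V).subtype, fun w => ?_,
      fun g w => ⟨trivial, rfl⟩, fun w hw => ?_, ?_, hA⟩
    · obtain ⟨v, rfl⟩ := QuotientAddGroup.mk'_surjective V2 w
      exact ⟨⟨v, trivial⟩, rfl⟩
    · let F0 : AddSubgroup (V ⧸ V2) :=
        { carrier := {w | ∀ g, σ g w = w}
          zero_mem' := fun g => map_zero _
          add_mem' := fun {s t} hs ht g => by rw [map_add, hs g, ht g]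
          neg_mem' := fun {s} hs g => by rw [map_neg, hs g] }
      rcases hsimple F0 (fun g w hw k => by rw [hw g]; exact hw k) with h | h
      · exact (AddSubgroup.eq_bot_iff_forall F0).mp h w hw
      · obtain ⟨a, -, ha⟩ := hA
        exact absurd (AddMonoidHom.ext fun w => (h ▸ AddSubgroup.mem_top w : w ∈ F0) a) ha
    · refine (hsimple _ fun g w hw => ?_).resolve_left fun h => ?_
      · induction hw using AddSubgroup.closure_induction with
        | mem w hw =>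
          obtain ⟨k, v, rfl⟩ := hw
          rw [map_sub, show σ g (σ k v) - σ g v = (σ (g * k) v - v) - (σ g v - v) by
            rw [map_mul, sub_sub_sub_cancel_right]; rfl]
          exact AddSubgroup.sub_mem _ (AddSubgroup.subset_closure ⟨g * k, v, rfl⟩)
            (AddSubgroup.subset_closure ⟨g, v, rfl⟩)
        | zero => rw [map_zero]; exact zero_mem _
        | add s t _ _ hs ht => rw [map_add]; exact add_mem hs ht
        | neg s _ hs => rw [map_neg]; exact neg_mem hs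
      · obtain ⟨a, -, ha⟩ := hA
        refine ha (AddMonoidHom.ext fun v => ?_)
        have := (AddSubgroup.eq_bot_iff_forall _).mp h _ (AddSubgroup.subset_closure ⟨a, v, rfl⟩)
        exact sub_eq_zero.mp this
  push Not at hA
  let ρ₂ : G →* AddMonoid.End V2 :=
    { toFun := fun g => ((ρ g : V →+ V).comp V2.subtype).codRestrict V2 fun w => hinv g w w.2
      map_one' := AddMonoidHom.ext fun w => Subtype.ext (by show ρ 1 (w : V) = w; rw [map_one]; rfl)
      map_mul' := fun g h => AddMonoidHom.ext fun w =>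
        Subtype.ext (coe_mul_apply ρ g h w) }
  have hlt : Nat.card V2 < Nat.card V := lt_of_le_of_ne V2.card_le_card_addGroup
    fun e => hV2 (AddSubgroup.eq_top_of_card_eq V2 e)
  rcases ih V2 ρ₂ (fun v => Subtype.ext (by simpa using hpV v)) (by omega) with
      ⟨D, hD, hAD, hDp⟩ | ⟨W, iW, fW, τ, Vs, π, hπ, heq, hfix, hperf, hne⟩
  · haveI := hD
    refine Or.inl ⟨D ⊓ σ.ker, inferInstance, le_inf hAD fun a ha => hA a ha, fun d hd => ?_⟩
    obtain ⟨k, hk⟩ := hDp d hd.1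
    refine ⟨k + 1, AddMonoidHom.ext fun v => ?_⟩
    rw [pow_succ, pow_mul]
    set c := d ^ p ^ k with hc
    have hc1 : ρ c v - v ∈ V2 := by
      have : σ c = 1 := σ.ker.pow_mem hd.2 _
      rw [← QuotientAddGroup.eq_zero_iff, QuotientAddGroup.mk_sub, ← hσ, this]
      exact sub_self _
    have hc2 : ρ c (ρ c v - v) = ρ c v - v :=
      congrArg Subtype.val (congrArg (fun f : AddMonoid.End V2 => f ⟨_, hc1⟩) hk)
    have hiter : ∀ m : ℕ, ρ (c ^ m) v = v + m • (ρ c v - v) := by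
      intro m
      induction m with
      | zero => rw [pow_zero, map_one, zero_nsmul, add_zero]; rfl
      | succ m ihm =>
        rw [pow_succ', coe_mul_apply, ihm, map_add, map_nsmul, hc2, succ_nsmul]
        abel
    show ρ (c ^ p) v = v
    rw [hiter p, hpV, add_zero]
  · refine Or.inr ⟨W, iW, fW, τ, Vs.map V2.subtype,
      π.comp (Vs.equivMapOfInjective V2.subtype Subtype.coe_injective).symm.toAddMonoidHom,
      hπ.comp (AddEquiv.surjective _), ?_, hfix, hperf, hne⟩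
    rintro g ⟨_, w, hw, rfl⟩
    obtain ⟨hgw, e⟩ := heq g ⟨w, hw⟩
    refine ⟨⟨_, hgw, rfl⟩, ?_⟩
    have e1 : ∀ (z : V2) (hz : z ∈ Vs),
        (Vs.equivMapOfInjective V2.subtype Subtype.coe_injective).symm ⟨(z : V), z, hz, rfl⟩ = ⟨z, hz⟩ :=
      fun z hz => by
        rw [AddEquiv.symm_apply_eq]; rfl
    show π _ = τ g (π _)
    exact ((congrArg π (e1 (ρ₂ g w) hgw)).trans e).trans (congrArg (fun z => τ g (π z)) (e1 w hw).symm)

variable {G : Type*} [Group G] [Finite G] {V : Type u} [AddCommGroup V] [Finite V]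

/-- Pull a plane back from a section. -/
theorem plane_lift {W : Type u} [AddCommGroup W] {ρ : G →* AddMonoid.End V}
    {σ : G →* AddMonoid.End W} {Vs : AddSubgroup V} {π : Vs →+ W} (hπ : Function.Surjective π)
    (heq : ∀ g, ∀ w : Vs, ∃ hw : ρ g w ∈ Vs, π ⟨ρ g w, hw⟩ = σ g (π w))
    {b : ℕ} {x y h : G} (v : Vs) {F : Type} [Field F]
    (hd : Nonempty (PlaneData p σ b x y h (π v) F)) :
    Nonempty (PlaneData p ρ b x y h (v : V) F) := by
  obtain ⟨P⟩ := hd
  let Y : AddSubgroup V := (P.Y.comap π).map Vs.subtype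
  have hmem : ∀ w ∈ Y, ∃ hw : w ∈ Vs, π ⟨w, hw⟩ ∈ P.Y := by
    rintro _ ⟨w, hw, rfl⟩; exact ⟨w.2, hw⟩
  let π' : Y →+ (Fin 2 → F) :=
    AddMonoidHom.mk' (fun w => P.π ⟨π ⟨w, (hmem w w.2).1⟩, (hmem w w.2).2⟩) fun s t => by
      rw [← map_add]
      congr 1
      refine Subtype.ext ?_
      exact map_add π ⟨_, (hmem s s.2).1⟩ ⟨_, (hmem t t.2).1⟩
  have hx : ∀ w ∈ Y, ρ x w ∈ Y := by
    rintro _ ⟨w, hw, rfl⟩
    obtain ⟨h1, e⟩ := heq x w
    exact ⟨⟨_, h1⟩, by show π _ ∈ P.Y; rw [e]; exact P.x_mem _ hw, rfl⟩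
  have hh : ∀ w ∈ Y, ρ h w ∈ Y := by
    rintro _ ⟨w, hw, rfl⟩
    obtain ⟨h1, e⟩ := heq h w
    exact ⟨⟨_, h1⟩, by show π _ ∈ P.Y; rw [e]; exact P.h_mem _ hw, rfl⟩
  refine ⟨{ Y := Y, π := π', mem_v := ⟨v, P.mem_v, rfl⟩, π_v := P.π_v, surj := ?_, x_mem := hx,
            h_mem := hh, l := P.l, l_ne := P.l_ne, π_x := ?_, π_h := ?_ }⟩
  · intro n
    obtain ⟨⟨w, hw⟩, hn⟩ := P.surj n
    obtain ⟨z, rfl⟩ := hπ w
    exact ⟨⟨z, z, hw, rfl⟩, hn⟩
  · intro w
    obtain ⟨h1, e⟩ := heq x ⟨w, (hmem w w.2).1⟩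
    exact (congrArg P.π (Subtype.ext e)).trans (P.π_x ⟨_, (hmem w w.2).2⟩)
  · intro w
    obtain ⟨h1, e⟩ := heq h ⟨w, (hmem w w.2).1⟩
    exact (congrArg P.π (Subtype.ext e)).trans (P.π_h ⟨_, (hmem w w.2).2⟩)

/-- The configuration for a faithful minimal group. -/
theorem config_minimal (hp : p ≠ 2) (ρ : G →* AddMonoid.End V) (hρ : ∀ g, ρ g = 1 → g = 1)
    (hpV : ∀ v : V, p • v = 0) {A : Subgroup G} (hAp : IsPGroup p A) (hq : QuadSub ρ A)
    (hA : ¬ A ≤ Cfsg.pCore p G)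
    (hmin : ∀ M : Subgroup G, M ≠ ⊤ → ∀ g : G, A.map (MulAut.conj g).toMonoidHom ≤ M →
      A.map (MulAut.conj g).toMonoidHom ≤ Cfsg.pCoreOf p M)
    (a : (ZMod p)ˣ) (ha : (a : ZMod p) ≠ 1) :
    ∃ L : Subgroup G, IsPGroup p L ∧ A ≤ L ∧ ∃ x ∈ L, ∃ h ∈ normalizer (L : Set G),
      (orderOf h).Coprime p ∧ ∃ (y : G) (v : V) (F : Type) (_ : Field F) (_ : Finite F)
        (_ : CharP F p), Nonempty (PlaneData p ρ (a : ZMod p).val x y h v F) := by
  classical
  obtain ⟨X, hX, hAX, huniq, g, hg⟩ := exists_unique_maximal hAp hA hmin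
  have hns : ¬ InUnipotent p ρ A := by
    rintro ⟨D, hD, hAD, hDp⟩
    refine hA (hAD.trans (H1.le_pCore fun d => ?_))
    obtain ⟨k, hk⟩ := hDp d d.2
    exact ⟨k, Subtype.ext (hρ _ hk)⟩
  obtain ⟨W, iW, fW, σ, Vs, π, hπ, heq, hfix, hperf, a₀, ha₀A, ha₀⟩ :=
    (section_or_unipotent A _ V ρ hpV le_rfl).resolve_left hns
  have hpW : ∀ w : W, p • w = 0 := by
    intro w
    obtain ⟨z, rfl⟩ := hπ w
    rw [← map_nsmul, show p • z = 0 from Subtype.ext (by simpa using hpV z), map_zero]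
  have hqσ : QuadSub σ A := by
    intro s hs t ht w
    obtain ⟨z, rfl⟩ := hπ w
    obtain ⟨h1, e1⟩ := heq t z
    obtain ⟨h2, e2⟩ := heq s (⟨_, h1⟩ - z)
    rw [← e1, ← map_sub, ← e2]
    exact congrArg π (Subtype.ext (hq s hs t ht z))
  obtain ⟨x, hxA, hCx, -, hpair⟩ := geometry hp σ hpW hAp hqσ hX hAX huniq hg hfix hperf a ha
  obtain ⟨y', hy', hyX⟩ := SetLike.not_le_iff_exists.mp hg
  obtain ⟨c, hc, rfl⟩ := hy'
  have hquad : Quad σ (MulAut.conj g c) := fun w => by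
    show σ (g * c * g⁻¹) (σ (g * c * g⁻¹) w - w) = σ (g * c * g⁻¹) w - w
    have h1 := hqσ c hc c hc (σ g⁻¹ w)
    have hgg : ∀ u, σ g⁻¹ (σ g u) = u := coe_inv_apply σ g
    have hgg' : σ g (σ g⁻¹ w) = w := by rw [← coe_mul_apply, mul_inv_cancel, map_one]; rfl
    simp only [coe_mul_apply, map_sub, hgg]
    rw [map_sub] at h1
    rw [← map_sub, h1, map_sub, hgg']
  obtain ⟨w₀, hw₀⟩ : ∃ w : W, w ≠ 0 := by
    by_contra hno
    push Not at hno
    exact ha₀ (AddMonoidHom.ext fun w => (hno _).trans (hno _).symm)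
  obtain ⟨v, hv, hvfix⟩ := exists_fixed_ne_zero σ hpW hAp hw₀
  obtain ⟨h, -, hhX, hcop, F, iF, iFin, iC, hd⟩ := hpair _ hquad hyX v hv (hvfix x hxA)
  obtain ⟨v', rfl⟩ := hπ v
  refine ⟨Cfsg.pCoreOf p X, (H1.isPGroup_pCore p X).map _, ?_, x, ?_, h, le_normalizer_pCoreOf X hhX, hcop,
    _, (v' : V), F, iF, iFin, iC, plane_lift hπ heq v' hd⟩
  · have hid : A.map (MulAut.conj (1 : G)).toMonoidHom = A := by rw [map_one]; exact map_id A
    exact hid.ge.trans (hmin X hX 1 (hid.le.trans hAX))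
  · have hid : A.map (MulAut.conj (1 : G)).toMonoidHom = A := by rw [map_one]; exact map_id A
    exact hid.ge.trans (hmin X hX 1 (hid.le.trans hAX)) hxA

/-- The configuration. -/
theorem config (hp : p ≠ 2) (ρ : G →* AddMonoid.End V) (hpV : ∀ v : V, p • v = 0)
    {A : Subgroup G} (hAp : IsPGroup p A) (hq : QuadSub ρ A) (hA : ¬ InUnipotent p ρ A)
    (a : (ZMod p)ˣ) (ha : (a : ZMod p) ≠ 1) :
    ∃ T : Subgroup G, IsPGroup p T ∧ (∃ g : G, A.map (MulAut.conj g).toMonoidHom ≤ T) ∧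
      (∀ S : Subgroup G, IsPGroup p S → S.Normal → (∀ s ∈ S, ρ s = 1) → S ≤ T) ∧
      ∃ x ∈ T, ∃ h ∈ normalizer (T : Set G), (orderOf h).Coprime p ∧
        ∃ (y : G) (v : V) (F : Type) (_ : Field F) (_ : Finite F)
        (_ : CharP F p), Nonempty (PlaneData p ρ (a : ZMod p).val x y h v F) := by
  classical
  set K := ρ.ker with hK
  let π : G →* G ⧸ K := QuotientGroup.mk' K
  have hπ : Function.Surjective π := QuotientGroup.mk'_surjective K
  let ρ' : G ⧸ K →* AddMonoid.End V := QuotientGroup.lift K ρ le_rfl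
  have hρ' : ∀ g, ρ' (π g) = ρ g := fun g => rfl
  have hinj : ∀ z, ρ' z = 1 → z = 1 := by
    intro z hz
    obtain ⟨g, rfl⟩ := hπ z
    exact (QuotientGroup.eq_one_iff g).mpr hz
  set A' := A.map π with hA'
  have hA'n : ¬ A' ≤ Cfsg.pCore p (G ⧸ K) := by
    intro hle
    refine hA ⟨(Cfsg.pCore p (G ⧸ K)).comap π, (H1.pCore_normal' p _).comap π,
      fun c hc => hle ⟨c, hc, rfl⟩, fun d hd => ?_⟩
    obtain ⟨k, hk⟩ := H1.isPGroup_pCore p (G ⧸ K) ⟨_, hd⟩
    exact ⟨k, by rw [← hρ', map_pow, show (π d) ^ p ^ k = 1 from congrArg Subtype.val hk, map_one]⟩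
  obtain ⟨M, ⟨g₀, hgM, hgn⟩, hmin⟩ := Set.exists_min_image
    {M : Subgroup (G ⧸ K) | ∃ g, A'.map (MulAut.conj g).toMonoidHom ≤ M ∧
      ¬ A'.map (MulAut.conj g).toMonoidHom ≤ Cfsg.pCoreOf p M}
    (fun M => Nat.card M) (Set.toFinite _) ⟨⊤, 1, le_top, fun h => hA'n fun c hc => by
      have hn : (Cfsg.pCoreOf p (⊤ : Subgroup (G ⧸ K))).Normal :=
        normalizer_eq_top_iff.mp (top_le_iff.mp (le_normalizer_pCoreOf ⊤))
      exact (le_sSup ⟨hn, (H1.isPGroup_pCore p _).map _⟩ :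
        Cfsg.pCoreOf p (⊤ : Subgroup (G ⧸ K)) ≤ Cfsg.pCore p (G ⧸ K)) (h ⟨c, hc, by
          show π 1 * c * (π 1)⁻¹ = c
          rw [map_one, one_mul, inv_one, mul_one]⟩)⟩
  obtain ⟨g₁, rfl⟩ := hπ g₀
  set A₁ := A.map (MulAut.conj g₁).toMonoidHom with hA₁
  have hA₁' : A₁.map π = A'.map (MulAut.conj (π g₁)).toMonoidHom := by
    rw [hA₁, hA', map_map, map_map]; congr 1
  have hconj : ∀ (g z : G) v, ρ (g * z * g⁻¹) v = ρ g (ρ z (ρ g⁻¹ v)) := fun g z v => by
    rw [coe_mul_apply, coe_mul_apply]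
  have hgg' : ∀ g v, ρ g (ρ g⁻¹ v) = v := fun g v => by
    rw [← coe_mul_apply, mul_inv_cancel, map_one]; rfl
  have hq₁ : QuadSub (ρ'.comp M.subtype) ((A₁.map π).subgroupOf M) := by
    rintro ⟨_, hs'⟩ ⟨_, ⟨c, hc, rfl⟩, rfl⟩ ⟨_, ht'⟩ ⟨_, ⟨d, hd, rfl⟩, rfl⟩ v
    show ρ (g₁ * c * g₁⁻¹) (ρ (g₁ * d * g₁⁻¹) v - v) = ρ (g₁ * d * g₁⁻¹) v - v
    have h1 := hq c hc d hd (ρ g₁⁻¹ v)
    rw [hconj, hconj, map_sub, coe_inv_apply, h1, map_sub, hgg']
  have hmemA : A₁.map π ≤ M := hA₁' ▸ hgM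
  obtain ⟨L, hLp, hAL, x, hx, h, hh, hhc, y, v, F, iF, iFin, iC, ⟨P⟩⟩ := config_minimal hp
    (ρ'.comp M.subtype) (fun z hz => Subtype.ext (hinj _ hz)) hpV
    (A := (A₁.map π).subgroupOf M)
    (((hAp.map _).map π).comap_of_injective M.subtype M.subtype_injective) hq₁
    (fun hle => hgn (by
      rw [← hA₁', ← map_subgroupOf_eq_of_le hmemA]
      exact map_mono hle)) (by
      intro M' hM' k hk
      have hlt : Nat.card (M'.map M.subtype) < Nat.card M := by
        rw [card_map_of_injective M.subtype_injective]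
        exact lt_of_le_of_ne (card_le_card_group M') fun e => hM' (eq_top_of_card_eq M' e)
      by_contra hn
      refine absurd (hmin (M'.map M.subtype) ⟨(k : G ⧸ K) * π g₁, ?_⟩) (not_le.mpr hlt)
      have e : A'.map (MulAut.conj ((k : G ⧸ K) * π g₁)).toMonoidHom =
          (((A₁.map π).subgroupOf M).map (MulAut.conj k).toMonoidHom).map M.subtype := by
        rw [← map_conj_comp, ← hA₁']
        conv_lhs => rw [← map_subgroupOf_eq_of_le hmemA]
        generalize (A₁.map π).subgroupOf M = S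
        ext z
        constructor
        · rintro ⟨_, ⟨w, hw, rfl⟩, rfl⟩
          exact ⟨_, ⟨w, hw, rfl⟩, rfl⟩
        · rintro ⟨_, ⟨w, hw, rfl⟩, rfl⟩
          exact ⟨_, ⟨w, hw, rfl⟩, rfl⟩
      simp only [e]
      refine ⟨map_mono hk, fun h => hn ?_⟩
      rw [pCoreOf_map M' M.subtype M.subtype_injective] at h
      exact (map_le_map_iff_of_injective M.subtype_injective).mp h) a ha
  -- lift to `G`
  set Lp := (L.map M.subtype).comap π with hLp'
  have hA₁L : A₁ ≤ Lp := fun c hc => ⟨⟨π c, hmemA ⟨c, hc, rfl⟩⟩, hAL ⟨c, hc, rfl⟩, rfl⟩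
  obtain ⟨P₀, hP₀⟩ := ((hAp.map (MulAut.conj g₁).toMonoidHom).comap_of_injective Lp.subtype
    Lp.subtype_injective).exists_le_sylow
  set T := (P₀ : Subgroup Lp).map Lp.subtype with hT
  let q : Lp →* ↥(L.map M.subtype) := π.subgroupComap (L.map M.subtype)
  have hq' : Function.Surjective q := fun z => by
    obtain ⟨g, hg⟩ := hπ z
    exact ⟨⟨g, show π g ∈ _ by rw [hg]; exact z.2⟩, Subtype.ext hg⟩
  have hTL : ∀ z ∈ L.map M.subtype, ∃ t ∈ T, π t = z := by
    intro z hz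
    have htop : (P₀ : Subgroup Lp).map q = ⊤ := by
      have h1 := P₀.mapSurjective hq'
      have h2 := ((P₀.mapSurjective hq').is_maximal' ((hLp.map _).to_subgroup ⊤) le_top)
      rw [Sylow.coe_mapSurjective] at h2
      exact h2.symm
    obtain ⟨t, ht, hte⟩ := htop.ge (mem_top ⟨z, hz⟩)
    exact ⟨_, ⟨t, ht, rfl⟩, congrArg Subtype.val hte⟩
  have hTle : T ≤ Lp := map_subtype_le _
  refine ⟨T, P₀.isPGroup'.map _, ⟨g₁, fun c hc => ⟨⟨c, hA₁L hc⟩, hP₀ hc, rfl⟩⟩, ?_, ?_⟩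
  · intro S hS hSn hS1 s hs
    have hSL : S ≤ Lp := fun s hs => by
      show π s ∈ L.map M.subtype
      rw [show π s = 1 from (QuotientGroup.eq_one_iff s).mpr (hS1 s hs)]
      exact one_mem _
    haveI : (S.subgroupOf Lp).Normal := hSn.subgroupOf Lp
    exact ⟨⟨s, hSL hs⟩, (hS.comap_of_injective Lp.subtype Lp.subtype_injective).le_sylow_of_normal P₀
      hs, rfl⟩
  obtain ⟨x', hx', hxe⟩ := hTL _ ⟨x, hx, rfl⟩
  obtain ⟨h₀, hh₀⟩ := hπ (h : G ⧸ K)
  -- Frattini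
  have hh₀L : h₀ ∈ normalizer (Lp : Set G) := by
    refine mem_normalizer_iff.mpr fun z => ?_
    show π z ∈ L.map M.subtype ↔ π (h₀ * z * h₀⁻¹) ∈ L.map M.subtype
    rw [map_mul, map_mul, map_inv, hh₀]
    exact mem_normalizer_iff.mp (le_normalizer_map M.subtype ⟨h, hh, rfl⟩) _
  obtain ⟨l, hlLp, hl⟩ := H76.exists_conj_mem_sylow P₀ (Q := T.map (MulAut.conj h₀).toMonoidHom)
    (by rintro _ ⟨t, ht, rfl⟩; exact (mem_normalizer_iff.mp hh₀L t).mp (hTle ht))
    ((P₀.isPGroup'.map _).map _)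
  obtain ⟨t, htT, hte⟩ := hTL _ (show π l ∈ L.map M.subtype from hlLp)
  set n := t⁻¹ * l * h₀ with hn
  have hnT : n ∈ normalizer (T : Set G) := by
    refine mem_normalizer_iff_map_conj_eq.mpr (eq_of_le_of_card_ge ?_
      (card_map_of_injective (MulAut.conj n).injective).ge)
    rintro _ ⟨z, hz, rfl⟩
    have h1 := hl _ ⟨z, hz, rfl⟩
    show n * z * n⁻¹ ∈ T
    rw [show n * z * n⁻¹ = t⁻¹ * (l * (h₀ * z * h₀⁻¹) * l⁻¹) * t by rw [hn]; group]
    exact T.mul_mem (T.mul_mem (T.inv_mem htT) h1) htT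
  have hπn : π n = h := by
    rw [hn, map_mul, map_mul, map_inv, hte, inv_mul_cancel, one_mul, hh₀]
  set e := (orderOf n).factorization p with he
  have hhc' : (p ^ e).Coprime (orderOf (h : G ⧸ K)) := by
    rw [Subgroup.orderOf_coe]
    exact Nat.Coprime.pow_left e hhc.symm
  obtain ⟨s, hs⟩ : ∃ s, (h : G ⧸ K) ^ (p ^ e * s) = h := by
    rcases Nat.lt_or_ge 1 (orderOf (h : G ⧸ K)) with h1 | h1
    · obtain ⟨s, -, hs⟩ := Nat.exists_mul_mod_eq_one_of_coprime hhc' h1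
      exact ⟨s, by rw [← pow_mod_orderOf, hs, pow_one]⟩
    · have : (h : G ⧸ K) = 1 := orderOf_eq_one_iff.mp (le_antisymm h1 (orderOf_pos _))
      exact ⟨0, by rw [this, one_pow]⟩
  set n' := n ^ (p ^ e * s) with hn'
  have hn'c : (orderOf n').Coprime p := by
    rw [hn', pow_mul]
    refine Nat.Coprime.coprime_dvd_left (orderOf_pow_dvd s) ?_
    rw [orderOf_pow' _ (pow_ne_zero _ (Fact.out : p.Prime).ne_zero),
      Nat.gcd_eq_right (Nat.ordProj_dvd _ p)]
    exact (Nat.coprime_ordCompl (Fact.out : p.Prime) (orderOf_pos _).ne').symm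
  obtain ⟨y', hy'⟩ := hπ (y : G ⧸ K)
  refine ⟨x', hx', n', pow_mem hnT _, hn'c, y', v, F, iF, iFin, iC, ?_⟩
  have ex : ρ x' = (ρ'.comp M.subtype) x := by rw [← hρ', hxe]; rfl
  have eh : ρ n' = (ρ'.comp M.subtype) h := by rw [← hρ', hn', map_pow, hπn, hs]; rfl
  exact ⟨{ Y := P.Y, π := P.π, mem_v := P.mem_v, π_v := P.π_v, surj := P.surj
           x_mem := fun w hw => by rw [ex]; exact P.x_mem w hw
           h_mem := fun w hw => by rw [eh]; exact P.h_mem w hw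
           l := P.l, l_ne := P.l_ne
           π_x := fun w => (congrArg P.π (Subtype.ext (congrArg (fun f : AddMonoid.End V => f w) ex))).trans (P.π_x w)
           π_h := fun w => (congrArg P.π (Subtype.ext (congrArg (fun f : AddMonoid.End V => f w) eh))).trans (P.π_h w) }⟩

end H74.Glau
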