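import Cfsg.Agent.H74.Glau.Core
import Cfsg.Agent.H79.LocalControl

/-!
The fusion theorem for a relation and a central element of order `p`.
-/

set_option autoImplicit false
set_option maxHeartbeats 1000000

namespace H74.Glau

open Subgroup

universe u

variable {p : ℕ} [Fact p.Prime]

/-- An element commuting with a subgroup `S` and lying in it lies in every largest abelian subgroup. -/
theorem mem_centerThompsonAOf_of_central {G : Type*} [Group G] [Finite G] {S : Subgroup G} {z : G}
    (hz : z ∈ S) (hc : S ≤ centralizer {z}) : z ∈ Cfsg.centerThompsonAOf S := by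
  rw [H11.centerThompsonAOf_eq, mem_sInf]
  intro A hA
  exact H11.mem_of_commute_maxFam_comm hA hz fun a ha =>
    mem_centralizer_singleton_iff.mp (hc (hA.1 ha))

/-- A subgroup of largest order among the `p`-subgroups of `M` is a Sylow subgroup of `M`. -/
theorem exists_sylow_of_card {G : Type*} [Group G] [Finite G] {M R : Subgroup G} (hRM : R ≤ M)
    (hR : IsPGroup p R) (hmax : ∀ R' : Subgroup G, IsPGroup p R' → R' ≤ M → Nat.card R' ≤ Nat.card R) :
    ∃ SR : Sylow p M, (SR : Subgroup M) = R.subgroupOf M := by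
  obtain ⟨SR, hSR⟩ :=
    (hR.comap_of_injective M.subtype M.subtype_injective : IsPGroup p (R.subgroupOf M)).exists_le_sylow
  refine ⟨SR, (eq_of_le_of_card_ge hSR ?_).symm⟩
  have e : Nat.card ↥(R.comap M.subtype) = Nat.card R := Nat.card_congr (subgroupOfEquivOfLe hRM).toEquiv
  rw [e, ← card_map_of_injective M.subtype_injective]
  exact hmax _ (SR.isPGroup'.map _) (map_subtype_le _)

theorem card_le_sylow {G : Type*} [Group G] [Finite G] (S : Sylow p G) {R : Subgroup G}
    (hR : IsPGroup p R) : Nat.card R ≤ Nat.card (S : Subgroup G) := by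
  obtain ⟨S', hS'⟩ := hR.exists_le_sylow
  exact (card_le_of_le hS').trans (S'.card_eq_multiplicity.trans S.card_eq_multiplicity.symm).le

theorem card_comap {G Y : Type*} [Group G] [Group Y] [Finite G] (π : G →* Y)
    (hπ : Function.Surjective π) (K : Subgroup Y) :
    Nat.card (K.comap π) = Nat.card π.ker * Nat.card K := by
  haveI : Finite Y := Finite.of_surjective π hπ
  have h1 := (K.comap π).card_mul_index
  rw [index_comap_of_surjective K hπ, ← π.ker.card_mul_index, index_ker, MonoidHom.range_eq_top.mpr hπ,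
    card_top, ← K.card_mul_index, ← mul_assoc] at h1
  exact Nat.eq_of_mul_eq_mul_right (Nat.pos_of_ne_zero index_ne_zero_of_finite) h1

/-- Moves by elements acting as `p`-elements lie in `E`. -/
def PCen {G : Type*} [Group G] (p : ℕ) (E : Subgroup G → G → Prop) (S : Subgroup G) : Prop :=
  ∀ U R M : Subgroup G, U ≤ R → R ≤ S → R ≤ M → M ≤ normalizer (U : Set G) →
    (∀ R' : Subgroup G, IsPGroup p R' → R' ≤ M → Nat.card R' ≤ Nat.card R) →
    (∀ g ∈ M, ∃ k : ℕ, g ^ p ^ k ∈ centralizer (U : Set G)) → ∀ g ∈ M, E U g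

theorem PCen.pull {X G : Type*} [Group X] [Group G] [Finite G] {f : X →* G} (hf : Function.Injective f)
    {E : Subgroup G → G → Prop} {S : Subgroup G} (h : PCen p E S) {R₀ : Subgroup X}
    (hR₀ : R₀.map f ≤ S) : PCen p (pullRel f E) R₀ := by
  intro U R M hUR hR hRM hn hmax hact g hg
  refine h (U.map f) (R.map f) (M.map f) (map_mono hUR) ((map_mono hR).trans hR₀) (map_mono hRM)
    ((map_mono hn).trans (le_normalizer_map f)) ?_ ?_ (f g) ⟨g, hg, rfl⟩
  · intro R' hR' hR'M
    have he : (R'.comap f).map f = R' := map_comap_eq_self (hR'M.trans (map_le_range f M))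
    rw [← he, card_map_of_injective hf, card_map_of_injective hf]
    refine hmax _ (hR'.comap_of_injective f hf) ?_
    intro x hx
    exact (mem_map_iff_mem hf).mp (hR'M hx)
  · rintro _ ⟨x, hx, rfl⟩
    obtain ⟨k, hk⟩ := hact x hx
    refine ⟨k, mem_centralizer_iff.mpr ?_⟩
    rintro _ ⟨u, hu, rfl⟩
    rw [← map_pow, ← map_mul, ← map_mul, mem_centralizer_iff.mp hk u hu]

theorem PCen.push {Y G : Type*} [Group Y] [Group G] [Finite G] {π : G →* Y}
    (hπ : Function.Surjective π) {E : Subgroup G → G → Prop} {S : Subgroup G}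
    (hkp : IsPGroup p π.ker) (hkS : π.ker ≤ S)
    (hact : ∀ g : G, ∃ k : ℕ, g ^ p ^ k ∈ centralizer (π.ker : Set G)) (h : PCen p E S) :
    PCen p (pushRel π E) (S.map π) := by
  intro U R M hUR hR hRM hn hmax hactM y hy g hg
  subst hg
  refine h (U.comap π) (R.comap π) (M.comap π) (comap_mono hUR)
    ((comap_mono hR).trans (comap_map_eq_self hkS).le) (comap_mono hRM)
    ((comap_mono hn).trans (le_normalizer_comap π)) ?_ ?_ g hy
  · intro R' hR' hR'M
    have h1 : R' ≤ (R'.map π).comap π := le_comap_map π R'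
    refine (card_le_of_le h1).trans ?_
    rw [card_comap π hπ, card_comap π hπ]
    refine Nat.mul_le_mul_left _ (hmax _ (hR'.map π) ?_)
    rintro _ ⟨x, hx, rfl⟩
    exact hR'M hx
  · intro x hx
    obtain ⟨k₁, hk₁⟩ := hactM (π x) hx
    obtain ⟨k₂, hk₂⟩ := hact (x ^ p ^ k₁)
    obtain ⟨k₃, hk₃⟩ := IsPGroup.iff_card.mp hkp
    refine ⟨k₁ + k₂ + k₃, mem_centralizer_iff.mpr fun u hu => ?_⟩
    rw [pow_add, pow_add, pow_mul, pow_mul]
    set h2 := (x ^ p ^ k₁) ^ p ^ k₂ with hh2
    set c := h2 * u * h2⁻¹ * u⁻¹ with hc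
    have hcQ : c ∈ π.ker := by
      rw [MonoidHom.mem_ker, hc, map_mul, map_mul, map_mul, map_inv, map_inv, hh2, map_pow, map_pow,
        ← mem_centralizer_iff.mp (pow_mem hk₁ (p ^ k₂)) (π u) hu, mul_inv_cancel_right, mul_inv_cancel]
    have hfix : h2 * c * h2⁻¹ = c := by
      rw [← mem_centralizer_iff.mp hk₂ c hcQ, mul_inv_cancel_right]
    have hpow : ∀ n : ℕ, h2 ^ n * u * (h2 ^ n)⁻¹ = c ^ n * u := by
      intro n
      induction n with
      | zero => simp
      | succ n ih =>
        calc h2 ^ (n + 1) * u * (h2 ^ (n + 1))⁻¹ = h2 * (h2 ^ n * u * (h2 ^ n)⁻¹) * h2⁻¹ := by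
              rw [pow_succ']; group
          _ = (h2 * c ^ n * h2⁻¹) * (h2 * u * h2⁻¹) := by rw [ih]; group
          _ = c ^ n * (c * u) := by rw [← conj_pow, hfix, hc]; group
          _ = c ^ (n + 1) * u := by rw [pow_succ]; exact (mul_assoc _ _ _).symm
    have h1 := hpow (p ^ k₃)
    have hc1 : c ^ p ^ k₃ = 1 := by
      rw [← hk₃]
      exact congrArg Subtype.val (pow_card_eq_one' (G := π.ker) (x := ⟨c, hcQ⟩))
    rw [hc1, one_mul, mul_inv_eq_iff_eq_mul] at h1
    exact h1.symm

/-- The relation induced by a normalizer has the property. -/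
theorem pcen_induced {G : Type*} [Group G] [Finite G] {S W : Subgroup G} (hS : IsPGroup p S)
    (hSW : S ≤ normalizer (W : Set G)) : PCen p (fun U g => H79.Induced W U g) S := by
  intro U R M hUR hR hRM hn hmax hact g hg
  obtain ⟨SR, hSR⟩ := exists_sylow_of_card hRM (hS.to_le hR) hmax
  set C := (centralizer (U : Set G)).subgroupOf M with hC
  haveI : C.Normal := Subgroup.Normal.mk fun c hc m => by
    rw [hC, mem_subgroupOf, mem_centralizer_iff] at hc ⊢
    intro u hu
    have h1 := hc ((m : G)⁻¹ * u * m) (by simpa using (mem_normalizer_iff.mp (inv_mem (hn m.2)) u).mp hu)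
    simp only [coe_mul, coe_inv]
    calc u * ((m : G) * c * (m : G)⁻¹) = (m : G) * (((m : G)⁻¹ * u * m) * c) * (m : G)⁻¹ := by group
      _ = _ := by rw [h1]; group
  have hq : IsPGroup p (M ⧸ C) := by
    intro y
    obtain ⟨x, rfl⟩ := QuotientGroup.mk'_surjective C y
    obtain ⟨k, hk⟩ := hact x x.2
    refine ⟨k, ?_⟩
    rw [← map_pow]
    exact (QuotientGroup.eq_one_iff _).mpr (by rw [hC, mem_subgroupOf]; simpa using hk)
  have hq' : IsPGroup p (⊤ : Subgroup (M ⧸ C)) := hq.to_subgroup _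
  have htop : ((SR.mapSurjective (QuotientGroup.mk'_surjective C)) : Subgroup (M ⧸ C)) = ⊤ :=
    top_le_iff.mp (hq'.le_sylow_of_normal _)
  obtain ⟨r, hr, hre⟩ : QuotientGroup.mk' C ⟨g, hg⟩ ∈ (SR : Subgroup M).map (QuotientGroup.mk' C) := by
    rw [← Sylow.coe_mapSurjective (QuotientGroup.mk'_surjective C), htop]
    exact mem_top _
  rw [SetLike.mem_coe, hSR, mem_subgroupOf] at hr
  refine ⟨(r : G), hSW (hR hr), fun u hu => ?_⟩
  have h1 : r⁻¹ * ⟨g, hg⟩ ∈ C := QuotientGroup.eq.mp hre
  rw [hC, mem_subgroupOf, mem_centralizer_iff] at h1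
  have h2 := h1 u hu
  simp only [coe_mul, coe_inv] at h2
  calc g * u * g⁻¹ = (r : G) * (((r : G)⁻¹ * g) * u) * g⁻¹ := by group
    _ = _ := by rw [← h2]; group

/-- Moves of `K` in `G` give moves of its image. -/
theorem nmoves_push {Y G : Type*} [Group Y] [Group G] {π : G →* Y}
    {E : Subgroup G → G → Prop} {S : Subgroup G} (hkS : π.ker ≤ S) {K : Subgroup Y}
    (h : NMoves E S (K.comap π)) : NMoves (pushRel π E) (S.map π) K := by
  intro U hU y hy hyU g hg
  subst hg
  refine h _ ((comap_mono hU).trans (comap_map_eq_self hkS).le) g hy ?_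
  rw [← comap_cj]
  exact (comap_mono hyU).trans (comap_map_eq_self hkS).le

/-- Moves in a quotient by a normal `p`-subgroup give moves in `G`. -/
theorem nmoves_of_push {Y G : Type*} [Group Y] [Group G] {π : G →* Y}
    {E : Subgroup G → G → Prop} (hE : IsRel E) {S : Subgroup G}
    (h : NMoves (pushRel π E) (S.map π) ⊤) : NMoves E S ⊤ := by
  intro U hU g _ hgU
  refine hE.mono (le_comap_map π U) (h (U.map π) (map_mono hU) (π g) (mem_top _) ?_ g rfl)
  rw [← map_cj]
  exact map_mono hgU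

/-- The statement of the fusion theorem in a group. -/
def FusionStep (p : ℕ) [Fact p.Prime] (b : ℕ) (G : Type u) [Group G] [Finite G] : Prop :=
  ∀ (S : Sylow p G) (E : Subgroup G → G → Prop) (z : G), IsRel E → PCen p E (S : Subgroup G) →
    z ∈ (S : Subgroup G) → z ^ p = 1 → (S : Subgroup G) ≤ centralizer {z} →
    NMoves E (S : Subgroup G) (normalizer (Cfsg.centerThompsonAOf (S : Subgroup G) : Set G)) →
    NMoves E (S : Subgroup G) (centralizer {z}) →
    NMoves E (S : Subgroup G) ⊤ ∨ (GoodC p b E S z ∧ GoodF p E S)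

/-- The case `G = C(O_p(G)) S`. -/
theorem quot_case {G : Type u} [Group G] [Finite G] {b : ℕ} (S : Sylow p G)
    (ih : ∀ N : Subgroup G, ∀ _ : N.Normal, N ≠ ⊥ → FusionStep p b (G ⧸ N))
    {E : Subgroup G → G → Prop} (hE : IsRel E) (hP : PCen p E (S : Subgroup G))
    (hQ : centralizer (Cfsg.pCore p G : Set G) ⊔ (S : Subgroup G) = ⊤) (hQ1 : Cfsg.pCore p G ≠ ⊥)
    (hover : ∀ M : Subgroup G, M ≠ ⊤ → (S : Subgroup G) ≤ M → NMoves E (S : Subgroup G) M)
    {z : G} (hz : z ∈ (S : Subgroup G)) (hzQ : z ∉ Cfsg.pCore p G) (hzp : z ^ p ∈ Cfsg.pCore p G)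
    (hzS : ∀ s ∈ (S : Subgroup G), s * z * s⁻¹ * z⁻¹ ∈ Cfsg.pCore p G) :
    NMoves E (S : Subgroup G) ⊤ ∨ (GoodC p b E S z ∧ GoodF p E S) := by
  haveI := H1.pCore_normal' p G
  set Q := Cfsg.pCore p G with hQdef
  have hQp : IsPGroup p Q := H1.isPGroup_pCore p G
  set π := QuotientGroup.mk' Q with hπdef
  have hπ : Function.Surjective π := QuotientGroup.mk'_surjective Q
  have hker : π.ker = Q := QuotientGroup.ker_mk' Q
  have hkS : π.ker ≤ (S : Subgroup G) := hker.le.trans (H1.pCore_le_sylow S)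
  have hact : ∀ g : G, ∃ k : ℕ, g ^ p ^ k ∈ centralizer (π.ker : Set G) := by
    intro g
    rw [hker]
    obtain ⟨c, hc, s, hs, rfl⟩ := mem_sup_of_normal_left.mp (show g ∈ centralizer (Q : Set G) ⊔ _ from hQ ▸ mem_top g)
    obtain ⟨k, hk⟩ := S.isPGroup' ⟨s, hs⟩
    refine ⟨k, (QuotientGroup.eq_one_iff _).mp ?_⟩
    show QuotientGroup.mk' (centralizer (Q : Set G)) ((c * s) ^ p ^ k) = 1
    rw [map_pow, map_mul, show QuotientGroup.mk' (centralizer (Q : Set G)) c = 1 from
      (QuotientGroup.eq_one_iff c).mpr hc, one_mul, ← map_pow,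
      show s ^ p ^ k = 1 from congrArg Subtype.val hk, map_one]
  set S' := S.mapSurjective hπ with hS'def
  have hS' : (S' : Subgroup (G ⧸ Q)) = (S : Subgroup G).map π := Sylow.coe_mapSurjective hπ S
  have hmap : ∀ {K : Subgroup (G ⧸ Q)}, K ≠ ⊤ → (S' : Subgroup (G ⧸ Q)) ≤ K →
      NMoves (pushRel π E) (S' : Subgroup (G ⧸ Q)) K := by
    intro K hK hSK
    rw [hS']
    refine nmoves_push hkS (hover _ (fun e => hK ?_) (map_le_iff_le_comap.mp (hS' ▸ hSK)))
    rw [← map_comap_eq_self_of_surjective hπ K, e, map_top_of_surjective π hπ]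
  have hbot : Cfsg.pCore p (G ⧸ Q) = ⊥ := H1.pCore_quotient_pCore p G
  have hz1 : π z ≠ 1 := fun e => hzQ ((QuotientGroup.eq_one_iff z).mp e)
  have hzmem : π z ∈ (S' : Subgroup (G ⧸ Q)) := hS' ▸ ⟨z, hz, rfl⟩
  have hzc : (S' : Subgroup (G ⧸ Q)) ≤ centralizer {π z} := by
    rw [hS']
    rintro _ ⟨s, hs, rfl⟩
    rw [mem_centralizer_singleton_iff, ← mul_inv_eq_one, mul_inv_rev, ← mul_assoc, ← map_inv,
      ← map_inv, ← map_mul, ← map_mul, ← map_mul]
    exact (QuotientGroup.eq_one_iff _).mpr (hzS s hs)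
  have hN : NMoves (pushRel π E) (S' : Subgroup (G ⧸ Q))
      (normalizer (Cfsg.centerThompsonAOf (S' : Subgroup (G ⧸ Q)) : Set (G ⧸ Q))) := by
    refine hmap (fun e => ?_) (le_normalizer.trans (H11.normalizer_le_normalizer_centerThompsonAOf _))
    haveI : (Cfsg.centerThompsonAOf (S' : Subgroup (G ⧸ Q))).Normal := normalizer_eq_top_iff.mp e
    refine hz1 (mem_bot.mp (hbot ▸ H1.le_pCore (S'.isPGroup'.to_le (H11.centerThompsonAOf_le _))
      (mem_centerThompsonAOf_of_central hzmem hzc)))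
  have hC : NMoves (pushRel π E) (S' : Subgroup (G ⧸ Q)) (centralizer {π z}) := by
    refine hmap (fun e => ?_) hzc
    have hc : π z ∈ center (G ⧸ Q) := mem_center_iff.mpr fun g =>
      mem_centralizer_singleton_iff.mp (e ▸ mem_top g)
    haveI : (zpowers (π z)).Normal := Subgroup.Normal.mk fun x hx g => by
      have hxc : x ∈ center (G ⧸ Q) := zpowers_le.mpr hc hx
      rwa [mem_center_iff.mp hxc g, mul_inv_cancel_right]
    exact hz1 (mem_bot.mp (hbot ▸ H1.le_pCore (S'.isPGroup'.to_le (zpowers_le.mpr hzmem))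
      (mem_zpowers (π z))))
  have hP' : PCen p (pushRel π E) (S' : Subgroup (G ⧸ Q)) :=
    hS' ▸ hP.push hπ (by rw [hker]; exact hQp) hkS hact
  rcases ih Q inferInstance hQ1 S' (pushRel π E) (π z) (hE.push hπ) hP' hzmem
    (by rw [← map_pow]; exact (QuotientGroup.eq_one_iff _).mpr hzp) hzc hN hC with h | ⟨h1, h2⟩
  · exact Or.inl (nmoves_of_push hE (hS' ▸ h))
  · exact Or.inr ⟨(hS' ▸ h1).of_push hπ hkS, (hS' ▸ h2).of_push hπ hkS⟩

theorem thm (hp : p ≠ 2) {a : (ZMod p)ˣ} (ha : orderOf a = p - 1) :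
    ∀ (n : ℕ) (G : Type u) [Group G] [Finite G], Nat.card G ≤ n →
      FusionStep p (a : ZMod p).val G := by
  intro n
  induction n with
  | zero => intro G _ _ h; exact absurd (Nat.card_pos (α := G)) (by omega)
  | succ n ih =>
  intro G _ _ hn S E z hE hP hz hzp hzc hH hC
  classical
  have hpp : p.Prime := Fact.out
  haveI hQn : (Cfsg.pCore p G).Normal := H1.pCore_normal' p G
  set Q := Cfsg.pCore p G with hQdef
  have hQS : Q ≤ (S : Subgroup G) := H1.pCore_le_sylow S
  by_cases hCz : centralizer {z} = ⊤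
  · exact Or.inl (hCz ▸ hC)
  by_contra hno
  push Not at hno
  obtain ⟨hnT, hnG⟩ := hno
  have hnG' : ¬ (GoodC p (a : ZMod p).val E S z ∧ GoodF p E S) := fun h => hnG h.1 h.2
  have hsub : ∀ M : Subgroup G, M ≠ ⊤ → ∀ R ≤ (S : Subgroup G), R ≤ M → z ∈ R →
      (∀ R' : Subgroup G, IsPGroup p R' → R' ≤ M → Nat.card R' ≤ Nat.card R) →
      NMoves E R (M ⊓ normalizer (Cfsg.centerThompsonAOf R : Set G)) → NMoves E R M := by
    intro M hM R hR hRM hzR hmax hclimb
    obtain ⟨SR, hSR⟩ := exists_sylow_of_card hRM (S.isPGroup'.to_le hR) hmax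
    have hlt : Nat.card M < Nat.card G :=
      lt_of_le_of_ne (card_le_card_group M) fun e => hM (eq_top_of_card_eq M e)
    have hmapR : (SR : Subgroup M).map M.subtype = R := by rw [hSR, map_subgroupOf_eq_of_le hRM]
    have hmapS : (SR : Subgroup M).map M.subtype ≤ (S : Subgroup G) := hmapR.le.trans hR
    rcases ih M (by omega) SR (pullRel M.subtype E) ⟨z, hRM hzR⟩ (hE.pull _)
      (hP.pull M.subtype_injective hmapS) (by rw [hSR, mem_subgroupOf]; exact hzR) (Subtype.ext hzp)
      (fun s hs => mem_centralizer_singleton_iff.mpr (Subtype.ext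
        (mem_centralizer_singleton_iff.mp (hzc (hmapS ⟨s, hs, rfl⟩)))))
      (nmoves_pull M.subtype hclimb hmapR.le (le_inf (map_subtype_le _) (by
        rw [hSR]
        refine (le_normalizer_map M.subtype).trans ?_
        rw [centerThompsonAOf_subgroupOf hRM])))
      (nmoves_pull M.subtype hC hmapS (by
        rintro _ ⟨x, hx, rfl⟩
        exact mem_centralizer_singleton_iff.mpr
          (congrArg Subtype.val (mem_centralizer_singleton_iff.mp hx)))) with h | ⟨h1, h2⟩
    · exact nmoves_of_subgroup hRM (hSR ▸ h)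
    · exact absurd ⟨h1.of_pull M.subtype_injective hmapS, h2.of_pull M.subtype_injective hmapS⟩ hnG'
  have hover : ∀ M : Subgroup G, M ≠ ⊤ → (S : Subgroup G) ≤ M → NMoves E (S : Subgroup G) M :=
    fun M hM hSM => hsub M hM S le_rfl hSM hz (fun R' h _ => card_le_sylow S h)
      (hH.mono_group inf_le_right)
  by_cases hQ1 : Q = ⊥
  · have hz1 : z ≠ 1 := fun e => hCz (eq_top_iff.mpr fun g _ => mem_centralizer_singleton_iff.mpr (by rw [e]; simp))
    have hTok : ∀ T : Subgroup G, T ≤ (S : Subgroup G) → T ≠ ⊥ → normalizer (T : Set G) ≠ ⊤ := by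
      intro T hT hT1 e
      haveI : T.Normal := normalizer_eq_top_iff.mp e
      exact hT1 (le_bot_iff.mp (hQ1 ▸ H1.le_pCore (S.isPGroup'.to_le hT)))
    have hzN : ∀ T : Subgroup G, T ≤ (S : Subgroup G) → z ∈ normalizer (T : Set G) := fun T hT =>
      Subgroup.mem_normalizer_fintype fun x hx => by
        rwa [← mem_centralizer_singleton_iff.mp (hzc (hT hx)), mul_inv_cancel_right]
    have hbm : (∀ U ≤ (S : Subgroup G), U ≠ ⊥ → ∀ g, cj U g ≤ (S : Subgroup G) → E U g) ∧
        ∀ R ≤ (S : Subgroup G), R ≠ ⊥ →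
          NMoves E R (normalizer (Cfsg.centerThompsonAOf R : Set G)) := by
      refine big_moves hE S (fun U => U ≠ ⊥) (fun T => normalizer (T : Set G) ≠ ⊤)
        (fun R => Cfsg.centerThompsonAOf R) (fun R _ => H11.centerThompsonAOf_le R)
        (fun R _ => H11.normalizer_le_normalizer_centerThompsonAOf R)
        (fun U V hUV _ hU hV => hU (le_bot_iff.mp (hUV.trans hV.le)))
        (fun U g _ _ hU hU' => hU ((map_eq_bot_iff_of_injective U (MulAut.conj g).injective).mp hU'))
        (fun U hU hU1 _ => hTok U hU hU1) ?_ ?_ hH ?_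
      · intro T g hT e
        haveI : (cj T g).Normal := normalizer_eq_top_iff.mp e
        apply hT
        have hTe : T = cj T g := by
          conv_lhs => rw [← cj_one T, ← inv_mul_cancel g, ← cj_mul]
          exact cj_normalizer (by rw [normalizer_eq_top]; exact mem_top _)
        rw [hTe]; exact e
      · intro R hR hR1 _
        exact hTok _ ((H11.centerThompsonAOf_le R).trans hR) fun e =>
          H11.centerThompsonAOf_ne_bot (S.isPGroup'.to_le hR) hR1 e
      · intro T hT hT1 hfull _ hclimb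
        exact hsub _ hT1 _ inf_le_left inf_le_right ⟨hz, hzN T hT⟩ hfull hclimb
    refine hnT fun U hU g _ hgU => ?_
    by_cases hU1 : U = ⊥
    · subst hU1
      exact hP ⊥ (S : Subgroup G) ⊤ bot_le le_rfl le_top (by rw [normalizer_eq_top])
        (fun R' h _ => card_le_sylow S h) (fun x _ => ⟨0, mem_centralizer_iff.mpr (by
          intro u hu; rw [SetLike.mem_coe, mem_bot] at hu; simp [hu])⟩) g (mem_top g)
    · exact hbm.1 U hU hU1 g hgU
  by_cases hCS : centralizer (Q : Set G) ⊔ (S : Subgroup G) = ⊤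
  · have hzQ : z ∉ Q := fun hzQ => hCz (eq_top_iff.mpr (hCS ▸ sup_le (fun c hc =>
      mem_centralizer_singleton_iff.mpr (mem_centralizer_iff.mp hc z hzQ).symm) hzc))
    have hq := quot_case S (b := (a : ZMod p).val) (fun N _ hN1 => ih (G ⧸ N) (by
        have h1 := card_eq_card_quotient_mul_card_subgroup N
        have h2 : 1 < Nat.card N := N.one_lt_card_iff_ne_bot.mpr hN1
        have h3 : 0 < Nat.card (G ⧸ N) := Nat.card_pos
        nlinarith)) hE hP hCS hQ1 hover hz hzQ (by rw [hzp]; exact one_mem _) fun s hs => by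
      rw [mem_centralizer_singleton_iff.mp (hzc hs), mul_inv_cancel_right, mul_inv_cancel]
      exact one_mem _
    exact hq.elim hnT hnG'
  by_cases hQC : (S : Subgroup G) ⊓ centralizer (Q : Set G) ≤ Q
  · have hzQ : z ∈ Q := hQC ⟨hz, mem_centralizer_iff.mpr fun q hq =>
      mem_centralizer_singleton_iff.mp (hzc (hQS hq))⟩
    have hmem : ∀ g, g ∈ centMod (⊥ : Subgroup G) z ↔ g ∈ centralizer ({z} : Set G) := fun g => by
      rw [mem_centMod, mem_bot, mul_inv_eq_one, mul_inv_eq_iff_eq_mul, mem_centralizer_singleton_iff]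
    have c : Ctx p S E ⊥ z :=
      { rel := hE
        z_mem := hzQ
        Z_le := bot_le
        z_fix := fun s hs => (hmem s).mpr (hzc hs)
        z_pow := by rw [hzp]; exact one_mem _
        z_W := mem_centerThompsonAOf_of_central hz hzc
        Z_W := bot_le
        cons := hQC
        hH := hH
        hC := hC.mono_group fun g hg => (hmem g).mp hg }
    exact (core hp ha (Nat.card G) G le_rfl S E ⊥ z c).elim hnT hnG'
  · haveI : (centralizer (Q : Set G)).Normal := normal_centralizer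
    refine hnT (nmoves_split hE S (centralizer (Q : Set G)) (hover _ hCS le_sup_right) (hover _ ?_
      ((le_inf le_normalizer le_normalizer_of_normal).trans inf_normalizer_le_normalizer_inf)))
    intro e
    haveI : ((S : Subgroup G) ⊓ centralizer (Q : Set G)).Normal := normalizer_eq_top_iff.mp e
    exact hQC (H1.le_pCore (S.isPGroup'.to_le inf_le_left))

end H74.Glau
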